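import Cfsg.Agent.SymNine40.Plane
import Cfsg.Agent.TIThree.FreeAutomizer
import Cfsg.Agent.S3805
import Cfsg.Agent.S3333

/-!
Centralisers of translations through their quotients by the translation.

* `Ctx.quotS`: the image of the translations in the quotient of a centraliser.
* `Ctx.centLe_halfturn`, `Ctx.centLe_klein_two`, `Ctx.centLe_klein_three`: three centralisers
  lie in the monomial group.
* `Ctx.six_or`: the centraliser of a short translation lies in the monomial group or is the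
  symmetric group of degree six modulo it.
-/

set_option autoImplicit false
set_option maxRecDepth 20000

open Equiv Subgroup

namespace CfsgLib.SymNine40

open Mw

/-- A labelling of the stabiliser of a vector by a group acting faithfully modulo the vector. -/
structure StabLabel (k : Fin 4) (v : Vec) (H : Type) [Group H] where
  /-- the codes -/
  code : H → Fin 48
  mul : ∀ a b, code (a * b) = lmul (code a) (code b)
  ok : ∀ a, Ok k (code a)
  fix : ∀ a, lact (code a) v = v
  inj : ∀ a b, code a = code b → a = b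
  surj : ∀ a, Ok k a → lact a v = v → ∃ h, code h = a
  faithful : ∀ a, Ok k a → lact a v = v →
    (∀ u : Vec, ∃ i : Fin 3, lact a u = u + i.val • v) → a = 0

theorem line_inj : ∀ v : Vec, v ≠ 0 → ∀ i j : Fin 3, i.val • v = j.val • v → i = j := by
  decide +kernel

theorem lin_mul (a b : Fin 48) : lin a * lin b = lin (lmul a b) := by
  simp only [lin, Mw.mul_def, (by decide +kernel : ∀ c : Fin 48, lact c 0 = 0) a, add_zero]

theorem plane_of_not_line : ∀ v w : Vec, v ≠ 0 → (∀ i : Fin 3, w ≠ i.val • v) →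
    ∀ i j : Fin 3, i.val • v + j.val • w = 0 → i = 0 ∧ j = 0 := by decide +kernel

theorem sub_line : ∀ v u : Vec, ∀ i : Fin 3, ∃ i' : Fin 3, u + -(i.val • v) = u + i'.val • v := by
  decide +kernel

/-- The recognition of a normal subgroup of order nine with four-group automiser. -/
theorem klein_top {X : Type*} [Group X] [Finite X] {S : Subgroup X} (P : Sylow 3 X)
    (hP : (P : Subgroup X) = S) (hT : Cfsg.IsElementaryAbelian 3 S) (hcard : Nat.card S = 9)
    (hC : centralizer (S : Set X) = S)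
    [hn : (S.subgroupOf (normalizer (S : Set X))).Normal]
    (hK : IsKleinFour ((normalizer (S : Set X)) ⧸ S.subgroupOf (normalizer (S : Set X))))
    (hloc : ∀ t ∈ S, t ≠ 1 → centralizer ({t} : Set X) ≤ normalizer (S : Set X)) :
    normalizer (S : Set X) = ⊤ := by
  subst hP
  exact Cfsg.Agent.S3805.result P hT hcard hC hK hloc

namespace Ctx

variable {G : Type*} [Group G] {k : Fin 4} (C : Ctx G k)

theorem conj_eq_of_comm {a b : G} (h : Commute a b) : a * b * a⁻¹ = b := by
  rw [h.eq, mul_inv_cancel_right]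

theorem lact_eq_of_commute {m : Mw} (hm : Ok k m.w) {v : Vec} (h : Commute (C.X m) (C.T v)) :
    lact m.w v = v := by
  have := C.X_conj_T hm v
  rw [conj_eq_of_comm h] at this
  exact (C.T_inj this).symm

/-- An element moving an independent pair of translations to translations is monomial. -/
theorem mem_N_of_pair [Finite G] {v w v' w' : Vec}
    (hi : ∀ i j : Fin 3, i.val • v + j.val • w = 0 → i = 0 ∧ j = 0) {g : G}
    (hv : g * C.T v * g⁻¹ = C.T v') (hw : g * C.T w * g⁻¹ = C.T w') : g ∈ C.N := by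
  have h : g⁻¹ ∈ C.N := by
    refine C.mem_N_of_conj_J fun u => C.cent_plane hi ?_ ?_
    · have hc := (Commute.conj_iff g⁻¹).mpr (C.T_comm u v')
      rwa [← hv, show g⁻¹ * (g * C.T v * g⁻¹) * g⁻¹⁻¹ = C.T v by group] at hc
    · have hc := (Commute.conj_iff g⁻¹).mpr (C.T_comm u w')
      rwa [← hw, show g⁻¹ * (g * C.T w * g⁻¹) * g⁻¹⁻¹ = C.T w by group] at hc
  simpa using inv_mem h

/-- The centraliser of a translation. -/
abbrev cD (v : Vec) : Subgroup G := centralizer ({C.T v} : Set G)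

/-- The translation as an element of its centraliser. -/
noncomputable def cj (v : Vec) : C.cD v := ⟨C.T v, mem_centralizer_singleton_iff.mpr rfl⟩

/-- The translations as elements of a centraliser. -/
noncomputable def cT (v : Vec) : Multiplicative Vec →* C.cD v where
  toFun u := ⟨C.T u.toAdd, mem_centralizer_singleton_iff.mpr (C.T_comm _ _).eq⟩
  map_one' := Subtype.ext C.T_zero
  map_mul' _ _ := Subtype.ext (C.T_add _ _)

instance cj_normal (v : Vec) : (zpowers (C.cj v)).Normal where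
  conj_mem := fun z hz g => by
    have hcomm : Commute g (C.cj v) := Subtype.ext (mem_centralizer_singleton_iff.mp g.2)
    obtain ⟨i, rfl⟩ := mem_zpowers_iff.mp hz
    rw [(hcomm.zpow_right i).eq, mul_inv_cancel_right]
    exact zpow_mem (mem_zpowers _) i

/-- The quotient of the centraliser by the translation. -/
abbrev cQ (v : Vec) : Type _ := C.cD v ⧸ zpowers (C.cj v)

/-- The image of a translation in the quotient. -/
noncomputable def τ (v : Vec) : Multiplicative Vec →* C.cQ v :=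
  (QuotientGroup.mk' _).comp (C.cT v)

/-- The image of the translations in the quotient. -/
noncomputable def quotS (v : Vec) : Subgroup (C.cQ v) := (C.τ v).range

theorem mem_zpowers_cj {v : Vec} {d : C.cD v} :
    d ∈ zpowers (C.cj v) ↔ ∃ i : Fin 3, C.T (i.val • v) = d := by
  constructor
  · intro h
    obtain ⟨i, rfl⟩ := mem_zpowers_iff.mp h
    refine ⟨⟨(i % 3).toNat, by omega⟩, ?_⟩
    change C.T ((i % 3).toNat • v) = ((C.cj v ^ i : C.cD v) : G)
    rw [SubgroupClass.coe_zpow, C.T_nsmul, ← zpow_natCast, Int.toNat_of_nonneg (by omega)]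
    change C.T v ^ (i % 3) = C.T v ^ i
    conv_rhs => rw [← Int.emod_add_mul_ediv i 3, zpow_add, zpow_mul]
    rw [show C.T v ^ (3 : ℤ) = 1 by
      rw [show (3 : ℤ) = ((3 : ℕ) : ℤ) from rfl, zpow_natCast, pow_succ, sq, C.T_cube],
      one_zpow, mul_one]
  · rintro ⟨i, hi⟩
    refine mem_zpowers_iff.mpr ⟨i.val, Subtype.ext ?_⟩
    rw [zpow_natCast, SubmonoidClass.coe_pow]
    exact (C.T_nsmul i.val v).symm.trans hi

theorem τ_eq_iff {v : Vec} {d : C.cD v} {u : Vec} :
    (d : C.cQ v) = C.τ v (Multiplicative.ofAdd u) ↔ ∃ i : Fin 3, C.T (u + i.val • v) = d := by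
  change _ = ((C.cT v (Multiplicative.ofAdd u) : C.cD v) : C.cQ v) ↔ _
  rw [eq_comm, QuotientGroup.eq, C.mem_zpowers_cj]
  refine exists_congr fun i => ?_
  change C.T (i.val • v) = (C.T u)⁻¹ * d ↔ _
  rw [eq_inv_mul_iff_mul_eq, C.T_add]

theorem mem_quotS {v : Vec} {d : C.cD v} :
    (d : C.cQ v) ∈ C.quotS v ↔ ∃ u, C.T u = d := by
  constructor
  · rintro ⟨u, hu⟩
    obtain ⟨i, hi⟩ := (C.τ_eq_iff (u := u.toAdd)).mp hu.symm
    exact ⟨_, hi⟩
  · rintro ⟨u, hu⟩
    refine ⟨Multiplicative.ofAdd u, ((C.τ_eq_iff).mpr ⟨0, ?_⟩).symm⟩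
    rw [Fin.val_zero, zero_nsmul, add_zero, hu]

theorem quotS_cube {v : Vec} {x : C.cQ v} (h : x ∈ C.quotS v) : x ^ 3 = 1 := by
  obtain ⟨u, rfl⟩ := h
  rw [← map_pow, show u ^ 3 = 1 from (by decide +kernel : ∀ w : Vec, 3 • w = 0) u.toAdd, map_one]

theorem quotS_comm (v : Vec) : IsMulCommutative (C.quotS v) :=
  ⟨⟨fun ⟨a, s, hs⟩ ⟨b, t, ht⟩ => Subtype.ext
    (show a * b = b * a by rw [← hs, ← ht, ← map_mul, ← map_mul, mul_comm])⟩⟩

theorem card_quotS {v : Vec} (hv : v ≠ 0) : Nat.card (C.quotS v) = 9 := by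
  let f : Fin 3 → (C.τ v).ker := fun i => ⟨Multiplicative.ofAdd (i.val • v), MonoidHom.mem_ker.mpr (by
    change ((C.cT v (Multiplicative.ofAdd (i.val • v)) : C.cD v) : C.cQ v) = 1
    exact (QuotientGroup.eq_one_iff _).mpr (C.mem_zpowers_cj.mpr ⟨i, rfl⟩))⟩
  have hf : Function.Bijective f := by
    refine ⟨fun i j e => line_inj v hv i j (congrArg (fun z => z.1.toAdd) e), fun ⟨u, hu⟩ => ?_⟩
    obtain ⟨i, hi⟩ := C.mem_zpowers_cj.mp ((QuotientGroup.eq_one_iff _).mp (MonoidHom.mem_ker.mp hu))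
    exact ⟨i, Subtype.ext (C.T_inj hi)⟩
  have h := Subgroup.card_eq_card_quotient_mul_card_subgroup (C.τ v).ker
  rw [← Nat.card_eq_of_bijective f hf, Nat.card_congr (QuotientGroup.quotientKerEquivRange _).toEquiv,
    Nat.card_eq_fintype_card (α := Fin 3), Fintype.card_fin,
    Nat.card_eq_fintype_card (α := Multiplicative Vec),
    show Fintype.card (Multiplicative Vec) = 27 from rfl] at h
  unfold quotS
  omega

theorem not_three_dvd_index [Finite G] {v : Vec} (hv : v ≠ 0) (hx : ¬ XType k v) :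
    ¬ 3 ∣ (C.quotS v).index := by
  haveI := Fact.mk Nat.prime_three
  set D := C.cD v
  have hJD : C.J ≤ D := fun j hj => mem_centralizer_singleton_iff.mpr
    (C.J_comm hj (C.T_mem_J v)).eq
  set J' : Subgroup D := C.J.subgroupOf D
  have hJ' : Nat.card J' = 27 := by
    rw [Nat.card_congr (subgroupOfEquivOfLe hJD).toEquiv, C.card_J]
  obtain ⟨R, hR⟩ := (IsPGroup.of_card (n := 3) (hJ'.trans (by norm_num)) :
    IsPGroup 3 J').exists_le_sylow
  obtain ⟨Q, hQ⟩ := (R.2.map D.subtype).exists_le_sylow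
  have heq : J' = (R : Subgroup D) := by
    refine Subgroup.eq_of_le_of_card_ge hR ?_
    by_contra hlt
    obtain ⟨r, hr⟩ := R.2.exists_card_eq
    have h4 : 4 ≤ r := by
      by_contra h
      have := Nat.pow_le_pow_right (show 1 ≤ 3 by norm_num) (show r ≤ 3 by omega)
      rw [hJ', hr] at hlt
      omega
    have heq : (R : Subgroup D).map D.subtype = (Q : Subgroup G) := by
      refine Subgroup.eq_of_le_of_card_ge hQ ?_
      rw [C.sylow_card Q, card_map_of_injective D.subtype_injective, hr]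
      exact le_trans (by norm_num) (Nat.pow_le_pow_right (by norm_num) h4)
    refine C.cent_T_card hv hx Q (fun j hj => heq ▸ ⟨⟨j, hJD hj⟩, hR hj, rfl⟩) fun q hq => ?_
    obtain ⟨d, -, rfl⟩ := heq.symm ▸ hq
    exact mem_centralizer_singleton_iff.mp d.2
  have hmap : C.quotS v = J'.map (QuotientGroup.mk' (zpowers (C.cj v))) := by
    ext x
    obtain ⟨d, rfl⟩ := QuotientGroup.mk_surjective x
    rw [C.mem_quotS]
    constructor
    · rintro ⟨u, hu⟩
      exact ⟨d, show (d : G) ∈ C.J from hu ▸ C.T_mem_J u, rfl⟩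
    · rintro ⟨e, he, hed⟩
      obtain ⟨u, hu⟩ := C.mem_J.mp (show (e : G) ∈ C.J from he)
      obtain ⟨i, hi⟩ := C.mem_zpowers_cj.mp (QuotientGroup.eq.mp hed)
      refine ⟨u + i.val • v, ?_⟩
      rw [C.T_add, hu, hi]
      simp
  rw [hmap, Subgroup.index_map_eq _ (QuotientGroup.mk'_surjective _), heq]
  · exact R.not_dvd_index
  · rw [QuotientGroup.ker_mk']
    exact zpowers_le.mpr (C.T_mem_J v)

/-- The Sylow subgroup of the quotient. -/
theorem exists_sylow_quot [Finite G] {v : Vec} (hv : v ≠ 0) (hx : ¬ XType k v) :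
    ∃ P : Sylow 3 (C.cQ v), (P : Subgroup (C.cQ v)) = C.quotS v := by
  haveI := Fact.mk Nat.prime_three
  exact ⟨(IsPGroup.of_card (n := 2) ((C.card_quotS hv).trans (by norm_num))).toSylow
    (C.not_three_dvd_index hv hx), rfl⟩

theorem mem_normalizer_quotS [Finite G] {v : Vec} {d : C.cD v} :
    (d : C.cQ v) ∈ normalizer (C.quotS v : Set (C.cQ v)) ↔ (d : G) ∈ C.N := by
  constructor
  · intro h
    refine C.mem_N_of_norm fun u => ?_
    have h1 : ((d * C.cT v (Multiplicative.ofAdd u) * d⁻¹ : C.cD v) : C.cQ v) ∈ C.quotS v :=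
      (mem_normalizer_iff.mp h _).mp ⟨Multiplicative.ofAdd u, rfl⟩
    obtain ⟨w, hw⟩ := C.mem_quotS.mp h1
    exact ⟨w, hw.symm⟩
  · intro h
    refine mem_normalizer_fintype fun x hx => ?_
    obtain ⟨u, rfl⟩ := hx
    obtain ⟨m, hm, e⟩ := C.mem_N.mp h
    refine C.mem_quotS (d := d * C.cT v u * d⁻¹).mpr ⟨lact m.w u.toAdd, ?_⟩
    rw [← C.X_conj_T hm, e]
    rfl

variable {H : Type} [Group H] {v : Vec}

theorem quotS_self [Finite G] (L : StabLabel k v H) :
    centralizer (C.quotS v : Set (C.cQ v)) = C.quotS v := by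
  refine le_antisymm (fun x hx => ?_) (fun x hx => ?_)
  · obtain ⟨d, rfl⟩ := QuotientGroup.mk_surjective x
    have hd : ∀ u, ∃ i : Fin 3, (d : G) * C.T u * (d : G)⁻¹ = C.T (u + i.val • v) := fun u => by
      have h := mem_centralizer_iff.mp hx _ ⟨Multiplicative.ofAdd u, rfl⟩
      obtain ⟨i, hi⟩ := (C.τ_eq_iff (d := d * C.cT v (Multiplicative.ofAdd u) * d⁻¹) (u := u)).mp
        (by
          rw [QuotientGroup.mk_mul, QuotientGroup.mk_mul, QuotientGroup.mk_inv, mul_inv_eq_iff_eq_mul]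
          exact h.symm)
      exact ⟨i, hi.symm⟩
    have hdN : (d : G) ∈ C.N := C.mem_N_of_norm fun u => ⟨_, (hd u).choose_spec⟩
    obtain ⟨m, hm, e⟩ := C.mem_N.mp hdN
    have hw : m.w = 0 := by
      refine L.faithful _ hm (C.lact_eq_of_commute hm ?_) fun u => ?_
      · rw [e]; exact mem_centralizer_singleton_iff.mp d.2
      · obtain ⟨i, hi⟩ := hd u
        rw [← e, C.X_conj_T hm] at hi
        exact ⟨i, C.T_inj hi⟩
    exact C.mem_quotS.mpr (C.mem_J.mp (e ▸ (C.mem_J_iff hm).mpr hw))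
  · exact mem_centralizer_iff.mpr fun y hy =>
      congrArg Subtype.val ((C.quotS_comm v).is_comm.comm ⟨y, hy⟩ ⟨x, hx⟩)

theorem exists_of_commute [Finite G] {d : C.cD v} {x : C.cQ v} (hx : x ∈ C.quotS v) (h1 : x ≠ 1)
    (hc : Commute (d : C.cQ v) x) : ∃ u, (∀ i : Fin 3, u ≠ i.val • v) ∧
      ∃ i : Fin 3, (d : G) * C.T u * (d : G)⁻¹ = C.T (u + i.val • v) := by
  obtain ⟨u, rfl⟩ := hx
  refine ⟨u.toAdd, fun i e => h1 ?_, ?_⟩
  · change ((C.cT v u : C.cD v) : C.cQ v) = 1
    exact (QuotientGroup.eq_one_iff _).mpr (C.mem_zpowers_cj.mpr ⟨i, congrArg C.T e.symm⟩)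
  · obtain ⟨i, hi⟩ := (C.τ_eq_iff (d := d * C.cT v u * d⁻¹) (u := u.toAdd)).mp
      (by
        rw [QuotientGroup.mk_mul, QuotientGroup.mk_mul, QuotientGroup.mk_inv, mul_inv_eq_iff_eq_mul]
        exact hc.eq)
    exact ⟨i, hi.symm⟩

theorem cent_le_normalizer [Finite G] (hv : v ≠ 0) {x : C.cQ v} (hx : x ∈ C.quotS v) (h1 : x ≠ 1) :
    centralizer ({x} : Set (C.cQ v)) ≤ normalizer (C.quotS v : Set (C.cQ v)) := by
  intro y hy
  obtain ⟨d, rfl⟩ := QuotientGroup.mk_surjective y
  obtain ⟨u, hu, i, hi⟩ := C.exists_of_commute hx h1 (mem_centralizer_singleton_iff.mp hy)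
  exact C.mem_normalizer_quotS.mpr
    (C.mem_N_of_pair (v := v) (w := u) (plane_of_not_line v u hv hu)
      (conj_eq_of_comm (mem_centralizer_singleton_iff.mp d.2)) hi)

/-- The automiser of the image of the translations. -/
theorem exists_autEquiv [Finite G] (L : StabLabel k v H)
    [hn : ((C.quotS v).subgroupOf (normalizer (C.quotS v : Set (C.cQ v)))).Normal] :
    Nonempty (H ≃* (normalizer (C.quotS v : Set (C.cQ v))) ⧸
      (C.quotS v).subgroupOf (normalizer (C.quotS v : Set (C.cQ v)))) := by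
  have hmem : ∀ h, C.X (lin (L.code h)) ∈ C.cD v := fun h => mem_centralizer_singleton_iff.mpr (by
    have := C.X_conj_T (a := lin (L.code h)) (L.ok h) v
    rw [show (lin (L.code h)).w = L.code h from rfl, L.fix h] at this
    exact mul_inv_eq_iff_eq_mul.mp this)
  let g : H →* normalizer (C.quotS v : Set (C.cQ v)) := MonoidHom.mk'
    (fun h => ⟨((⟨_, hmem h⟩ : C.cD v) : C.cQ v), C.mem_normalizer_quotS.mpr (C.X_mem_N _)⟩)
    fun a b => Subtype.ext (congrArg QuotientGroup.mk (Subtype.ext (by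
      change C.X (lin (L.code (a * b))) = C.X (lin (L.code a)) * C.X (lin (L.code b))
      rw [L.mul, ← lin_mul, C.X_mul (L.ok a) (L.ok b)]) :
        (⟨_, hmem (a * b)⟩ : C.cD v) = ⟨_, hmem a⟩ * ⟨_, hmem b⟩))
  refine ⟨MulEquiv.ofBijective ((QuotientGroup.mk' _).comp g) ⟨?_, ?_⟩⟩
  · rw [injective_iff_map_eq_one]
    intro h hh
    have h1 := mem_subgroupOf.mp ((QuotientGroup.eq_one_iff _).mp hh)
    obtain ⟨u, hu⟩ := C.mem_quotS.mp h1
    have h0 : L.code h = 0 := (C.mem_J_iff (m := lin (L.code h)) (L.ok h)).mp (C.mem_J.mpr ⟨u, hu⟩)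
    refine L.inj h 1 (h0.trans ?_)
    have := L.mul 1 1
    rw [one_mul] at this
    exact ((by decide +kernel : ∀ c : Fin 48, c = lmul c c → c = 0) _ this).symm
  · intro q
    obtain ⟨⟨y, hy⟩, rfl⟩ := QuotientGroup.mk_surjective q
    obtain ⟨d, rfl⟩ := QuotientGroup.mk_surjective y
    obtain ⟨m, hm, e⟩ := C.mem_N.mp (C.mem_normalizer_quotS.mp hy)
    obtain ⟨h, hh⟩ := L.surj m.w hm (C.lact_eq_of_commute hm (by
      rw [e]; exact mem_centralizer_singleton_iff.mp d.2))
    refine ⟨h, QuotientGroup.eq.mpr (mem_subgroupOf.mpr ?_)⟩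
    change (((⟨_, hmem h⟩ : C.cD v)⁻¹ * d : C.cD v) : C.cQ v) ∈ C.quotS v
    refine C.mem_quotS.mpr (C.mem_J.mp ?_)
    change (C.X (lin (L.code h)))⁻¹ * (d : G) ∈ C.J
    rw [← e, hh, ← C.X_inv (a := lin m.w) hm, ← C.X_mul (ok_inv k _ hm) hm]
    exact (C.mem_J_iff (ok_mul k _ _ (ok_inv k _ hm) hm)).mpr
      ((by decide +kernel : ∀ a : Fin 48, lmul (linv a) a = 0) m.w)

theorem centLe_of_top [Finite G]
    (h : normalizer (C.quotS v : Set (C.cQ v)) = ⊤) : C.CentLe v := fun g hg =>
  C.mem_normalizer_quotS.mp (h.symm ▸ mem_top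
    ((⟨g, mem_centralizer_singleton_iff.mpr hg.eq⟩ : C.cD v) : C.cQ v))

theorem centLe_of_klein [Finite G] (hv : v ≠ 0) (hx : ¬ XType k v)
    (L : StabLabel k v (Multiplicative (ZMod 2 × ZMod 2))) : C.CentLe v := by
  obtain ⟨P, hP⟩ := C.exists_sylow_quot hv hx
  haveI hn : ((C.quotS v).subgroupOf (normalizer (C.quotS v : Set (C.cQ v)))).Normal :=
    normal_in_normalizer
  obtain ⟨e⟩ := C.exists_autEquiv L
  have hK : IsKleinFour ((normalizer (C.quotS v : Set (C.cQ v))) ⧸
      (C.quotS v).subgroupOf (normalizer (C.quotS v : Set (C.cQ v)))) := by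
    refine ⟨(Nat.card_congr e.symm.toEquiv).trans (by rw [Nat.card_eq_fintype_card]; rfl),
      (Monoid.exponent_eq_of_mulEquiv e.symm).trans IsKleinFour.exponent_two⟩
  exact C.centLe_of_top (klein_top P hP ⟨C.quotS_comm v, fun a ha => C.quotS_cube ha⟩
    (C.card_quotS hv) (C.quotS_self L) hK fun t ht h1 => C.cent_le_normalizer hv ht h1)

end Ctx

/-- The labelling for the half turn. -/
def halfturnLabel : StabLabel 1 (0, 1, 2) (Multiplicative (ZMod 2)) where
  code x := if x.toAdd = 0 then 0 else 43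
  mul := by decide +kernel
  ok := by decide +kernel
  fix := by decide +kernel
  inj := by decide +kernel
  surj := by decide +kernel
  faithful := by decide +kernel

/-- The labelling for the short translation and even sign changes. -/
def kleinTwoLabel : StabLabel 2 e3 (Multiplicative (ZMod 2 × ZMod 2)) where
  code x := if x.toAdd.1 = 0 then (if x.toAdd.2 = 0 then 0 else 2)
    else (if x.toAdd.2 = 0 then 18 else lmul 18 2)
  mul := by decide +kernel
  ok := by decide +kernel
  fix := by decide +kernel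
  inj := by decide +kernel
  surj := by decide +kernel
  faithful := by decide +kernel

/-- The labelling for the long translation and all sign changes. -/
def kleinThreeLabel : StabLabel 3 (0, 1, 1) (Multiplicative (ZMod 2 × ZMod 2)) where
  code x := if x.toAdd.1 = 0 then (if x.toAdd.2 = 0 then 0 else 1)
    else (if x.toAdd.2 = 0 then 6 else lmul 6 1)
  mul := by decide +kernel
  ok := by decide +kernel
  fix := by decide +kernel
  inj := by decide +kernel
  surj := by decide +kernel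
  faithful := by decide +kernel

/-- The rotations of the square on the first two coordinates. -/
def rotCode (i : ZMod 4) : Fin 48 :=
  ![0, lmul 2 6, lmul (lmul 2 6) (lmul 2 6), lmul (lmul (lmul 2 6) (lmul 2 6)) (lmul 2 6)] i

/-- The labelling for the short translation and all sign changes. -/
def squareLabel : StabLabel 3 e3 (DihedralGroup 4) where
  code x := match x with
    | .r i => rotCode i
    | .sr i => lmul 2 (rotCode i)
  mul := by decide +kernel
  ok := by decide +kernel
  fix := by decide +kernel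
  inj := by decide +kernel
  surj := by decide +kernel
  faithful := by decide +kernel

theorem halfturn_free : ∀ u : Vec, (∀ i : Fin 3, u ≠ i.val • ((0, 1, 2) : Vec)) →
    ∀ a, Ok 1 a → lact a (0, 1, 2) = ((0, 1, 2) : Vec) →
      ∀ i : Fin 3, lact a u = u + i.val • ((0, 1, 2) : Vec) → a = 0 := by decide +kernel

theorem halfturn_classes : ∀ a, Ok 1 a → lact a (0, 1, 2) = ((0, 1, 2) : Vec) →
    ∀ i : Fin 3, lact a e1 ≠ e2 + i.val • ((0, 1, 2) : Vec) := by decide +kernel

theorem halfturn_indep : ∀ i j : Fin 3,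
    i.val • ((0, 1, 2) : Vec) + j.val • e1 = 0 → i = 0 ∧ j = 0 := by decide +kernel

theorem halfturn_basic : ((0, 1, 2) : Vec) ≠ 0 ∧ ¬ XType 1 (0, 1, 2) ∧
    (∀ i : Fin 3, e1 ≠ i.val • ((0, 1, 2) : Vec)) ∧ ∀ i : Fin 3, e2 ≠ i.val • ((0, 1, 2) : Vec) := by
  decide +kernel

namespace Ctx

variable {G : Type*} [Group G]

theorem centLe_halfturn [Finite G] (C : Ctx G 1) : C.CentLe (0, 1, 2) := by
  obtain ⟨hv, hx, h1, h2⟩ := halfturn_basic
  set v : Vec := (0, 1, 2) with hvdef
  obtain ⟨P, hP⟩ := C.exists_sylow_quot hv hx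
  haveI hn : ((C.quotS v).subgroupOf (normalizer (C.quotS v : Set (C.cQ v)))).Normal :=
    normal_in_normalizer
  obtain ⟨e⟩ := C.exists_autEquiv halfturnLabel
  have hne : ∀ u : Vec, (∀ i : Fin 3, u ≠ i.val • v) → C.τ v (Multiplicative.ofAdd u) ≠ 1 := by
    intro u hu h
    obtain ⟨i, hi⟩ := C.mem_zpowers_cj.mp ((QuotientGroup.eq_one_iff _).mp h)
    exact hu i (C.T_inj hi).symm
  rcases TIThree.normalizer_eq_top_or P
    ((congrArg (fun S : Subgroup (C.cQ v) => Nat.card S) hP).trans (C.card_quotS hv))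
    (fun a ha => C.quotS_cube (hP ▸ ha))
    (fun a ha b hb => congrArg Subtype.val
      ((C.quotS_comm v).is_comm.comm ⟨a, hP ▸ ha⟩ ⟨b, hP ▸ hb⟩))
    (fun s hs hs1 => by
      rw [hP] at hs ⊢
      refine le_antisymm (fun y hy => ?_) fun y hy => mem_centralizer_singleton_iff.mpr
        (congrArg Subtype.val ((C.quotS_comm v).is_comm.comm ⟨y, hy⟩ ⟨s, hs⟩))
      obtain ⟨d, rfl⟩ := QuotientGroup.mk_surjective y
      obtain ⟨m, hm, em⟩ := C.mem_N.mp
        (C.mem_normalizer_quotS.mp (C.cent_le_normalizer hv hs hs1 hy))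
      obtain ⟨u, hu, i, hi⟩ := C.exists_of_commute hs hs1 (mem_centralizer_singleton_iff.mp hy)
      refine C.mem_quotS.mpr (C.mem_J.mp ?_)
      rw [← em, C.X_conj_T hm] at hi
      rw [← em]
      refine (C.mem_J_iff hm).mpr (halfturn_free u hu m.w hm
        (C.lact_eq_of_commute hm ?_) i (C.T_inj hi))
      rw [em]; exact mem_centralizer_singleton_iff.mp d.2)
    (C.τ v (Multiplicative.ofAdd e1)) (C.τ v (Multiplicative.ofAdd e2))
    (hP.symm ▸ ⟨_, rfl⟩) (hP.symm ▸ ⟨_, rfl⟩) (hne _ h1) (hne _ h2)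
    (fun g hg => by
      obtain ⟨d, rfl⟩ := QuotientGroup.mk_surjective g
      obtain ⟨i, hi⟩ := (C.τ_eq_iff (d := d * C.cT v (Multiplicative.ofAdd e1) * d⁻¹)).mp hg
      obtain ⟨m, hm, em⟩ := C.mem_N.mp (C.mem_N_of_pair halfturn_indep
        (conj_eq_of_comm (mem_centralizer_singleton_iff.mp d.2)) hi.symm)
      have hi' : C.T (lact m.w e1) = C.T (e2 + i.val • v) := by
        rw [← C.X_conj_T hm, em]; exact hi.symm
      refine halfturn_classes m.w hm (C.lact_eq_of_commute hm ?_) i (C.T_inj hi')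
      rw [em]; exact mem_centralizer_singleton_iff.mp d.2) with h | ⟨h, -⟩
  · rw [hP] at h; exact C.centLe_of_top h
  · exfalso
    haveI := Fact.mk Nat.prime_three
    have hN : Nat.card (normalizer (C.quotS v : Set (C.cQ v))) = 18 := by
      rw [← ((C.quotS v).subgroupOf (normalizer (C.quotS v : Set (C.cQ v)))).card_mul_index,
        Nat.card_congr (subgroupOfEquivOfLe le_normalizer).toEquiv, C.card_quotS hv, index_eq_card,
        ← Nat.card_congr e.toEquiv, Nat.card_eq_fintype_card]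
      rfl
    have hcard := (normalizer (C.quotS v : Set (C.cQ v))).card_mul_index
    rw [hN, h] at hcard
    have h3 := card_sylow_modEq_one 3 (C.cQ v)
    rw [P.card_eq_index_normalizer, Nat.ModEq] at h3
    change (normalizer ((P : Subgroup (C.cQ v)) : Set (C.cQ v))).index % 3 = 1 % 3 at h3
    rw [hP] at h3
    omega

theorem centLe_klein_two [Finite G] (C : Ctx G 2) : C.CentLe e3 :=
  C.centLe_of_klein (by decide +kernel) (by decide +kernel) kleinTwoLabel

theorem centLe_klein_three [Finite G] (C : Ctx G 3) : C.CentLe (0, 1, 1) :=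
  C.centLe_of_klein (by decide +kernel) (by decide +kernel) kleinThreeLabel

theorem six_or [Finite G] (C : Ctx G 3) : C.CentLe e3 ∨ C.SixType := by
  have hv : e3 ≠ 0 := by decide +kernel
  obtain ⟨P, hP⟩ := C.exists_sylow_quot hv (by decide +kernel : ¬ XType 3 e3)
  haveI hn : ((C.quotS e3).subgroupOf (normalizer (C.quotS e3 : Set (C.cQ e3)))).Normal :=
    normal_in_normalizer
  obtain ⟨e⟩ := C.exists_autEquiv squareLabel
  rcases Cfsg.Agent.S3333.result P (C.quotS e3) hP.symm (C.card_quotS hv)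
    (C.quotS_self squareLabel) e.symm (fun x hx h1 => C.cent_le_normalizer hv hx h1) with h | h
  · exact Or.inl (C.centLe_of_top (normalizer_eq_top_iff.mpr h))
  · obtain ⟨f⟩ := h
    refine Or.inr ⟨f.toMonoidHom.comp (QuotientGroup.mk' (zpowers (C.cj e3))),
      f.surjective.comp QuotientGroup.mk_surjective, fun c => ?_⟩
    change f (c : C.cQ e3) = 1 ↔ _
    rw [f.map_eq_one_iff, QuotientGroup.eq_one_iff, C.mem_zpowers_cj]
    refine exists_congr fun i => ?_
    rw [(by decide +kernel : ∀ j : Fin 3, j.val • e3 = unit 2 j) i]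

end Ctx

end CfsgLib.SymNine40
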