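import Cfsg.Agent.SymNine40.Plane

/-!
Centralisers of translations with a reflection as stabiliser.

* `Ctx.centLe_refl`: such a centraliser lies in the monomial group.
* `Ctx.allLe_of`: all centralisers but those of the special orbits are settled.
-/

set_option autoImplicit false
set_option maxRecDepth 20000

open Equiv Subgroup

namespace CfsgLib.SymNine40

open Mw

/-- The stabiliser is trivial or is generated by a reflection. -/
def ReflOk (k : Fin 4) (v : Vec) : Prop :=
  (∀ b, Ok k b → lact b v = v → b = 0) ∨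
    ∃ a, Ok k a ∧ a ≠ 0 ∧ lmul a a = 0 ∧ lact a v = v ∧
      (∀ b, Ok k b → lact b v = v → b = 0 ∨ b = a) ∧
      ∃ w, lact a w = w ∧ (∀ i j : Fin 3, comb v w i j = 0 → i = 0 ∧ j = 0) ∧
        ∃ r, r ≠ 0 ∧ lact a r = -r ∧ Spans v w r

/-- The representative of the special orbit. -/
def spRep (k : Fin 4) : Vec := if k = 1 then (0, 1, 2) else if k = 2 then e3 else (0, 1, 1)

/-- The orbits treated through quotients. -/
def Special (k : Fin 4) (v : Vec) : Prop :=
  k ≠ 0 ∧ ∃ b, Ok k b ∧ (lact b (spRep k) = v ∨ lact b (spRep k) = -v)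

set_option synthInstance.maxSize 4000 in
set_option synthInstance.maxHeartbeats 100000 in
instance (k : Fin 4) (v : Vec) : Decidable (ReflOk k v) := by unfold ReflOk; infer_instance

instance (k : Fin 4) (v : Vec) : Decidable (Special k v) := by unfold Special; infer_instance

theorem refl_table : ∀ k : Fin 4, ∀ v : Vec, v ≠ 0 → xT k v = false → (k = 3 → ¬ Wt1 v) →
    ReflOk k v ∨ Special k v := by decide +kernel

namespace Ctx

variable {G : Type*} [Group G] {k : Fin 4} (C : Ctx G k)

theorem centLe_refl [Finite G] {v : Vec} (hv : v ≠ 0) (hx : ¬ XType k v) (h : ReflOk k v) :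
    C.CentLe v := by
  classical
  haveI : Fact (Nat.Prime 3) := ⟨Nat.prime_three⟩
  set X := centralizer ({C.T v} : Set G) with hX
  have hmemX : ∀ g, g ∈ X ↔ Commute g (C.T v) := fun g => mem_centralizer_singleton_iff
  have hJ : C.J ≤ X := fun j hj => (hmemX j).mpr (C.J_comm hj (C.T_mem_J v))
  have hstab : ∀ m, Ok k m.w → C.X m ∈ X → lact m.w v = v := fun m hm hmX => by
    have h1 := C.X_conj_T hm v
    rw [((hmemX _).mp hmX).eq, mul_inv_cancel_right] at h1
    exact (C.T_inj h1).symm
  intro g hg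
  rcases h with hfree | ⟨a, ha, -, ha2, hav, hst, w, haw, hind, r, hr, har, hsp⟩
  · exact C.J_le_N (C.le_J_of_free hv hx X hJ (fun d hd => (hmemX d).mp hd)
      (fun m hm hmX => hfree m.w hm (hstab m hm hmX)) ((hmemX g).mpr hg))
  obtain ⟨P, hP⟩ := C.sylow_J hv hx X hJ fun d hd => (hmemX d).mp hd
  let emb : Vec → X := fun u => ⟨C.T u, hJ (C.T_mem_J u)⟩
  have hembP : ∀ u, emb u ∈ (P : Subgroup X) := fun u => (hP _).mpr (C.T_mem_J u)
  have hemb : ∀ u u', emb (u + u') = emb u * emb u' := fun u u' => Subtype.ext (C.T_add u u')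
  let D : Subgroup X :=
    { carrier := {d | ∃ i j, d = emb (comb v w i j)}
      one_mem' := ⟨0, 0, Subtype.ext (by simp [emb, comb, C.T_zero])⟩
      mul_mem' := by
        rintro _ _ ⟨i, j, rfl⟩ ⟨i', j', rfl⟩
        refine ⟨i + i', j + j', ?_⟩
        rw [← hemb]
        refine congrArg emb ?_
        simp only [comb]
        rw [(by decide +kernel : ∀ i i' : Fin 3, ∀ u : Vec,
            (i + i').val • u = i.val • u + i'.val • u) i i' v,
            (by decide +kernel : ∀ i i' : Fin 3, ∀ u : Vec,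
            (i + i').val • u = i.val • u + i'.val • u) j j' w]
        abel
      inv_mem' := by
        rintro _ ⟨i, j, rfl⟩
        refine ⟨-i, -j, Subtype.ext ?_⟩
        change (C.T (comb v w i j))⁻¹ = C.T (comb v w (-i) (-j))
        rw [← C.T_neg]
        refine congrArg C.T ?_
        simp only [comb]
        rw [(by decide +kernel : ∀ i : Fin 3, ∀ u : Vec, (-i).val • u = -(i.val • u)) i v,
          (by decide +kernel : ∀ i : Fin 3, ∀ u : Vec, (-i).val • u = -(i.val • u)) j w]
        abel }
  set t : X := ⟨C.X (lin a), (hmemX _).mpr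
    (mul_inv_eq_iff_eq_mul.mp ((C.X_conj_T (a := lin a) ha v).trans (congrArg C.T hav)))⟩
  have hcomb : ∀ i j, lact a (comb v w i j) = comb v w i j := by
    intro i j
    have h := fun n u => (AddMonoidHom.mk' (lact a) (lact_add a)).map_nsmul u n
    simp only [AddMonoidHom.mk'_apply] at h
    rw [comb, lact_add, h, h, hav, haw]
  have hfix : ∀ n : X, (n : G) ∈ C.N → ∀ i j, n * emb (comb v w i j) = emb (comb v w i j) * n := by
    intro n hn i j
    obtain ⟨m, hm, e⟩ := C.mem_N.mp hn
    refine Subtype.ext ?_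
    change (n : G) * C.T _ = C.T _ * (n : G)
    rw [← e]
    refine mul_inv_eq_iff_eq_mul.mp ((C.X_conj_T hm _).trans (congrArg C.T ?_))
    rcases hst m.w hm (hstab m hm (e ▸ n.2)) with h0 | h0 <;> rw [h0]
    · exact lact_zero _
    · exact hcomb i j
  have htsq : t * t = 1 := Subtype.ext (by
    change C.X (lin a) * C.X (lin a) = 1
    rw [← C.X_mul (a := lin a) ha ha]
    exact (congrArg C.X (show lin a * lin a = 1 by
      change (⟨0 + lact a 0, lmul a a⟩ : Mw) = ⟨0, 0⟩
      rw [ha2, (by decide +kernel : ∀ b, lact b 0 = 0) a, add_zero])).trans C.X_one)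
  have hti : t⁻¹ = t := inv_eq_of_mul_eq_one_right htsq
  have key := PSp43Amalgam.local_structure P D (by rintro _ ⟨i, j, rfl⟩; exact hembP _)
    (fun p hp q hq => Subtype.ext (C.J_comm ((hP p).mp hp) ((hP q).mp hq)).eq)
    (fun p hp => Subtype.ext (by
      obtain ⟨u, hu⟩ := C.mem_J.mp ((hP p).mp hp)
      rw [SubgroupClass.coe_pow, ← hu, pow_succ, sq]
      exact C.T_cube u))
    (fun n hn d hd => by
      obtain ⟨i, j, rfl⟩ := hd
      exact hfix n (C.norm_J_sub hJ hP hn) i j)
    (r := emb r) (t := t) (hembP r) (fun e => hr (C.T_inj ((congrArg Subtype.val e).trans C.T_zero.symm)))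
    htsq (by
      rw [← hti]
      nth_rw 1 [hti]
      exact Subtype.ext (by
        change C.X (lin a) * C.T r * (C.X (lin a))⁻¹ = (C.T r)⁻¹
        rw [C.X_conj_T (a := lin a) ha, ← C.T_neg]
        exact congrArg C.T har))
    (by
      rintro _ ⟨i, j, rfl⟩
      exact hfix t (C.X_mem_N _) i j)
    (fun q hq => by
      obtain ⟨u, hu⟩ := C.mem_J.mp ((hP q).mp hq)
      obtain ⟨i, j, l, rfl⟩ := hsp u
      refine ⟨emb (comb v w i j), ⟨i, j, rfl⟩, (l.val : ℤ), Subtype.ext ?_⟩
      rw [← hu, C.T_add, C.T_nsmul, zpow_natCast]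
      rfl)
    (fun y hy => by
      have hyr : Commute (y : G) (C.T r) := congrArg Subtype.val hy
      have hyv : Commute (y : G) (C.T v) := (hmemX _).mp y.2
      have hindr : ∀ i j : Fin 3, i.val • v + j.val • r = 0 → i = 0 ∧ j = 0 := by
        intro i j hij
        have h1 : lact a (i.val • v + j.val • r) = 0 := by
          rw [hij]; exact (by decide +kernel : ∀ b, lact b 0 = 0) a
        have h := fun n u => (AddMonoidHom.mk' (lact a) (lact_add a)).map_nsmul u n
        simp only [AddMonoidHom.mk'_apply] at h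
        rw [lact_add, h, h, hav, har] at h1
        exact (by decide +kernel : ∀ v r : Vec, v ≠ 0 → r ≠ 0 → ∀ i j : Fin 3,
          i.val • v + j.val • r = 0 → i.val • v + j.val • -r = 0 → i = 0 ∧ j = 0)
          v r hv hr i j hij h1
      obtain ⟨m, hm, e⟩ := C.mem_N.mp (C.cent_plane hindr hyv hyr)
      refine (hP y).mpr (e ▸ (C.mem_J_iff hm).mpr ?_)
      have hmr : lact m.w r = r := by
        have h1 := C.X_conj_T hm r
        rw [e, hyr.eq, mul_inv_cancel_right] at h1
        exact (C.T_inj h1).symm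
      refine (hst m.w hm (hstab m hm (e ▸ y.2))).resolve_right fun h0 => ?_
      rw [h0, har] at hmr
      exact hr ((by decide : ∀ u : Vec, -u = u → u = 0) _ hmr))
    (fun y hy => by
      have hyw : Commute (y : G) (C.T w) := by
        have h1 := congrArg Subtype.val (hy _ ⟨0, 1, rfl⟩)
        simpa [emb, comb, Commute, SemiconjBy] using h1
      obtain ⟨m, hm, e⟩ := C.mem_N.mp (C.cent_plane hind ((hmemX _).mp y.2) hyw)
      rcases hst m.w hm (hstab m hm (e ▸ y.2)) with h0 | h0
      · exact Or.inl ((hP y).mpr (e ▸ (C.mem_J_iff hm).mpr h0))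
      · refine Or.inr ((hP _).mpr ?_)
        change (y : G) * C.X (lin a) ∈ C.J
        rw [← e, ← C.X_mul hm (b := lin a) ha, C.mem_J_iff (m := m * lin a) (ok_mul k _ _ hm ha)]
        change lmul m.w a = 0
        rw [h0, ha2])
    (fun W hW hWn => C.sig_sub hJ W hW fun p hp b hb =>
      (mem_normalizer_iff.mp (hWn ((hP p).mpr hp)) b).mp hb)
  rcases key ⟨g, (hmemX g).mpr hg⟩ with h1 | h1
  · exact C.J_le_N ((hP _).mp h1)
  · have h2 := C.J_le_N ((hP _).mp h1)
    change g * C.X (lin a) ∈ C.N at h2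
    simpa using mul_mem h2 (inv_mem (C.X_mem_N (lin a)))

/-- All centralisers of translations but the special ones. -/
theorem allLe_of [Finite G] (hs : k ≠ 0 → C.CentLe (spRep k)) : C.AllLe := by
  intro v hv hw
  by_cases hx : xT k v = true
  · exact C.centLe_xType ((xT_iff k v).mp hx)
  · rw [Bool.not_eq_true] at hx
    rcases refl_table k v hv hx hw with h | ⟨h0, b, hb, e | e⟩
    · exact C.centLe_refl hv (fun h' => by rw [(xT_iff k v).mpr h'] at hx; simp at hx) h
    · exact e ▸ C.centLe_conj (hs h0) hb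
    · have := C.centLe_neg (C.centLe_conj (hs h0) hb)
      rwa [e, neg_neg] at this

end Ctx

end CfsgLib.SymNine40
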