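import Cfsg.Agent.SymNine40.CaseOneMain
import Cfsg.Agent.SymNine40.Reflect
import Cfsg.Agent.SymNine40.Quot

/-!
The configuration with linear parts the permutations and their negatives.

* `Ctx.case_one`: the translations are normal.
-/

set_option autoImplicit false

namespace CfsgLib.SymNine40

variable {G : Type*} [Group G]

theorem Ctx.case_one [Finite G] (C : Ctx G 1) : C.J.Normal :=
  C.case_one_of (C.allLe_of fun _ => C.centLe_halfturn)

end CfsgLib.SymNine40
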