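import Cfsg.Agent.SymNine40.Local
import Cfsg.Agent.SymNine40.Quot
import Cfsg.Agent.SymNine40.Reflect
import Cfsg.Agent.SymEight40.SixTable
import Cfsg.Agent.S3805
import Cfsg.Agent.S3333

/-!
The full monomial group with local short translations: the translations are normal.
-/

set_option autoImplicit false
set_option maxRecDepth 20000

open Equiv Subgroup

namespace CfsgLib.SymNine40

open Mw

universe u

/-- A representative of the automizer at the centraliser of the exchange of two blocks. -/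
def embTwo : DihedralGroup 2 → Fin 48
  | DihedralGroup.r i => if i.val = 0 then 0 else 18
  | DihedralGroup.sr i => if i.val = 0 then 24 else lmul 24 18

/-- The quotient map at the exchange of two blocks. -/
def psiTwo (a : Fin 48) : DihedralGroup 2 :=
  (([.r 0, .r 1, .sr 0, .sr 1] : List (DihedralGroup 2)).find? fun k =>
    embTwo k == a || lmul 2 (embTwo k) == a).getD 1

/-- A rotation of the last two coordinates. -/
def rot (i : ℕ) : Fin 48 :=
  [0, lmul 12 1, lmul (lmul 12 1) (lmul 12 1), lmul (lmul (lmul 12 1) (lmul 12 1)) (lmul 12 1)].getD i 0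

/-- A representative of the automizer at the centraliser of a transposition. -/
def embFour : DihedralGroup 4 → Fin 48
  | DihedralGroup.r i => rot i.val
  | DihedralGroup.sr i => lmul 24 (rot i.val)

/-- The quotient map at a transposition. -/
def psiFour (a : Fin 48) : DihedralGroup 4 :=
  (([.r 0, .r 1, .r 2, .r 3, .sr 0, .sr 1, .sr 2, .sr 3] : List (DihedralGroup 4)).find? fun k =>
    embFour k == a || lmul 6 (embFour k) == a).getD 1

set_option synthInstance.maxSize 4000 in
set_option synthInstance.maxHeartbeats 200000 in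
theorem psiTwo_facts :
    (∀ a b, lmul a 2 = lmul 2 a → lmul b 2 = lmul 2 b → psiTwo (lmul a b) = psiTwo a * psiTwo b) ∧
    (∀ k, ∃ a, lmul a 2 = lmul 2 a ∧ psiTwo a = k) ∧
    (∀ a, lmul a 2 = lmul 2 a → (psiTwo a = 1 ↔ a = 0 ∨ a = 2)) ∧
    (∀ v : Vec, lact 2 v = v ↔ ∃ i j : Fin 3, v = i.val • ((1, 1, 0) : Vec) + j.val • e3) ∧
    Fintype.card {v : Vec // lact 2 v = v} = 9 ∧
    (∀ a, lmul a 2 = lmul 2 a → lact a ((1, 1, 0) : Vec) = (1, 1, 0) → lact a e3 = e3 →
      a = 0 ∨ a = 2) ∧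
    (∀ i j : Fin 3, i.val • ((1, 1, 0) : Vec) + j.val • e3 = 0 → i = 0 ∧ j = 0) := by
  decide +kernel

set_option synthInstance.maxSize 4000 in
set_option synthInstance.maxHeartbeats 200000 in
theorem psiFour_facts :
    (∀ a b, lmul a 6 = lmul 6 a → lmul b 6 = lmul 6 b → psiFour (lmul a b) = psiFour a * psiFour b) ∧
    (∀ k, ∃ a, lmul a 6 = lmul 6 a ∧ psiFour a = k) ∧
    (∀ a, lmul a 6 = lmul 6 a → (psiFour a = 1 ↔ a = 0 ∨ a = 6)) ∧
    (∀ v : Vec, lact 6 v = v ↔ ∃ i j : Fin 3, v = i.val • e2 + j.val • e3) ∧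
    Fintype.card {v : Vec // lact 6 v = v} = 9 ∧
    (∀ a, lmul a 6 = lmul 6 a → lact a e2 = e2 → lact a e3 = e3 → a = 0 ∨ a = 6) ∧
    (∀ i j : Fin 3, i.val • e2 + j.val • e3 = 0 → i = 0 ∧ j = 0) := by
  decide +kernel

theorem three_table : ∀ m : Mw, m * m * m = 1 →
    (m * lin 2 = lin 2 * m → m.w = 0) ∧ (m * lin 6 = lin 6 * m → m.w = 0) := by
  decide +kernel

theorem four_table : ∀ a ∈ ([2, 6] : List (Fin 48)), ∀ i : Vec, tr i * lin a = lin a * tr i →
    ∀ m, m * lin a = lin a * m → m * m = 1 →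
    m * (tr i * m * (tr i)⁻¹) = tr i * m * (tr i)⁻¹ * m → tr i * m = m * tr i := by
  decide +kernel

theorem six_commuting : ∀ j : Fin 3, ∃ x : Perm (Fin 6), x * SymEight40.rep6 j = SymEight40.rep6 j * x ∧
    x * x * (x * x) = 1 ∧ x * x ≠ 1 := by
  decide +kernel

theorem pi23_table : ∀ m : Mw, m * lin 6 = lin 6 * m →
    m * lin 1 * m⁻¹ ≠ lin 6 * lin 1 ∧
    (m * lin 1 = lin 1 * m → (m * m * (m * m) = 1 ∨ m * m * (m * m) = lin 6) →
      m * m = 1 ∨ m * m = lin 6) := by
  decide +kernel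

theorem core_table_two : ∀ m : Mw, m * lin 18 = lin 18 * m →
    ((m * lin 2 * m⁻¹ * lin 2 * (m * lin 2 * m⁻¹) * lin 2 = 1 ∨
        m * lin 2 * m⁻¹ * lin 2 * (m * lin 2 * m⁻¹) * lin 2 = lin 18) →
      m * lin 2 * m⁻¹ = lin 2 ∨ m * lin 2 * m⁻¹ = lin 2 * lin 18) ∧
    (m * lin 24 = lin 24 * m → m * m * (m * m) * (m * m * (m * m)) = 1) := by
  decide +kernel

theorem core_table_four : ∀ m : Mw, m * lin (lmul 2 24) = lin (lmul 2 24) * m →
    ((m * lin 24 * m⁻¹ * lin 24 * (m * lin 24 * m⁻¹) * lin 24 = 1 ∨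
        m * lin 24 * m⁻¹ * lin 24 * (m * lin 24 * m⁻¹) * lin 24 = lin (lmul 2 24)) →
      m * lin 24 * m⁻¹ = lin 24 ∨ m * lin 24 * m⁻¹ = lin 24 * lin (lmul 2 24)) ∧
    (m * lin 18 = lin 18 * m → m * m * (m * m) * (m * m * (m * m)) = 1) := by
  decide +kernel

theorem classes_table : ∀ m : Mw, m * lin 6 = lin 6 * m → m * m = 1 → m ≠ 1 →
    ((∃ a, lin 6 * m = a * lin 6 * a⁻¹) ∨ ∃ a, lin 6 * m = a * lin 2 * a⁻¹) →
    ∃ a, m = a * lin 18 * a⁻¹ ∨ m = a * lin (lmul 2 24) * a⁻¹ := by
  decide +kernel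

theorem t1_ne_pi : ∀ m : Mw, m * lin 6 * m⁻¹ ≠ lin 2 := by decide +kernel

namespace Ctx

variable {G : Type u} [Group G] (C : Ctx G 3)

/-- The centraliser of the exchange of two blocks. -/
theorem cLe_pi [Finite G] (hall : ∀ v, v ≠ 0 → C.CentLe v) : C.CLe (lin 2) := by
  obtain ⟨f1, f2, f3, f4, f5, f6, f7⟩ := psiTwo_facts
  rcases C.centralizer_quotient hall 2 (1, 1, 0) e3 f7 (by decide +kernel) (by decide +kernel)
    f4 f5 2 (Or.inl rfl) psiTwo f1 f2 f3 f6 PUnit (fun Q _ _ P hel h9 hC he hc => by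
      obtain ⟨e⟩ := he
      refine Or.inl (Subgroup.normalizer_eq_top_iff.mp ?_)
      refine @Cfsg.Agent.S3805.result Q _ _ P hel h9 hC inferInstance ⟨?_, ?_⟩ hc
      · rw [Nat.card_congr e.toEquiv, DihedralGroup.nat_card]
      · rw [Monoid.exponent_eq_of_mulEquiv e]
        exact IsKleinFour.exponent_two) with h | ⟨π, -, hk⟩
  · exact h
  · exfalso
    have hm : C.T e3 ∈ centralizer ({C.Xh (lin 2)} : Set G) := mem_centralizer_singleton_iff.mpr
      (C.Xh_commute.mpr (by decide +kernel : tr e3 * lin 2 = lin 2 * tr e3))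
    rcases (hk ⟨_, hm⟩).mp (Subsingleton.elim _ _) with h | h
    · exact absurd (C.Xh_inj ((C.Xh_tr e3).trans (h.trans C.Xh.map_one.symm))) (by decide +kernel)
    · exact absurd (C.Xh_inj ((C.Xh_tr e3).trans h)) (by decide +kernel)

/-- The fusion of the exchange of two blocks. -/
theorem ctl_pi [Finite G] (hall : ∀ v, v ≠ 0 → C.CentLe v) : C.Ctl (lin 2) :=
  C.ctl hall (C.cLe_pi hall) (by decide +kernel) (by decide +kernel)
    (fun m h => (three_table m h).1) (four_table 2 (by decide +kernel))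

/-- The centraliser of a transposition. -/
theorem cLe_t1 [Finite G] (hall : ∀ v, v ≠ 0 → C.CentLe v) : C.CLe (lin 6) := by
  obtain ⟨f1, f2, f3, f4, f5, f6, f7⟩ := psiFour_facts
  rcases C.centralizer_quotient hall 6 e2 e3 f7 (by decide +kernel) (by decide +kernel)
    f4 f5 4 (Or.inr rfl) psiFour f1 f2 f3 f6 (Perm (Fin 6)) (fun Q _ _ P _ h9 hC he hc =>
      he.elim fun e => Cfsg.Agent.S3333.result P P rfl h9 hC e hc) with h | ⟨π, hs, hk⟩
  · exact h
  exfalso
  obtain ⟨a, ha⟩ : ∃ a : Fin 48, lin a * lin 2 * (lin a)⁻¹ = lin 1 := by decide +kernel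
  have hle : C.CLe (lin 1) := ha ▸ C.cLe_conj (C.cLe_pi hall) (lin a)
  have hctl : C.Ctl (lin 1) := ha ▸ C.ctl_conj (C.ctl_pi hall) (lin a)
  have hmem : ∀ g, g ∈ centralizer ({C.Xh (lin 6)} : Set G) ↔ Commute g (C.Xh (lin 6)) :=
    fun g => mem_centralizer_singleton_iff
  set l : centralizer ({C.Xh (lin 6)} : Set G) := ⟨C.Xh (lin 1), (hmem _).mpr
    (C.Xh_commute.mpr (by decide +kernel : lin 1 * lin 6 = lin 6 * lin 1))⟩ with hl
  have hy1 : π l ≠ 1 := fun e => by
    rcases (hk l).mp e with h | h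
    · exact absurd (C.Xh_inj (h.trans C.Xh.map_one.symm)) (by decide +kernel)
    · exact absurd (C.Xh_inj h) (by decide +kernel)
  have hy2 : π l * π l = 1 := by
    rw [← map_mul, hk]
    left
    rw [hl, Subgroup.coe_mul, ← map_mul, (by decide +kernel : lin 1 * lin 1 = 1), map_one]
  obtain ⟨j, hj⟩ := SymEight40.invList6_class _ (SymEight40.mem_invList6 _ hy2 hy1)
  obtain ⟨c, hc⟩ := isConj_iff.mp (Equiv.Perm.isConj_iff_cycleType_eq.mpr hj.symm)
  obtain ⟨x, hx1, hx2, hx3⟩ := six_commuting j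
  obtain ⟨g, hg⟩ := hs (MulAut.conj c x)
  have hgl : π g * π l = π l * π g := by
    rw [hg, ← hc, show c * SymEight40.rep6 j * c⁻¹ = MulAut.conj c (SymEight40.rep6 j) from rfl,
      ← map_mul, ← map_mul, hx1]
  have hgN : (g : G) ∈ C.N ∧ Commute (g : G) (C.Xh (lin 1)) := by
    have h1 : π (g * l * g⁻¹ * l⁻¹) = 1 := by
      rw [map_mul, map_mul, map_mul, map_inv, map_inv, hgl, mul_inv_cancel_right, mul_inv_cancel]
    rcases (hk _).mp h1 with h | h <;>
      simp only [Subgroup.coe_mul, Subgroup.coe_inv, hl] at h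
    · have hcm : Commute (g : G) (C.Xh (lin 1)) :=
        SymEight40.commute_of_conj_eq (mul_inv_eq_one.mp h)
      exact ⟨hle _ hcm, hcm⟩
    · exfalso
      rw [mul_inv_eq_iff_eq_mul, ← map_mul] at h
      obtain ⟨m, hm⟩ := C.mem_N'.mp (hctl (g : G) (by rw [h]; exact C.Xh_mem_N _))
      rw [← hm, C.Xh_conj] at h
      exact (pi23_table m (C.Xh_commute.mp (hm ▸ (hmem _).mp g.2))).1 (C.Xh_inj h)
  obtain ⟨m, hm⟩ := C.mem_N'.mp hgN.1
  have h4 : π (g * g * (g * g)) = 1 := by
    rw [map_mul, map_mul, hg, ← map_mul, ← map_mul, hx2, map_one]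
  have h2 : π (g * g) ≠ 1 := by
    rw [map_mul, hg, ← map_mul]
    exact fun e => hx3 ((MulAut.conj c).map_eq_one_iff.mp e)
  refine h2 ((hk _).mpr ?_)
  have h := (pi23_table m (C.Xh_commute.mp (hm ▸ (hmem _).mp g.2))).2
    (C.Xh_commute.mp (hm ▸ hgN.2)) ?_
  · simp only [Subgroup.coe_mul, ← hm]
    rcases h with h | h
    · exact Or.inl (by rw [← map_mul, h, map_one])
    · exact Or.inr (by rw [← map_mul, h])
  · have := (hk _).mp h4
    simp only [Subgroup.coe_mul, ← hm] at this
    rcases this with h | h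
    · exact Or.inl (C.Xh_inj (by simpa [map_mul] using h))
    · exact Or.inr (C.Xh_inj (by simpa [map_mul] using h))

/-- The fusion of a transposition. -/
theorem ctl_t1 [Finite G] (hall : ∀ v, v ≠ 0 → C.CentLe v) : C.Ctl (lin 6) :=
  C.ctl hall (C.cLe_t1 hall) (by decide +kernel) (by decide +kernel)
    (fun m h => (three_table m h).2) (four_table 6 (by decide +kernel))

/-- With all short translations local the translations are normal. -/
theorem case_three_of [Finite G] (hAll : C.AllLe) (he : C.CentLe e3) : C.J.Normal := by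
  classical
  have hall := C.centLe_all hAll he
  have hpi := C.cLe_pi hall
  have hcpi := C.ctl_pi hall
  have ht1 := C.cLe_t1 hall
  have hct1 := C.ctl_t1 hall
  obtain ⟨a, ha⟩ : ∃ a : Fin 48, lin a * lin 6 * (lin a)⁻¹ = lin 24 := by decide +kernel
  have ht3 : C.CLe (lin 24) := ha ▸ C.cLe_conj ht1 (lin a)
  have hct3 : C.Ctl (lin 24) := ha ▸ C.ctl_conj hct1 (lin a)
  have hsq : ∀ a : Fin 48, lin a * lin a = 1 → C.Xh (lin a) * C.Xh (lin a) = 1 := fun a h => by
    rw [← map_mul, h, map_one]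
  have h18 : C.CLe (lin 18) := by
    refine C.core_le hall 18 2 24 e3 (by decide +kernel) (by decide +kernel) (by decide +kernel)
      (by decide +kernel) (by decide +kernel) (by decide +kernel) (by decide +kernel)
      (by decide +kernel) (by decide +kernel) ht3 hcpi ?_ (by decide +kernel)
      (fun m h => (core_table_two m h).1) (fun m h => (core_table_two m h).2)
    intro g hgv hg
    set t := C.Xh (lin 2) with ht
    set d := g * t * g⁻¹ with hd
    have ht2 : t * t = 1 := hsq 2 (by decide +kernel)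
    have hd2 : d * d = 1 := SymEight40.conj_sq ht2 g
    have hdinv := SymEight40.inv_of_sq hd2
    rcases hg with h | h
    · refine hpi _ ?_
      have := eq_inv_of_mul_eq_one_left (show d * t * (d * t) = 1 by rw [← h]; group)
      rw [mul_inv_rev, SymEight40.inv_of_sq ht2, hdinv] at this
      exact this
    · set v := C.Xh (lin 18) with hv
      set t1 := C.Xh (lin 6) with ht1'
      have htv : t1 * t * t1⁻¹ = t * v := by
        rw [ht1', ht, hv, C.Xh_conj, ← map_mul]
        exact congrArg C.Xh (by decide +kernel)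
      have hdv : Commute d v := by
        rw [hd]
        exact (hgv.mul_left (C.Xh_commute.mpr (by decide +kernel : lin 2 * lin 18 = lin 18 * lin 2))).mul_left
          hgv.inv_left
      have hdt : d * t * d = v * t := by
        rw [← h, mul_assoc (d * t * d), ht2, mul_one]
      have hvv : v * v = 1 := hsq 18 (by decide +kernel)
      have hcm : Commute (d * t1) t := SymEight40.commute_of_conj_eq (by
        rw [show d * t1 * t * (d * t1)⁻¹ = d * (t1 * t * t1⁻¹) * d⁻¹ by group, htv, hdinv,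
          show d * (t * v) * d = d * t * (v * d) by group, ← hdv.eq, ← mul_assoc, hdt,
          mul_assoc v t, show t * v = v * t from (C.Xh_commute.mpr
            (by decide +kernel : lin 2 * lin 18 = lin 18 * lin 2)).eq, ← mul_assoc, hvv, one_mul])
      have := mul_mem (hpi _ hcm) (inv_mem (C.Xh_mem_N (lin 6)))
      change d * t1 * t1⁻¹ ∈ _ at this
      rwa [mul_inv_cancel_right] at this
  have h26 : C.CLe (lin (lmul 2 24)) := by
    refine C.core_le hall (lmul 2 24) 24 18 (1, 1, 0) (by decide +kernel) (by decide +kernel)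
      (by decide +kernel) (by decide +kernel) (by decide +kernel) (by decide +kernel)
      (by decide +kernel) (by decide +kernel) (by decide +kernel) h18 hct3 ?_ (by decide +kernel)
      (fun m h => (core_table_four m h).1) (fun m h => (core_table_four m h).2)
    intro g hgv hg
    set t := C.Xh (lin 24) with ht
    set d := g * t * g⁻¹ with hd
    have ht2 : t * t = 1 := hsq 24 (by decide +kernel)
    have hd2 : d * d = 1 := SymEight40.conj_sq ht2 g
    have hdinv := SymEight40.inv_of_sq hd2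
    rcases hg with h | h
    · refine ht3 _ ?_
      have := eq_inv_of_mul_eq_one_left (show d * t * (d * t) = 1 by rw [← h]; group)
      rw [mul_inv_rev, SymEight40.inv_of_sq ht2, hdinv] at this
      exact this
    · refine hct3 d ?_
      change d * t * d⁻¹ ∈ _
      rw [hdinv, show d * t * d = C.Xh (lin (lmul 2 24)) * t by
        rw [← h, mul_assoc (d * t * d), ht2, mul_one]]
      exact mul_mem (C.Xh_mem_N _) (C.Xh_mem_N _)
  refine C.normal_of_top (SymEight40.top_of_two_classes C.N (C.Xh (lin 6)) (C.Xh (lin 2))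
    (hsq 6 (by decide +kernel)) (hsq 2 (by decide +kernel)) (fun g hg => ?_)
    (fun e => absurd (C.Xh_inj (e.trans C.Xh.map_one.symm)) (by decide +kernel)) ht1 hpi
    (fun g hg => ⟨g, hcpi g hg, rfl⟩) ?_)
  · obtain ⟨m, hm⟩ := C.mem_N'.mp (hct1 g (by rw [hg]; exact C.Xh_mem_N _))
    rw [← hm, C.Xh_conj] at hg
    exact t1_ne_pi m (C.Xh_inj hg)
  · intro w hwu hw2 hw1 hcase
    obtain ⟨m, rfl⟩ := C.mem_N'.mp (ht1 w hwu)
    obtain ⟨b, hb⟩ := classes_table m (C.Xh_commute.mp hwu)
      (C.Xh_inj (by rw [map_mul, hw2, map_one])) (fun e => hw1 (by rw [e, map_one])) (by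
      rcases hcase with ⟨g, hg⟩ | ⟨g, hg⟩
      · left
        obtain ⟨n, hn⟩ := C.mem_N'.mp (hct1 g (by
          rw [hg]; exact mul_mem (C.Xh_mem_N _) (C.Xh_mem_N _)))
        rw [← hn, C.Xh_conj, ← map_mul] at hg
        exact ⟨n, (C.Xh_inj hg).symm⟩
      · right
        obtain ⟨n, hn⟩ := C.mem_N'.mp (hcpi g (by
          rw [hg]; exact mul_mem (C.Xh_mem_N _) (C.Xh_mem_N _)))
        rw [← hn, C.Xh_conj, ← map_mul] at hg
        exact ⟨n, (C.Xh_inj hg).symm⟩)
    rcases hb with rfl | rfl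
    exacts [C.cLe_conj h18 b, C.cLe_conj h26 b]

/-- With local short translations the translations are normal. -/
theorem case_three [Finite G] (he : C.CentLe e3) : C.J.Normal :=
  C.case_three_of (C.allLe_of fun _ => C.centLe_klein_three) he

end Ctx

end CfsgLib.SymNine40
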