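import Cfsg.Agent.SymNine40.CaseTwoFusion
import Cfsg.Agent.TIThree.Cube.Perm

/-!
The case of even sign changes.

* `Ctx.case_two`: the translations are normal.
-/

set_option autoImplicit false
set_option maxRecDepth 20000

open Equiv Subgroup

namespace CfsgLib.SymNine40

open Mw
open TIThree.Cube (Mo)

namespace CaseTwo

/-- The coordinates of the sign group. -/
def ofMo (x : Mo) : Mw := ⟨(x.a, x.b, x.c), signOf x.p x.q⟩

theorem lact_signOf : ∀ (p q : Bool) (a b c : Fin 3), lact (signOf p q) (a, b, c) =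
    (TIThree.El.sg p a, TIThree.El.sg q b, TIThree.El.sg (xor p q) c) := by decide +kernel

theorem ofMo_mul (x y : Mo) : ofMo (x * y) = ofMo x * ofMo y := by
  rw [Mw.mul_def]
  simp only [ofMo, lact_signOf, signOf_mul]
  rfl

theorem ev_all : Ev 0 ∧ Ev (lin 3).w := by decide +kernel

theorem sign_sq : ∀ s : Fin 48, Ok 2 s → pcode s = 0 → (lin s) * (lin s) = 1 := by decide +kernel

theorem lin_mul_lin : ∀ s t : Fin 48, lin (lmul s t) = lin s * lin t := by decide +kernel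

theorem tr_mul_lin (v : Vec) (w : Fin 48) : tr v * lin w = ⟨v, w⟩ := by
  simp only [Mw.lin, Mw.tr, Mw.mul_def, lact_zero, (lmul_zero _).2.1, add_zero]

theorem z3_sq : ∀ z : Multiplicative (ZMod 3), z * z = 1 → z = 1 := by decide +kernel

theorem z3_cube : ∀ z : Multiplicative (ZMod 3), z ^ 3 = 1 := by decide +kernel

theorem ex_eq_zero : ∀ w : Fin 48, Ev w → ex w = 0 → pcode w = 0 := by decide +kernel

theorem ev_inP : ∀ m : Fin 48, bits m = 0 → pcode m ∈ ([0, 3, 4] : List (Fin 6)) → Ev m := by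
  decide +kernel

end CaseTwo

namespace Ctx

variable {G : Type*} [Group G] [Finite G] (C : Ctx G 2)

theorem case_two : C.J.Normal := by
  classical
  haveI : Fact (Nat.Prime 3) := ⟨Nat.prime_three⟩
  obtain ⟨M, hMn, hM2, hM⟩ := C.exists_even_two
  haveI := hMn
  have hTM : ∀ v, C.T v ∈ M := fun v => (hM _ (ok_one 2)).mpr CaseTwo.ev_all.1
  have hPM : C.P ≤ M := by
    rintro _ ⟨m, hm, rfl⟩
    exact (hM m (okP_two hm)).mpr (CaseTwo.ev_inP m.w hm.1 hm.2)
  -- the exponent of the three-cycle on the Sylow subgroup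
  set P' := C.P.subgroupOf M with hP'
  have hex : ∀ a : P', ∃ m, InP m ∧ C.X m = ((a : M) : G) := fun a => Subgroup.mem_subgroupOf.mp a.2
  choose rep hrepP hrep using hex
  have hrep_mul : ∀ a b : P', rep (a * b) = rep a * rep b := by
    intro a b
    refine C.X_inj (okP_two (hrepP _)) (ok_mul 2 _ _ (okP_two (hrepP a)) (okP_two (hrepP b))) ?_
    rw [C.X_mul (okP_two (hrepP a)) (okP_two (hrepP b)), hrep, hrep, hrep]
    rfl
  let φ : P' →* Multiplicative (ZMod 3) := MonoidHom.mk' (fun a => Multiplicative.ofAdd (CaseTwo.ex (rep a).w))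
    fun a b => by
      rw [hrep_mul, ← ofAdd_add, ← CaseTwo.ex_mul _ _ (CaseTwo.ev_inP _ (hrepP a).1 (hrepP a).2)
        (CaseTwo.ev_inP _ (hrepP b).1 (hrepP b).2)]
      rfl
  have hφ : ∀ a : P', φ a = Multiplicative.ofAdd (CaseTwo.ex (rep a).w) := fun _ => rfl
  have hinv : ∀ (a b : P') (g : M), g * (a : M) * g⁻¹ = b → φ a = φ b := by
    intro a b g e
    rw [hφ, hφ, C.ex_invariant hM (hrepP a) (hrepP b) g.2 (by
      rw [hrep, hrep]; exact congrArg Subtype.val e)]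
  set V : M →* Multiplicative (ZMod 3) := MonoidHom.transfer φ with hVdef
  have hV : ∀ a : P', V a = φ a ^ P'.index := by
    intro a
    haveI : P'.FiniteIndex := inferInstance
    letI := P'.fintypeQuotientOfFiniteIndex
    rw [hVdef, MonoidHom.transfer_eq_prod_quotient_orbitRel_zpowers_quot,
      Subgroup.index_eq_sum_minimalPeriod P' (a : M), ← Finset.prod_pow_eq_pow_sum]
    refine Finset.prod_congr rfl fun q _ => ?_
    rw [← map_pow]
    refine hinv _ _ q.out.out ?_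
    simp only [Subgroup.coe_pow]
    group
  have hcop : Nat.Coprime P'.index 3 := by
    rw [Nat.coprime_comm, Nat.prime_three.coprime_iff_not_dvd]
    intro hd
    refine C.not_243 ?_
    have h1 := P'.card_mul_index
    rw [hP', Nat.card_congr (Subgroup.subgroupOfEquivOfLe hPM).toEquiv, C.card_P] at h1
    refine dvd_trans ?_ (Subgroup.card_subgroup_dvd_card M)
    rw [← h1, show 243 = 81 * 3 by norm_num]
    exact Nat.mul_dvd_mul_left 81 hd
  have hVX : ∀ m : Mw, ∀ hm : InP m, V ⟨C.X m, hPM ⟨m, hm, rfl⟩⟩ =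
      Multiplicative.ofAdd (CaseTwo.ex m.w) ^ P'.index := by
    intro m hm
    let a : P' := ⟨⟨C.X m, hPM ⟨m, hm, rfl⟩⟩, Subgroup.mem_subgroupOf.mpr ⟨m, hm, rfl⟩⟩
    have : rep a = m := C.X_inj (okP_two (hrepP a)) (okP_two hm) (hrep a)
    exact (hV a).trans (by rw [hφ, this])
  set M3 := V.ker.map M.subtype with hM3
  have hM3M : M3 ≤ M := Subgroup.map_subtype_le _
  have hmem3 : ∀ {g : G} (hg : g ∈ M), g ∈ M3 ↔ V ⟨g, hg⟩ = 1 := by
    intro g hg
    refine ⟨?_, fun h => ⟨⟨g, hg⟩, h, rfl⟩⟩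
    rintro ⟨b, hb, rfl⟩
    exact hb
  have hT3 : ∀ v, C.T v ∈ M3 := by
    intro v
    refine (hmem3 (hTM v)).mpr ?_
    have := hVX (tr v) ((by decide +kernel : ∀ v : Vec, InP (tr v)) v)
    rw [show CaseTwo.ex (tr v).w = 0 from CaseTwo.ex_three.1, ofAdd_zero, one_pow] at this
    exact this
  have hN3 : ∀ m : Mw, Ok 2 m.w → (C.X m ∈ M3 ↔ pcode m.w = 0) := by
    intro m hm
    have key : ∀ he : CaseTwo.Ev m.w, V ⟨C.X m, (hM m hm).mpr he⟩ =
        Multiplicative.ofAdd (CaseTwo.ex m.w) ^ P'.index := by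
      intro he
      obtain ⟨s, t, hs, hs0, ht, hte, hst⟩ := CaseTwo.ev_sign m.w hm he
      have hsM : C.X (lin s) ∈ M := (hM _ hs).mpr (CaseTwo.sign_ev s hs0)
      have hts : V ⟨C.X (lin s), hsM⟩ = 1 := by
        have h1 : V ⟨C.X (lin s), hsM⟩ * V ⟨C.X (lin s), hsM⟩ = 1 := by
          rw [← map_mul, show (⟨C.X (lin s), hsM⟩ : M) * ⟨C.X (lin s), hsM⟩ = 1 from Subtype.ext
            (by show C.X (lin s) * C.X (lin s) = 1; rw [← C.X_mul (a := lin s) hs hs,
              CaseTwo.sign_sq s hs hs0, C.X_one]), map_one]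
        exact CaseTwo.z3_sq _ h1
      have e : (⟨C.X m, (hM m hm).mpr he⟩ : M) = ⟨C.T m.v, hTM _⟩ * ⟨C.X (lin s), hsM⟩ *
          ⟨C.X (lin t), hPM ⟨_, ht, rfl⟩⟩ := by
        refine Subtype.ext ?_
        show C.X m = C.X (tr m.v) * C.X (lin s) * C.X (lin t)
        rw [mul_assoc, ← C.X_mul (a := lin s) hs (okP_two ht),
          ← C.X_mul (a := tr m.v) (ok_one 2) (ok_mul 2 _ _ hs (okP_two ht)), ← CaseTwo.lin_mul_lin,
          hst, CaseTwo.tr_mul_lin]
      rw [e, map_mul, map_mul, (hmem3 (hTM m.v)).mp (hT3 m.v), hts, one_mul, one_mul, hVX _ ht]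
      exact congrArg (fun z => Multiplicative.ofAdd z ^ P'.index) hte
    constructor
    · intro h
      have he := (hM m hm).mp (hM3M h)
      have h1 := key he
      rw [(hmem3 ((hM m hm).mpr he)).mp h] at h1
      refine CaseTwo.ex_eq_zero m.w he ?_
      have h3 : Multiplicative.ofAdd (CaseTwo.ex m.w) ^ 3 = 1 :=
        CaseTwo.z3_cube _
      have h4 := pow_gcd_eq_one.mpr ⟨h1.symm, h3⟩
      rw [hcop.gcd_eq_one, pow_one, ofAdd_eq_one] at h4
      exact h4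
    · intro h0
      have he := CaseTwo.sign_ev m.w h0
      refine (hmem3 ((hM m hm).mpr he)).mpr ?_
      rw [key he, show CaseTwo.ex m.w = 0 by simp [CaseTwo.ex, h0], ofAdd_zero, one_pow]
  -- the model of the subgroup of index three
  have hOk : ∀ x : Mo, Ok 2 (CaseTwo.ofMo x).w ∧ pcode (CaseTwo.ofMo x).w = 0 := fun x =>
    CaseTwo.signOf_ok x.p x.q
  let ψ : Mo →* M3 := MonoidHom.mk' (fun x => ⟨C.X (CaseTwo.ofMo x),
      (hN3 _ (hOk x).1).mpr (hOk x).2⟩) fun x y => Subtype.ext (by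
    show C.X (CaseTwo.ofMo (x * y)) = C.X (CaseTwo.ofMo x) * C.X (CaseTwo.ofMo y)
    rw [CaseTwo.ofMo_mul, C.X_mul (hOk x).1 (hOk y).1])
  have hψ : ∀ x, ((ψ x : M3) : G) = C.X (CaseTwo.ofMo x) := fun _ => rfl
  have hψinj : Function.Injective ψ := by
    intro x y h
    have h' := C.X_inj (hOk x).1 (hOk y).1 (congrArg Subtype.val h)
    obtain ⟨a, b, c, p, q⟩ := x
    obtain ⟨a', b', c', p', q'⟩ := y
    simp only [CaseTwo.ofMo, Mw.mk.injEq, Prod.mk.injEq] at h'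
    obtain ⟨rfl, rfl⟩ := CaseTwo.signOf_inj p q p' q' h'.2
    obtain ⟨rfl, rfl, rfl⟩ := h'.1
    rfl
  have hrange : ∀ {z : M3}, (z : G) ∈ C.N → z ∈ ψ.range := by
    intro z hz
    obtain ⟨m, hm, e⟩ := C.mem_N.mp hz
    obtain ⟨p, q, hpq⟩ := CaseTwo.signOf_surj m.w hm ((hN3 m hm).mp (e ▸ z.2))
    refine ⟨⟨m.v.1, m.v.2.1, m.v.2.2, p, q⟩, Subtype.ext ?_⟩
    rw [hψ, ← e]
    exact congrArg C.X (congrArg (Mw.mk m.v) hpq)
  set J3 := C.J.subgroupOf M3 with hJ3
  have hJle : C.J ≤ M3 := fun j hj => by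
    obtain ⟨v, rfl⟩ := C.mem_J.mp hj
    exact hT3 v
  have hψN : ∀ x, (ψ x : G) ∈ C.N := fun x => C.X_mem_N _
  have htop : ψ.range = ⊤ := by
    refine TIThree.Cube.eq_top ψ hψinj J3 (fun j hj => hrange (C.J_le_N (Subgroup.mem_subgroupOf.mp hj)))
      ?_ ?_ ?_
    · rw [hJ3, Nat.card_congr (Subgroup.subgroupOfEquivOfLe hJle).toEquiv, C.card_J]
    · refine le_antisymm (fun z hz => hrange (C.mem_N_of_norm fun v => ?_)) ?_
      · obtain ⟨w, hw⟩ := C.mem_J.mp (Subgroup.mem_subgroupOf.mp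
          ((Subgroup.mem_normalizer_iff.mp hz ⟨C.T v, hT3 v⟩).mp
            (Subgroup.mem_subgroupOf.mpr (C.T_mem_J v))))
        exact ⟨w, hw.symm⟩
      · rintro _ ⟨x, rfl⟩
        refine Subgroup.mem_normalizer_fintype fun j hj => Subgroup.mem_subgroupOf.mpr ?_
        exact (Subgroup.mem_normalizer_iff.mp (C.N_le_normalizer (hψN x)) _).mp
          (Subgroup.mem_subgroupOf.mp hj)
    · intro t ht ht1 z hz
      obtain ⟨v, hv⟩ := C.mem_J.mp (Subgroup.mem_subgroupOf.mp ht)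
      have hv0 : v ≠ 0 := fun e => ht1 (Subtype.ext (by rw [← hv, e, C.T_zero]; rfl))
      refine hrange (C.allLe_two v hv0 (fun e => absurd e (by decide)) _ ?_)
      rw [hv]
      exact congrArg Subtype.val (Subgroup.mem_centralizer_singleton_iff.mp hz)
  refine ⟨fun j hj g => ?_⟩
  have hMj : ∀ b ∈ M, ∀ i ∈ C.J, b * i * b⁻¹ ∈ C.J := by
    intro b hb i hi
    obtain ⟨v, rfl⟩ := C.mem_J.mp hi
    have h3 : b * C.T v * b⁻¹ ∈ M3 := by
      refine (hmem3 (hMn.conj_mem _ (hTM v) b)).mpr ?_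
      rw [show (⟨b * C.T v * b⁻¹, hMn.conj_mem _ (hTM v) b⟩ : M) =
        ⟨b, hb⟩ * ⟨C.T v, hTM v⟩ * ⟨b, hb⟩⁻¹ from rfl, map_mul, map_mul,
        (hmem3 (hTM v)).mp (hT3 v), mul_one, ← map_mul, mul_inv_cancel, map_one]
    obtain ⟨x, hx⟩ := (htop ▸ Subgroup.mem_top (⟨_, h3⟩ : M3) : (⟨_, h3⟩ : M3) ∈ ψ.range)
    have hx' : C.X (CaseTwo.ofMo x) = b * C.T v * b⁻¹ := congrArg Subtype.val hx
    have hc : CaseTwo.ofMo x * CaseTwo.ofMo x * CaseTwo.ofMo x = 1 := by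
      refine C.X_eq_one (ok_mul 2 _ _ (ok_mul 2 _ _ (hOk x).1 (hOk x).1) (hOk x).1) ?_
      rw [C.X_mul (ok_mul 2 _ _ (hOk x).1 (hOk x).1) (hOk x).1, C.X_mul (hOk x).1 (hOk x).1, hx',
        show b * C.T v * b⁻¹ * (b * C.T v * b⁻¹) * (b * C.T v * b⁻¹) =
          b * (C.T v * C.T v * C.T v) * b⁻¹ by group, C.T_cube, mul_one, mul_inv_cancel]
    rw [← hx', CaseTwo.sign_cube _ (hOk x).1 (hOk x).2 hc]
    exact C.T_mem_J _
  by_cases hg : g ∈ M
  · exact hMj g hg j hj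
  · have hπ : C.X piM ∉ M := fun h =>
      absurd ((hM _ CaseTwo.ok_pi).mp h) CaseTwo.inD_n12.2.2.1
    have hb : g * C.X piM ∈ M := (Subgroup.mul_mem_iff_of_index_two hM2).mpr
      (iff_of_false hg hπ)
    have h1 : (C.X piM)⁻¹ * j * C.X piM ∈ C.J := by
      obtain ⟨v, rfl⟩ := C.mem_J.mp hj
      have := C.X_conj_T (a := piM⁻¹) (ok_inv 2 _ CaseTwo.ok_pi) v
      rw [C.X_inv CaseTwo.ok_pi, inv_inv] at this
      rw [this]
      exact C.T_mem_J _
    have := hMj _ hb _ h1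
    rwa [show g * C.X piM * ((C.X piM)⁻¹ * j * C.X piM) * (g * C.X piM)⁻¹ = g * j * g⁻¹ by group]
      at this

end Ctx

end CfsgLib.SymNine40
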