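import Cfsg.Agent.SymNine40.Reflect
import Cfsg.Agent.Coprime.Generation
import Cfsg.Agent.S0205

/-!
The configuration whose linear parts are the permutations of the coordinates.

* `Ctx.case_zero`: the translations are normal.
-/

set_option autoImplicit false
set_option maxRecDepth 20000

open Equiv Subgroup

namespace CfsgLib.SymNine40

open Mw

/-- A fixed vector of the exchange of the first two blocks. -/
def fixV (p : Fin 3 × Fin 3) : Vec := (p.1, p.1, p.2)

theorem fixV_comm : ∀ p, tr (fixV p) * piM = piM * tr (fixV p) := by decide +kernel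

theorem fixV_cent : ∀ m : Mw, Ok 0 m.w → m * piM = piM * m →
    ∃ p, m = tr (fixV p) ∨ m = tr (fixV p) * piM := by decide +kernel

theorem fixV_ind : ∀ i j : Fin 3, i.val • fixV (1, 0) + j.val • fixV (0, 1) = 0 → i = 0 ∧ j = 0 := by
  decide +kernel

theorem fixV_span : ∀ p, fixV p = p.1.val • fixV (1, 0) + p.2.val • fixV (0, 1) := by decide +kernel

theorem fixV_add : ∀ p q, fixV p + fixV q = fixV (p + q) := by decide +kernel

theorem fixV_neg : ∀ p, - fixV p = fixV (-p) := by decide +kernel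

namespace Ctx

variable {G : Type*} [Group G] (C : Ctx G 0)

theorem piM_ok : Ok 0 piM.w := by decide +kernel

/-- The translations fixed by the exchange of two blocks. -/
noncomputable def S9 : Subgroup G where
  carrier := {g | ∃ p, C.T (fixV p) = g}
  one_mem' := ⟨0, C.T_zero⟩
  mul_mem' := by
    rintro _ _ ⟨p, rfl⟩ ⟨q, rfl⟩
    exact ⟨p + q, by rw [← fixV_add, C.T_add]⟩
  inv_mem' := by
    rintro _ ⟨p, rfl⟩
    exact ⟨-p, by rw [← fixV_neg, C.T_neg]⟩

theorem S9_comm {a b : G} (ha : a ∈ C.S9) (hb : b ∈ C.S9) : Commute a b := by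
  obtain ⟨p, rfl⟩ := ha
  obtain ⟨q, rfl⟩ := hb
  exact C.T_comm _ _

theorem S9_cube {a : G} (ha : a ∈ C.S9) : a ^ 3 = 1 := by
  obtain ⟨p, rfl⟩ := ha
  rw [pow_succ, sq]
  exact C.T_cube _

theorem S9_pi {a : G} (ha : a ∈ C.S9) : Commute a (C.X piM) := by
  obtain ⟨p, rfl⟩ := ha
  exact (C.X_commute (ok_one 0) piM_ok).mpr (fixV_comm p)

theorem card_S9 : Nat.card C.S9 = 9 := by
  have e : Function.Bijective (fun p : Fin 3 × Fin 3 => (⟨C.T (fixV p), p, rfl⟩ : C.S9)) :=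
    ⟨fun p q h => by
      have h' : fixV p = fixV q := C.T_inj (congrArg Subtype.val h)
      simpa [fixV, Prod.ext_iff] using h',
     fun ⟨g, p, hp⟩ => ⟨p, Subtype.ext hp⟩⟩
  rw [← Nat.card_eq_of_bijective _ e, Nat.card_eq_fintype_card]
  rfl

theorem pi_sq : C.X piM ^ 2 = 1 := by
  rw [sq, ← C.X_mul piM_ok piM_ok, show piM * piM = 1 by decide +kernel, C.X_one]

theorem pi_ne : C.X piM ≠ 1 := fun h =>
  absurd (C.X_eq_one piM_ok h) (by decide +kernel)

theorem cent_pi_form {g : G} (hg : g ∈ C.N) (hc : Commute g (C.X piM)) :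
    ∃ s ∈ C.S9, g = s ∨ g = s * C.X piM := by
  obtain ⟨m, hm, rfl⟩ := C.mem_N.mp hg
  obtain ⟨p, rfl | rfl⟩ := fixV_cent m hm ((C.X_commute hm piM_ok).mp hc)
  · exact ⟨_, ⟨p, rfl⟩, Or.inl rfl⟩
  · exact ⟨_, ⟨p, rfl⟩, Or.inr (C.X_mul (ok_one 0) piM_ok)⟩

theorem cent_pi_coprime {g : G} (hg : g ∈ C.N) (hc : Commute g (C.X piM)) {n : ℕ}
    (hn : n.Coprime 3) (h1 : g ^ n = 1) : g ∈ zpowers (C.X piM) := by
  obtain ⟨s, hs, e⟩ := C.cent_pi_form hg hc
  have hg2 : g ^ 2 = s ^ 2 := by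
    rcases e with rfl | rfl
    · rfl
    · rw [(C.S9_pi hs).mul_pow, C.pi_sq, mul_one]
  have h2 : (s ^ 2) ^ n = 1 := by rw [← hg2, ← pow_mul, mul_comm, pow_mul, h1, one_pow]
  have h3 : (s ^ 2) ^ 3 = 1 := by rw [← pow_mul, mul_comm, pow_mul, C.S9_cube hs, one_pow]
  have hs2 : s ^ 2 = 1 := by
    have := pow_gcd_eq_one.2 ⟨h2, h3⟩
    rwa [hn.gcd_eq_one, pow_one] at this
  have hs1 : s = 1 := by
    calc s = s ^ 3 * (s ^ 2)⁻¹ := by group
      _ = 1 := by rw [C.S9_cube hs, hs2, inv_one, mul_one]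
  rcases e with rfl | rfl
  · rw [hs1]; exact one_mem _
  · rw [hs1, one_mul]; exact mem_zpowers _

/-- The centraliser of the exchange of two blocks lies in the monomial group. -/
theorem cent_pi_le [Finite G] {g : G} (hg : Commute g (C.X piM)) : g ∈ C.N := by
  haveI : Fact (Nat.Prime 3) := ⟨Nat.prime_three⟩
  have hall : C.AllLe := C.allLe_of fun h => absurd rfl h
  set D := centralizer ({C.X piM} : Set G) with hD
  have hmem : ∀ d, d ∈ D ↔ Commute d (C.X piM) := fun d => mem_centralizer_singleton_iff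
  have hSD : C.S9 ≤ D := fun s hs => (hmem s).mpr (C.S9_pi hs)
  have hSp : IsPGroup 3 C.S9 := IsPGroup.of_card (n := 2) (by rw [C.card_S9]; norm_num)
  obtain ⟨P, hP⟩ := (hSp.comap_subtype (K := D)).exists_le_sylow
  -- the normaliser of the fixed translations
  have hnorm : ∀ n : D, (∀ s ∈ C.S9, (n : G) * s * (n : G)⁻¹ ∈ C.S9) →
      ∃ s ∈ C.S9, (n : G) = s ∨ (n : G) = s * C.X piM := by
    intro n hn
    refine C.cent_pi_form (C.norm_plane fixV_ind ?_ ?_) ((hmem n).mp n.2)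
    all_goals
      obtain ⟨p, hp⟩ := hn _ ⟨_, rfl⟩
      exact ⟨p.1, p.2, hp.symm.trans (congrArg C.T (fixV_span p))⟩
  have hPS : ∀ p : D, p ∈ (P : Subgroup D) ↔ (p : G) ∈ C.S9 := by
    refine fun p => ⟨fun hp => ?_, fun hp => hP hp⟩
    by_contra hpS
    haveI := P.2.isNilpotent
    have hlt : (C.S9.subgroupOf D).subgroupOf (P : Subgroup D) < ⊤ := by
      rw [lt_top_iff_ne_top, Ne, subgroupOf_eq_top]
      exact fun h => hpS (h hp)
    obtain ⟨⟨n, hnP⟩, hnn, hnS⟩ := SetLike.exists_of_lt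
      (Group.normalizerCondition_of_isNilpotent _ hlt)
    obtain ⟨s, hs, e | e⟩ := hnorm n fun t ht =>
      (mem_normalizer_iff.mp hnn ⟨⟨t, hSD ht⟩, hP ht⟩).mp ht
    · exact hnS (show (n : G) ∈ C.S9 from e ▸ hs)
    · refine C.pi_ne ?_
      set sD : D := ⟨s, hSD hs⟩
      have hq : sD⁻¹ * n ∈ (P : Subgroup D) := mul_mem (inv_mem (hP hs)) hnP
      obtain ⟨i, hi⟩ := P.2 ⟨_, hq⟩
      have hi' : ((sD⁻¹ * n : D) : G) ^ 3 ^ i = 1 :=
        congrArg (fun x : (P : Subgroup D) => ((x : D) : G)) hi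
      rw [show ((sD⁻¹ * n : D) : G) = C.X piM by
        simp only [Subgroup.coe_mul, Subgroup.coe_inv, sD]; rw [e, inv_mul_cancel_left]] at hi'
      have := pow_gcd_eq_one.2 ⟨hi', C.pi_sq⟩
      rwa [(Nat.Coprime.pow_left i (by norm_num : Nat.Coprime 3 2)).gcd_eq_one, pow_one] at this
  have hN : normalizer ((P : Subgroup D) : Set D) ≤ centralizer ((P : Subgroup D) : Set D) := by
    intro n hn
    obtain ⟨s, hs, e⟩ := hnorm n fun t ht =>
      (hPS _).mp ((mem_normalizer_iff.mp hn ⟨t, hSD ht⟩).mp ((hPS _).mpr ht))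
    refine mem_centralizer_iff.mpr fun q hq => Subtype.ext ?_
    change (q : G) * n = n * q
    have hq' := (hPS q).mp hq
    rcases e with e | e <;> rw [e]
    · exact (C.S9_comm hq' hs).eq
    · exact ((C.S9_comm hq' hs).mul_right (C.S9_pi hq')).eq
  obtain ⟨M, hMn, hM⟩ := Transfer.exists_isComplement'
    (Transfer.hasNormalPComplement_of_normalizer_le_centralizer P hN) P
  have hMc : (Nat.card M).Coprime 3 := by
    have h := P.not_dvd_index
    rw [hM.index_eq_card] at h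
    exact (Nat.prime_three.coprime_iff_not_dvd.mpr h).symm
  have hMle : M.map D.subtype ≤ zpowers (C.X piM) := by
    refine Coprime.le_of_centralizers (A := C.S9)
      ⟨⟨fun a b => Subtype.ext (C.S9_comm a.2 b.2).eq⟩⟩ ?_ ?_ ?_ ?_
    · intro hcyc
      obtain ⟨a, ha⟩ := hcyc.exists_generator
      have h9 : orderOf a = 9 := (orderOf_eq_card_of_forall_mem_zpowers ha).trans C.card_S9
      have h3 : orderOf a ∣ 3 := orderOf_dvd_of_pow_eq_one (Subtype.ext (C.S9_cube a.2))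
      rw [h9] at h3
      norm_num at h3
    · intro s hs
      refine mem_normalizer_fintype fun x hx => ?_
      obtain ⟨y, hy, rfl⟩ := hx
      exact ⟨⟨s, hSD hs⟩ * y * ⟨s, hSD hs⟩⁻¹, hMn.conj_mem y hy _, rfl⟩
    · rw [C.card_S9, card_map_of_injective D.subtype_injective]
      exact (hMc.symm.pow_left 2)
    · rintro a ⟨p, rfl⟩ ha x ⟨⟨y, hy, rfl⟩, hx⟩
      have hv : fixV p ≠ 0 := fun e => ha (by rw [e, C.T_zero])
      refine C.cent_pi_coprime (hall _ hv (fun h => absurd h (by decide)) _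
        (mem_centralizer_singleton_iff.mp hx)) ((hmem _).mp y.2) hMc ?_
      exact congrArg (fun z : M => ((z : D) : G)) (pow_card_eq_one' (x := (⟨y, hy⟩ : M)))
  obtain ⟨⟨⟨a, ha⟩, ⟨b, hb⟩⟩, hab⟩ := hM.2 ⟨g, (hmem g).mpr hg⟩
  have hab' : (a : G) * (b : G) = g := congrArg Subtype.val hab
  rw [← hab']
  refine mul_mem ?_ ?_
  · exact (zpowers_le.mpr (C.X_mem_N piM)) (hMle ⟨a, ha, rfl⟩)
  · obtain ⟨p, hp⟩ := (hPS b).mp hb
    exact hp ▸ C.J_le_N (C.T_mem_J _)

/-- The configuration without sign changes. -/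
theorem case_zero [Finite G] (C : Ctx G 0) : C.J.Normal := by
  haveI : Fact (Nat.Prime 2) := ⟨Nat.prime_two⟩
  set π := C.X piM with hπ
  have hπp : IsPGroup 2 (zpowers π) := by
    rintro ⟨z, i, rfl⟩
    refine ⟨1, Subtype.ext ?_⟩
    change (π ^ i) ^ 2 ^ 1 = 1
    rw [← zpow_natCast, ← zpow_mul, mul_comm, zpow_mul, zpow_natCast, pow_one, hπ, C.pi_sq,
      one_zpow]
  obtain ⟨Q, hQ⟩ := hπp.exists_le_sylow
  have hπQ : π ∈ (Q : Subgroup G) := hQ (mem_zpowers π)
  have hsmall : ∀ z ∈ (Q : Subgroup G), Commute z π → z ∈ zpowers π := by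
    intro z hz hc
    obtain ⟨i, hi⟩ := Q.2 ⟨z, hz⟩
    exact C.cent_pi_coprime (C.cent_pi_le hc) hc
      (Nat.Coprime.pow_left i (by norm_num : Nat.Coprime 2 3)) (congrArg Subtype.val hi)
  haveI : Nontrivial (Q : Subgroup G) :=
    ⟨⟨⟨π, hπQ⟩, 1, fun h => C.pi_ne (congrArg Subtype.val h)⟩⟩
  haveI := Q.2.center_nontrivial
  obtain ⟨⟨⟨z, hzQ⟩, hzc⟩, hz1⟩ := exists_ne (1 : center (Q : Subgroup G))
  have hzall : ∀ q ∈ (Q : Subgroup G), Commute q z := fun q hq =>
    congrArg Subtype.val (mem_center_iff.mp hzc ⟨q, hq⟩)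
  have hzne : z ≠ 1 := fun h => hz1 (Subtype.ext (Subtype.ext h))
  have hzπ : z = π := by
    obtain ⟨i, hi⟩ := mem_zpowers_iff.mp (hsmall z hzQ (hzall π hπQ).symm)
    rcases Int.even_or_odd i with ⟨j, rfl⟩ | ⟨j, rfl⟩
    · refine absurd ?_ hzne
      rw [← hi, ← two_mul, zpow_mul, zpow_ofNat, hπ, C.pi_sq, one_zpow]
    · rw [← hi, zpow_add, zpow_one, zpow_mul, zpow_ofNat, hπ, C.pi_sq, one_zpow, one_mul]
  have hQeq : (Q : Subgroup G) = zpowers π := le_antisymm
    (fun q hq => hsmall q hq (hzπ ▸ hzall q hq)) hQ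
  have hN : normalizer ((Q : Subgroup G) : Set G) ≤ centralizer ((Q : Subgroup G) : Set G) := by
    intro n hn
    have h1 : n * π * n⁻¹ ∈ zpowers π := hQeq ▸ (mem_normalizer_iff.mp hn π).mp hπQ
    have hnπ : Commute n π := by
      obtain ⟨i, hi⟩ := mem_zpowers_iff.mp h1
      refine mul_inv_eq_iff_eq_mul.mp ?_
      rcases Int.even_or_odd i with ⟨j, rfl⟩ | ⟨j, rfl⟩
      · refine absurd ?_ C.pi_ne
        rw [← hπ, ← conj_eq_one_iff (a := n), ← hi, ← two_mul, zpow_mul, zpow_ofNat, hπ, C.pi_sq,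
          one_zpow]
      · rw [← hi, zpow_add, zpow_one, zpow_mul, zpow_ofNat, hπ, C.pi_sq, one_zpow, one_mul]
    refine mem_centralizer_iff.mpr fun q hq => ?_
    obtain ⟨i, rfl⟩ := mem_zpowers_iff.mp (hQeq ▸ hq : q ∈ zpowers π)
    exact (hnπ.zpow_right i).symm.eq
  obtain ⟨M, hMn, hM⟩ := Transfer.exists_isComplement'
    (Transfer.hasNormalPComplement_of_normalizer_le_centralizer Q hN) Q
  have hodd : ¬ 2 ∣ Nat.card M := by
    have h := Q.not_dvd_index
    rwa [hM.index_eq_card] at h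
  haveI := hMn
  refine C.normal_of_solvable M
    (Cfsg.Agent.S0205.result (Nat.odd_iff.mpr (Nat.two_dvd_ne_zero.mp hodd))) fun hbot => ?_
  have hc := hM.card_mul_card
  rw [hbot, card_bot, one_mul, hQeq, Nat.card_zpowers,
    orderOf_eq_prime (hπ ▸ C.pi_sq) (hπ ▸ C.pi_ne)] at hc
  have h27 := Subgroup.card_subgroup_dvd_card C.J
  rw [C.card_J, ← hc] at h27
  norm_num at h27

end Ctx

end CfsgLib.SymNine40
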