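import Cfsg.Agent.SymNine40.CentPiQuot
import Cfsg.Agent.ZStar.Theorem
import Cfsg.Agent.OddProducts.Main
import Cfsg.Agent.Transfer.NormalPComplement
import Cfsg.Agent.Constrained.Basic

/-!
The centraliser of the exchange of two blocks.

* `isolated`: the sign change is isolated in the centraliser.
* `core_le_block`: a normal subgroup of odd order lies in the block group.
* `Ctx.centPi`: the centraliser.
-/

set_option autoImplicit false
set_option maxRecDepth 20000
set_option synthInstance.maxHeartbeats 400000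

open Equiv Subgroup

namespace CfsgLib.SymNine40.PiCent

open Mw

variable {G : Type*} [Group G] {C : Ctx G 3} (S : C.Split)

theorem e3_comm_kappa (p : Perm (Fin 6)) : Commute (C.T e3) (S.κ p) := (S.comm p).symm

theorem e3_mem_piCent : C.T e3 ∈ piCent C := axis_le_piCent ⟨0, 1, rfl⟩

theorem three_conj : ∀ p : Perm (Fin 6), p * piSix = piSix * p → p * p * p = 1 → p ≠ 1 →
    ∃ r : Perm (Fin 6), r * p * r⁻¹ = qSix ∨ r * p * r⁻¹ = qSix * qSix := by decide +kernel

include S in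
theorem isolated [Finite G] {g : G} (hg : g ∈ piCent C)
    (hc : Commute (sgn C) (g * sgn C * g⁻¹)) : g * sgn C * g⁻¹ = sgn C := by
  have hx : g * sgn C * g⁻¹ ∈ zeroCent C :=
    ⟨(mul_mem (mul_mem hg sgn_mem_piCent) (inv_mem hg) : g * sgn C * g⁻¹ ∈ piCent C),
      mem_centralizer_singleton_iff.mpr hc.eq.symm⟩
  obtain ⟨p, e, hp, hpe⟩ := block_cent S (centre_cent S hx) hc.symm
  rcases recognise S hp hpe with ⟨rfl, rfl⟩ | ⟨rfl, hsw⟩
  · rw [hpe, map_one, one_mul]; rfl
  exfalso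
  rw [show sg C false = 1 from rfl, mul_one] at hpe
  -- the short translation moved back
  have hs : g⁻¹ * C.T e3 * g ∈ zeroCent C := by
    refine ⟨(mul_mem (mul_mem (inv_mem hg) e3_mem_piCent) hg : g⁻¹ * C.T e3 * g ∈ piCent C),
      mem_centralizer_singleton_iff.mpr ?_⟩
    calc g⁻¹ * C.T e3 * g * sgn C = g⁻¹ * (C.T e3 * (g * sgn C * g⁻¹)) * g := by group
      _ = g⁻¹ * (g * sgn C * g⁻¹ * C.T e3) * g := by rw [hpe, (e3_comm_kappa S p).eq]
      _ = sgn C * (g⁻¹ * C.T e3 * g) := by group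
  obtain ⟨q, e, hq, hqe⟩ := block_cent S (centre_cent S hs) (comm_u hs)
  have h3 : S.κ q * sg C e * (S.κ q * sg C e) * (S.κ q * sg C e) = 1 := by
    rw [← hqe]
    calc g⁻¹ * C.T e3 * g * (g⁻¹ * C.T e3 * g) * (g⁻¹ * C.T e3 * g)
        = g⁻¹ * (C.T e3 * C.T e3 * C.T e3) * g := by group
      _ = 1 := by rw [C.T_cube, mul_one, inv_mul_cancel]
  rw [kappa_sg_mul, kappa_sg_mul, Bool.xor_self, Bool.false_xor] at h3
  obtain ⟨h3q, rfl⟩ := kappa_sg_inj S (q := 1) (e' := false) (by rw [h3, map_one]; simp [sg])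
  rw [show sg C false = 1 from rfl, mul_one] at hqe
  have hq1 : q ≠ 1 := by
    rintro rfl
    rw [map_one, mul_eq_one_iff_eq_inv, inv_mul_eq_iff_eq_mul, mul_inv_cancel] at hqe
    exact (by decide : e3 ≠ (0 : Vec)) (C.T_inj (hqe.trans C.T_zero.symm))
  obtain ⟨r, hr⟩ := three_conj q hq h3q hq1
  obtain ⟨v, hv, hrv⟩ : ∃ v : Vec, (v = (1, 1, 0) ∨ v = (2, 2, 0)) ∧
      S.κ (r * q * r⁻¹) = C.T v := by
    rcases hr with hr | hr <;> rw [hr]
    · exact ⟨_, Or.inl rfl, kappa_rot S⟩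
    · exact ⟨_, Or.inr rfl, by
        rw [map_mul, kappa_rot, ← C.T_add]; exact congrArg C.T (by decide)⟩
  have e' : g * (S.κ r)⁻¹ * C.T v * (g * (S.κ r)⁻¹)⁻¹ = C.T e3 := by
    rw [← hrv, map_mul, map_mul, map_inv, ← hqe]
    group
  have hd : v ≠ 0 ∧ ¬ Wt1 v ∧ ∀ w : Fin 48, lact w v ≠ e3 := by
    rcases hv with rfl | rfl <;> exact (by decide +kernel)
  obtain ⟨m, hm, hme⟩ :=
    C.mem_N.mp (C.mem_N_of_conj_T (allLe3 C v hd.1 fun _ => hd.2.1) e')
  rw [← hme, C.X_conj_T hm] at e'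
  exact hd.2.2 m.w (C.T_inj e')

theorem axis_table : ∀ m : Mw, m * piM = piM * m → m ^ 81 = 1 →
    ∃ a c, m = tr (a, a, c) := by decide +kernel

theorem card_mw : Nat.card Mw = 1296 := by
  rw [Nat.card_eq_fintype_card]
  decide +kernel

/-- A three-group in the centraliser containing the fixed translations. -/
theorem three_group_axis [Finite G] {P : Subgroup G} (hP : P ≤ piCent C) (h3 : IsPGroup 3 P)
    (hA : axisGroup C ≤ P) : P ≤ axisGroup C := by
  haveI := Fact.mk Nat.prime_three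
  by_contra hcon
  have hlt : (axisGroup C).subgroupOf P < ⊤ := lt_top_iff_ne_top.mpr fun h =>
    hcon fun x hx => mem_subgroupOf.mp (h ▸ mem_top (⟨x, hx⟩ : P))
  haveI : Group.IsNilpotent P := h3.isNilpotent
  obtain ⟨n, hn, hnA⟩ := SetLike.exists_of_lt (Group.normalizerCondition_of_isNilpotent _ hlt)
  have hmem : C.T (1, 1, 0) ∈ axisGroup C := ⟨1, 0, rfl⟩
  obtain ⟨a, c, hac⟩ := mem_subgroupOf.mp
    ((mem_normalizer_iff.mp hn ⟨_, hA hmem⟩).mp (mem_subgroupOf.mpr hmem))
  obtain ⟨m, hm, hme⟩ := C.mem_N.mp (C.mem_N_of_conj_T (g := (n : G))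
    (allLe3 C (1, 1, 0) (by decide) fun _ => by decide) hac)
  obtain ⟨k, hk⟩ := h3 n
  have hk' : C.X m ^ 3 ^ k = 1 := by rw [hme]; exact congrArg Subtype.val hk
  have hpm : m * piM = piM * m := (C.X_commute hm (ok3 _)).mp (by
    rw [hme]; exact mem_piCent.mp (hP n.2))
  have hXpow : ∀ j : ℕ, C.X (m ^ j) = C.X m ^ j := by
    intro j
    induction j with
    | zero => rw [pow_zero, pow_zero, C.X_one]
    | succ j ih => rw [pow_succ, pow_succ, C.X_mul (ok3 _) (ok3 _), ih]
  have hm1 : m ^ 3 ^ k = 1 := C.X_eq_one (ok3 _) ((hXpow _).trans hk')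
  obtain ⟨j, -, hj⟩ := (Nat.dvd_prime_pow Nat.prime_three).mp (orderOf_dvd_of_pow_eq_one hm1)
  have hd := orderOf_dvd_natCard m
  rw [card_mw, hj] at hd
  have hj4 : j ≤ 4 := by
    by_contra hlt
    push Not at hlt
    exact absurd ((Nat.pow_dvd_pow 3 hlt).trans hd) (by decide)
  obtain ⟨a', c', rfl⟩ := axis_table m hpm (orderOf_dvd_iff_pow_eq_one.mp
    (hj ▸ (Nat.pow_dvd_pow 3 hj4 : 3 ^ j ∣ 81)))
  exact hnA (mem_subgroupOf.mpr ⟨a', c', hme.symm⟩)

/-- Some conjugate of a three-group of the centraliser consists of fixed translations. -/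
theorem conj_axis [Finite G] {P : Subgroup G} (hP : P ≤ piCent C) (h3 : IsPGroup 3 P) :
    ∃ c ∈ piCent C, ∀ x ∈ P, c * x * c⁻¹ ∈ axisGroup C := by
  haveI := Fact.mk Nat.prime_three
  have hA : IsPGroup 3 ((axisGroup C).subgroupOf (piCent C)) :=
    (IsPGroup.of_card (p := 3) (n := 2) (by rw [card_axis]; rfl)).of_equiv
      (subgroupOfEquivOfLe axis_le_piCent).symm
  obtain ⟨T, hT⟩ := hA.exists_le_sylow
  obtain ⟨R, hR⟩ :=
    (h3.of_equiv (subgroupOfEquivOfLe hP).symm : IsPGroup 3 (P.subgroupOf (piCent C))).exists_le_sylow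
  obtain ⟨c, hc⟩ := MulAction.exists_smul_eq (piCent C) R T
  have hTA : (T : Subgroup (piCent C)).map (piCent C).subtype ≤ axisGroup C :=
    three_group_axis (map_subtype_le _) (T.2.map _) fun x hx =>
      ⟨⟨x, axis_le_piCent hx⟩, hT (mem_subgroupOf.mpr hx), rfl⟩
  refine ⟨c, c.2, fun x hx => hTA ⟨c * ⟨x, hP hx⟩ * c⁻¹, ?_, rfl⟩⟩
  rw [← hc, Sylow.coe_subgroup_smul]
  exact smul_mem_pointwise_smul _ _ _ (hR (mem_subgroupOf.mpr hx))

/-- A subgroup of odd order normal in the centraliser. -/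
theorem core_le_block [Finite G] {W : Subgroup G} (hW : W ≤ piCent C)
    (h2 : ¬ 2 ∣ Nat.card W) (hn : ∀ g ∈ piCent C, ∀ x ∈ W, g * x * g⁻¹ ∈ W) :
    W ≤ blockGroup S := by
  haveI := Fact.mk Nat.prime_three
  have hinv : ∀ x ∈ W, x * x = 1 → x = 1 := by
    intro x hx hxx
    by_contra h1
    haveI := Fact.mk Nat.prime_two
    exact h2 (orderOf_eq_prime (p := 2) (by rw [sq, hxx]) h1 ▸ orderOf_dvd_natCard _ hx)
  -- intersection with the block group
  have hWB : ∀ x ∈ W, x ∈ blockGroup S → ∃ i, x = C.T (unit 2 i) := by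
    rintro _ hx ⟨p, i, e, hp, rfl⟩
    have hn' := Subgroup.orderOf_dvd_natCard W hx
    obtain ⟨n, hn2⟩ : ∃ n, Nat.card W = 2 * n + 1 :=
      Nat.odd_iff.mpr (Nat.two_dvd_ne_zero.mp h2)
    have hcard := orderOf_dvd_iff_pow_eq_one.mp hn'
    rw [(commute_last S p i e).mul_pow, ← map_pow] at hcard
    have he : e = false := by
      rcases e with _ | _
      · rfl
      · exfalso
        have hl : C.X (lastM i true) * C.X (lastM i true) = 1 := by
          rw [← C.X_mul (ok3 _) (ok3 _),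
            (by decide +kernel : ∀ i : Fin 3, lastM i true * lastM i true = 1) i, C.X_one]
        have hodd : C.X (lastM i true) ^ Nat.card W = C.X (lastM i true) := by
          rw [hn2, pow_succ, pow_mul, sq, hl, one_pow, one_mul]
        rw [hodd, mul_eq_one_iff_eq_inv] at hcard
        have hl' : (C.X (lastM i true))⁻¹ = C.X (lastM i true) := inv_eq_of_mul_eq_one_right hl
        rw [hl'] at hcard
        exact absurd (last_kappa S hcard.symm).2 (by decide)
    subst he
    have hpV : InV p := inV_of_comm p fun j => by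
      set a := swapP j with haj
      have ha : a * piSix = piSix * a := (inV_facts _ (inV_swap j)).2.1
      have hc := mul_mem (hn _ (kappa_mem_piCent S ha) _ hx) (inv_mem hx)
      have hcomm : S.κ a * (S.κ p * C.X (lastM i false)) * (S.κ a)⁻¹ *
          (S.κ p * C.X (lastM i false))⁻¹ = S.κ (a * (p * a * p⁻¹)) := by
        rw [show a * (p * a * p⁻¹) = a * p * a⁻¹ * p⁻¹ by
          rw [show a⁻¹ = a from inv_eq_of_mul_eq_one_right (inV_facts _ (inV_swap j)).1]; group,
          map_mul, map_mul, map_mul, map_inv, map_inv, mul_inv_rev]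
        calc S.κ a * (S.κ p * C.X (lastM i false)) * (S.κ a)⁻¹ *
              ((C.X (lastM i false))⁻¹ * (S.κ p)⁻¹)
            = S.κ a * S.κ p * (C.X (lastM i false) * (S.κ a)⁻¹) * (C.X (lastM i false))⁻¹ *
              (S.κ p)⁻¹ := by group
          _ = _ := by rw [← (commute_last S a i false).inv_left.eq]; group
      rw [hcomm] at hc
      have hone := hinv _ hc (by
        rw [← map_mul, (by decide +kernel : ∀ p : Perm (Fin 6), p * piSix = piSix * p → ∀ j,
          swapP j * (p * swapP j * p⁻¹) * (swapP j * (p * swapP j * p⁻¹)) = 1) p hp j, map_one])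
      have h1 : a * (p * a * p⁻¹) = 1 := S.inj (hone.trans (map_one _).symm)
      have ha2 : a⁻¹ = a := inv_eq_of_mul_eq_one_right (inV_facts _ (inV_swap j)).1
      rw [mul_eq_one_iff_eq_inv', ha2] at h1
      exact mul_inv_eq_iff_eq_mul.mp h1
    have hp1 : p = 1 := by
      have hp2 : p * p = 1 := (inV_facts p hpV).1
      rw [hn2, pow_succ, pow_mul, sq, hp2, one_pow, one_mul] at hcard
      rw [← hn2] at hcard
      have hX : C.X (lastM i false) = C.T (unit 2 i) := rfl
      rw [hX, ← T_nsmul, mul_eq_one_iff_eq_inv, ← C.T_neg] at hcard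
      by_contra hne
      obtain ⟨k, hk⟩ := (by decide +kernel : ∀ i k : Fin 3, ∃ k',
        -(k.val • unit 2 i) = unit 2 k') i
          (⟨Nat.card W % 3, Nat.mod_lt _ (by norm_num)⟩ : Fin 3)
      have hmod : Nat.card W • unit 2 i = (Nat.card W % 3) • unit 2 i := by
        conv_lhs => rw [← Nat.mod_add_div (Nat.card W) 3, add_smul, mul_comm, mul_smul,
          (by decide +kernel : ∀ i : Fin 3, (3 : ℕ) • unit 2 i = 0) i, smul_zero, add_zero]
      rw [hmod, hk] at hcard
      have := unit_kappa S hcard.symm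
      subst this
      rw [(by decide +kernel : unit 2 0 = (0 : Vec)), C.T_zero, ← map_one S.κ] at hcard
      exact hne (S.inj hcard)
    exact ⟨i, by rw [hp1, map_one, one_mul]; rfl⟩
  have hgen : ∀ K : Subgroup G, K ≤ W → ¬ 3 ∣ Nat.card K →
      (∀ a c, ∀ x ∈ K, C.T (a, a, c) * x * (C.T (a, a, c))⁻¹ ∈ K) → K = ⊥ := by
    intro K hKW h3 hKn
    refine le_bot_iff.mp (gen_le S (hKW.trans hW) h3 hKn fun x hx hb => mem_bot.mpr ?_)
    obtain ⟨i, rfl⟩ := hWB x (hKW hx) hb
    by_contra h1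
    refine h3 (orderOf_eq_prime (p := 3) ?_ h1 ▸ orderOf_dvd_natCard _ hx)
    rw [pow_succ, pow_two]; exact C.T_cube _
  by_cases h3 : 3 ∣ Nat.card W
  swap
  · rw [hgen W le_rfl h3 fun a c x hx => hn _ (axis_le_piCent ⟨a, c, rfl⟩) x hx]
    exact bot_le
  -- the short translation lies in `W`
  obtain ⟨x, hx3⟩ := exists_prime_orderOf_dvd_card' 3 h3
  have hz : IsPGroup 3 (zpowers (x : G)) := IsPGroup.of_card (n := 1) (by
    rw [Nat.card_zpowers, Subgroup.orderOf_coe, hx3]; rfl)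
  obtain ⟨c, hc, hcx⟩ := conj_axis (zpowers_le.mpr (hW x.2)) hz
  obtain ⟨a, b, hab⟩ := hcx _ (mem_zpowers _)
  have haxB : ∀ y ∈ axisGroup C, y ∈ blockGroup S := by
    rintro _ ⟨a, b, rfl⟩
    exact monomial_mem S ((by decide +kernel : ∀ a b : Fin 3,
      tr (a, a, b) * piM = piM * tr (a, a, b)) a b)
  have hzW : c * x * c⁻¹ ∈ W := hn c hc _ x.2
  obtain ⟨i, hi⟩ := hWB _ hzW (haxB _ ⟨a, b, hab⟩)
  have hi0 : i ≠ 0 := fun h0 => by
    rw [h0, (by decide +kernel : unit 2 0 = (0 : Vec)), C.T_zero, conj_eq_one_iff] at hi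
    have : x = 1 := Subtype.ext hi
    rw [this, orderOf_one] at hx3
    norm_num at hx3
  have hUW : ∀ j, C.T (unit 2 j) ∈ W := by
    intro j
    obtain ⟨k, hk⟩ := (by decide +kernel : ∀ i j : Fin 3, i ≠ 0 →
      ∃ k : Fin 3, unit 2 j = k.val • unit 2 i) i j hi0
    rw [hk, T_nsmul, ← hi]
    exact pow_mem hzW _
  -- a Sylow subgroup
  let E : W := ⟨C.T (unit 2 1), hUW 1⟩
  have hE : IsPGroup 3 (zpowers E) := fun y => ⟨1, by
    obtain ⟨y, k, rfl⟩ := y
    refine Subtype.ext ?_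
    change (E ^ k) ^ (3 ^ 1) = 1
    rw [pow_one, ← zpow_natCast, ← zpow_mul, mul_comm, zpow_mul, zpow_natCast,
      show E ^ 3 = 1 from Subtype.ext (by
        rw [SubmonoidClass.coe_pow, OneMemClass.coe_one, pow_succ, pow_two]
        exact C.T_cube (unit 2 1)), one_zpow]⟩
  obtain ⟨P, hP⟩ := hE.exists_le_sylow
  have hPu : ∀ y ∈ (P : Subgroup W), ∃ j, (y : G) = C.T (unit 2 j) := by
    obtain ⟨d, hd, hdP⟩ := conj_axis (P := (P : Subgroup W).map W.subtype)
      ((map_subtype_le _).trans hW) (P.2.map _)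
    have hdy : ∀ y : W, y ∈ (P : Subgroup W) → ∃ j, d * (y : G) * d⁻¹ = C.T (unit 2 j) :=
      fun y hy => hWB _ (hn d hd _ y.2) (haxB _ (hdP _ ⟨y, hy, rfl⟩))
    intro y hy
    obtain ⟨j, hj⟩ := hdy y hy
    obtain ⟨k, hk⟩ := hdy E (hP (mem_zpowers E))
    have hk0 : k ≠ 0 := fun h0 => by
      rw [h0, (by decide +kernel : unit 2 0 = (0 : Vec)), C.T_zero, conj_eq_one_iff] at hk
      exact (by decide +kernel : unit 2 1 ≠ (0 : Vec)) (C.T_inj (hk.trans C.T_zero.symm))
    obtain ⟨l, hl, hl'⟩ := (by decide +kernel : ∀ j k : Fin 3, k ≠ 0 →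
      ∃ l : Fin 3, unit 2 j = l.val • unit 2 k ∧ unit 2 l = l.val • unit 2 1) j k hk0
    refine ⟨l, mul_left_cancel (mul_right_cancel (hj.trans ?_) : d * (y : G) = d * C.T (unit 2 l))⟩
    rw [hl, T_nsmul, ← hk, conj_pow, hl', T_nsmul]
  have hnorm : normalizer ((P : Subgroup W) : Set W) ≤ centralizer ((P : Subgroup W) : Set W) := by
    intro n hnP
    refine mem_centralizer_iff.mpr fun y hy => ?_
    obtain ⟨j, hj⟩ := hPu _ ((mem_normalizer_iff.mp hnP E).mp (hP (mem_zpowers E)))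
    have hj0 : j ≠ 0 := fun h0 => by
      rw [h0, (by decide +kernel : unit 2 0 = (0 : Vec)), C.T_zero] at hj
      simp only [Subgroup.coe_mul, Subgroup.coe_inv, conj_eq_one_iff] at hj
      exact (by decide +kernel : unit 2 1 ≠ (0 : Vec)) (C.T_inj (hj.trans C.T_zero.symm))
    simp only [Subgroup.coe_mul, Subgroup.coe_inv] at hj
    change (n : G) * C.T (unit 2 1) * (n : G)⁻¹ = _ at hj
    have hE1 : Commute (n : G) (C.T (unit 2 1)) := by
      rcases (by decide +kernel : ∀ j : Fin 3, j ≠ 0 → unit 2 j = unit 2 1 ∨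
        unit 2 j = -unit 2 1) j hj0 with h | h <;> rw [h] at hj
      · exact mul_inv_eq_iff_eq_mul.mp hj
      · have hsq : Commute ((n : G) ^ 2) (C.T (unit 2 1)) := by
          refine mul_inv_eq_iff_eq_mul.mp ?_
          calc (n : G) ^ 2 * C.T (unit 2 1) * ((n : G) ^ 2)⁻¹
              = n * (n * C.T (unit 2 1) * (n : G)⁻¹) * (n : G)⁻¹ := by rw [sq]; group
            _ = (n * C.T (unit 2 1) * (n : G)⁻¹)⁻¹ := by
              conv_lhs => rw [hj, C.T_neg]
              group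
            _ = _ := by rw [hj, C.T_neg, inv_inv]
        obtain ⟨k, hk⟩ : ∃ k : ℕ, ((n : G) ^ 2) ^ k = n := exists_pow_eq_self_of_coprime (by
          refine Nat.Coprime.coprime_dvd_right (Subgroup.orderOf_dvd_natCard W n.2) ?_
          exact (Nat.prime_two.coprime_iff_not_dvd.mpr h2))
        rw [← hk]
        exact hsq.pow_left k
    obtain ⟨l, hl⟩ := hPu y hy
    refine Subtype.ext ?_
    rw [Subgroup.coe_mul, Subgroup.coe_mul, hl, (by decide +kernel : ∀ l : Fin 3,
      unit 2 l = l.val • unit 2 1) l, T_nsmul]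
    exact (hE1.pow_right _).eq.symm
  obtain ⟨K, hK, hKc⟩ := Transfer.exists_isComplement'
    (Transfer.hasNormalPComplement_of_normalizer_le_centralizer P hnorm) P
  have hK3 : ¬ 3 ∣ Nat.card K := by
    have h := hKc.index_eq_card
    intro hd
    have hi := P.not_dvd_index
    rw [h] at hi
    exact hi hd
  have hKP : ∀ y : W, y ∈ K ↔ (orderOf y).Coprime 3 := fun y => by
    refine Transfer.mem_iff_coprime_of_pPower_index (k := Nat.log 3 (Nat.card (P : Subgroup W))) ?_ ?_ y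
    · exact ((Nat.prime_three.coprime_iff_not_dvd.mpr hK3)).symm
    · rw [hKc.symm.index_eq_card]
      obtain ⟨k, hk⟩ := IsPGroup.iff_card.mp P.2
      rw [hk, Nat.log_pow (by norm_num)]
  have hbot : K.map W.subtype = ⊥ := by
    refine hgen _ (map_subtype_le _) ?_ ?_
    · rwa [card_map_of_injective W.subtype_injective]
    · rintro a c _ ⟨y, hy, rfl⟩
      have ht : C.T (a, a, c) ∈ piCent C := axis_le_piCent ⟨a, c, rfl⟩
      refine ⟨⟨_, hn _ ht _ y.2⟩, (hKP _).mpr ?_, rfl⟩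
      have := (hKP y).mp hy
      rw [← Subgroup.orderOf_coe] at this ⊢
      rwa [show orderOf (C.T (a, a, c) * (y : G) * (C.T (a, a, c))⁻¹) = orderOf (y : G) from
        (MulAut.conj (C.T (a, a, c))).orderOf_eq (y : G)]
  intro w hw
  have hPtop : (P : Subgroup W) = ⊤ := by
    have hKbot : K = ⊥ := map_eq_bot_iff_of_injective K W.subtype_injective |>.mp hbot
    rw [hKbot, isComplement'_bot_left] at hKc
    exact hKc
  obtain ⟨j, hj⟩ := hPu ⟨w, hw⟩ (hPtop ▸ mem_top _)
  rw [show w = C.T (unit 2 j) from hj]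
  exact ⟨1, j, false, by simp, by rw [map_one, one_mul]; rfl⟩

end CfsgLib.SymNine40.PiCent

namespace CfsgLib.SymNine40

open PiCent in
/-- The centraliser of the exchange of two blocks. -/
theorem Ctx.centPi {G : Type*} [Group G] [Finite G] (C : Ctx G 3) (S : C.Split) : C.CentPi S := by
  haveI := Fact.mk Nat.prime_two
  intro g hg
  let u : piCent C := ⟨sgn C, sgn_mem_piCent⟩
  have hu : orderOf u = 2 := orderOf_eq_prime
    (Subtype.ext (by rw [SubmonoidClass.coe_pow, sq]; exact sgn_sq))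
    (fun h => sgn_ne (congrArg Subtype.val h))
  have hiso : Cfsg.IsIsolated u := fun x hx =>
    Subtype.ext (isolated S x.2 (congrArg Subtype.val hx.eq))
  have hz := ZStar.inZStar_of_isolated hu hiso
  set W := (Cfsg.pPrimeCore 2 (piCent C)).map (piCent C).subtype with hWdef
  have hWle : W ≤ blockGroup S := by
    refine core_le_block S (map_subtype_le _) ?_ ?_
    · rw [hWdef, card_map_of_injective (piCent C).subtype_injective]
      exact Constrained.pPrimeCore_not_dvd
    · rintro x hx _ ⟨y, hy, rfl⟩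
      exact ⟨⟨x, hx⟩ * y * ⟨x, hx⟩⁻¹,
        (inferInstance : (Cfsg.pPrimeCore 2 (piCent C)).Normal).conj_mem y hy _, rfl⟩
  have hgm : g ∈ piCent C := mem_piCent.mpr hg
  set g' : piCent C := ⟨g, hgm⟩
  have hu2 : u * u = 1 := by rw [← sq, ← hu, pow_orderOf_eq_one]
  have hd : g' * u * g'⁻¹ * (g' * u * g'⁻¹) = 1 := by
    rw [show g' * u * g'⁻¹ * (g' * u * g'⁻¹) = g' * (u * u) * g'⁻¹ by group, hu2, mul_one,
      mul_inv_cancel]
  have hmem : u * (g' * u * g'⁻¹) ∈ Cfsg.pPrimeCore 2 (piCent C) := by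
    have := (inferInstance : (Cfsg.pPrimeCore 2 (piCent C)).Normal).conj_mem _ (hz g') u
    rw [inv_eq_of_mul_eq_one_right hu2] at this
    simpa [mul_assoc, hu2] using this
  have hodd : Odd (orderOf (u * (g' * u * g'⁻¹))) := by
    refine Nat.odd_iff.mpr (Nat.two_dvd_ne_zero.mp fun h => ?_)
    exact Constrained.pPrimeCore_not_dvd (p := 2) (h.trans (Subgroup.orderOf_dvd_natCard _ hmem))
  obtain ⟨v, hv, hvu⟩ := OddProducts.exists_conj_of_odd hu2 hd hodd
  have hvW : (v : G) ∈ W := ⟨v, zpowers_le.mpr hmem hv, rfl⟩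
  have hc : (v : G) * g ∈ zeroCent C := by
    refine ⟨mul_mem v.2 hgm, mem_centralizer_singleton_iff.mpr (mul_inv_eq_iff_eq_mul.mp ?_)⟩
    have := congrArg Subtype.val hvu
    simp only [Subgroup.coe_mul, Subgroup.coe_inv, g', u] at this
    calc (v : G) * g * sgn C * ((v : G) * g)⁻¹ = v * (g * sgn C * g⁻¹) * (v : G)⁻¹ := by group
      _ = sgn C := this
  have hgb := mul_mem (inv_mem (hWle hvW)) (centre_cent S hc)
  rw [inv_mul_cancel_left] at hgb
  exact hgb

end CfsgLib.SymNine40
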