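import Cfsg.Agent.SymNine40.Weak
import Cfsg.Agent.PSp43Amalgam.LocalStructure
import Cfsg.Agent.S3331

/-!
Centralisers of planes of translations.

* `Ctx.cent_plane`: the centraliser of a plane lies in the monomial group.
* `Ctx.norm_plane`: so does its normaliser.
-/

set_option autoImplicit false
set_option maxRecDepth 20000

open Equiv Subgroup

namespace CfsgLib.SymNine40

open Mw

/-- The orbit of `±xv`, tabulated. -/
def xT (k : Fin 4) (v : Vec) : Bool :=
  if k.val < 2 then decide (v = xv ∨ v = -xv) else decide (v.1 ≠ 0 ∧ v.2.1 ≠ 0 ∧ v.2.2 ≠ 0)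

theorem xT_iff : ∀ k v, xT k v = true ↔ XType k v := by decide +kernel

/-- A combination of two vectors. -/
def comb (v w : Vec) (i j : Fin 3) : Vec := i.val • v + j.val • w

/-- A combination of three vectors exhausts the space. -/
def Spans (v w r : Vec) : Prop :=
  ∀ u : Vec, ∃ i j l : Fin 3, u = comb v w i j + l.val • r

instance (v w r : Vec) : Decidable (Spans v w r) := by unfold Spans; infer_instance

theorem alt_five_table : ∀ r : alternatingGroup (Fin 5), r * r * r = 1 → r ≠ 1 →
    ∃ a : alternatingGroup (Fin 5), a ≠ 1 ∧ a * a = 1 ∧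
      a * (r * a * r⁻¹) = r * a * r⁻¹ * a ∧ r * (r * a * r⁻¹) * r⁻¹ = a * (r * a * r⁻¹) := by
  decide +kernel

/-- The stabiliser of a plane is trivial or is generated by a reflection. -/
def PlaneOk (k : Fin 4) (v w : Vec) : Prop :=
  (∀ b, Ok k b → lact b v = v → lact b w = w → b = 0) ∨
    ∃ a, Ok k a ∧ a ≠ 0 ∧ lmul a a = 0 ∧ lact a v = v ∧ lact a w = w ∧
      (∀ b, Ok k b → lact b v = v → lact b w = w → b = 0 ∨ b = a) ∧
      ∃ r, r ≠ 0 ∧ lact a r = -r ∧ Spans v w r

set_option synthInstance.maxSize 4000 in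
set_option synthInstance.maxHeartbeats 100000 in
instance (k : Fin 4) (v w : Vec) : Decidable (PlaneOk k v w) := by unfold PlaneOk; infer_instance

set_option synthInstance.maxSize 4000 in
set_option synthInstance.maxHeartbeats 100000 in
theorem plane_table : ∀ k : Fin 4, ∀ v w : Vec, v ≠ 0 →
    (∀ i j : Fin 3, comb v w i j = 0 → i = 0 ∧ j = 0) →
    (∀ i j : Fin 3, xT k (comb v w i j) = true → i = 0 ∧ j = 0) → PlaneOk k v w := by
  decide +kernel

namespace Ctx

variable {G : Type*} [Group G] {k : Fin 4} (C : Ctx G k)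

theorem T_nsmul (n : ℕ) (v : Vec) : C.T (n • v) = C.T v ^ n := by
  induction n with
  | zero => rw [zero_nsmul, pow_zero, C.T_zero]
  | succ n ih => rw [succ_nsmul, C.T_add, ih, pow_succ]

theorem commute_comb {g : G} {v w : Vec} (hv : Commute g (C.T v)) (hw : Commute g (C.T w))
    (i j : Fin 3) : Commute g (C.T (comb v w i j)) := by
  rw [comb, C.T_add, C.T_nsmul, C.T_nsmul]
  exact (hv.pow_right _).mul_right (hw.pow_right _)

theorem centLe_xType {v : Vec} (h : XType k v) : C.CentLe v := by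
  obtain ⟨a, ha, e | e⟩ := h
  · exact e ▸ C.centLe_conj C.centLe_x ha
  · have := C.centLe_neg (C.centLe_conj C.centLe_x ha)
    rw [e, neg_neg] at this
    exact this

theorem sylow_J [Finite G] {v : Vec} (hv : v ≠ 0) (hx : ¬ XType k v) (D : Subgroup G)
    (hJ : C.J ≤ D) (hD : ∀ d ∈ D, Commute d (C.T v)) :
    ∃ P : Sylow 3 D, ∀ p : D, p ∈ (P : Subgroup D) ↔ (p : G) ∈ C.J := by
  haveI := Fact.mk Nat.prime_three
  have hJp : IsPGroup 3 C.J := IsPGroup.of_card (n := 3) (by rw [C.card_J]; norm_num)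
  obtain ⟨S, hS⟩ := (hJp.comap_subtype (K := D)).exists_le_sylow
  refine ⟨S, fun p => ⟨fun hp => ?_, fun hp => hS hp⟩⟩
  by_contra hpJ
  have hlt : C.J < (S : Subgroup D).map D.subtype := lt_of_le_of_ne
    (fun j hj => ⟨⟨j, hJ hj⟩, hS hj, rfl⟩) (fun e => hpJ (e.symm ▸ mem_map_of_mem D.subtype hp))
  obtain ⟨r, hr⟩ := (S.2.map D.subtype).exists_card_eq
  have h4 : 4 ≤ r := by
    have h := Set.ncard_lt_ncard (SetLike.coe_ssubset_coe.mpr hlt)
    rw [← Nat.card_coe_set_eq, ← Nat.card_coe_set_eq] at h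
    simp only [SetLike.coe_sort_coe] at h
    rw [C.card_J, hr] at h
    by_contra h'
    have := Nat.pow_le_pow_right (show 1 ≤ 3 by norm_num) (show r ≤ 3 by omega)
    omega
  obtain ⟨Q, hQ⟩ := (S.2.map D.subtype).exists_le_sylow
  have heq : (S : Subgroup D).map D.subtype = (Q : Subgroup G) := by
    refine Subgroup.eq_of_le_of_card_ge hQ ?_
    rw [C.sylow_card Q, hr]
    exact le_trans (by norm_num) (Nat.pow_le_pow_right (by norm_num) h4)
  refine C.cent_T_card hv hx Q (hlt.le.trans heq.le) fun q hq => ?_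
  obtain ⟨d, -, rfl⟩ := heq.symm ▸ hq
  exact hD _ d.2

theorem norm_J_sub [Finite G] {D : Subgroup G} (hJ : C.J ≤ D) {P : Sylow 3 D}
    (hP : ∀ p : D, p ∈ (P : Subgroup D) ↔ (p : G) ∈ C.J) {n : D}
    (hn : n ∈ normalizer ((P : Subgroup D) : Set D)) : (n : G) ∈ C.N := by
  refine C.mem_N_of_norm fun u => ?_
  have h := (mem_normalizer_iff.mp hn ⟨C.T u, hJ (C.T_mem_J u)⟩).mp ((hP _).mpr (C.T_mem_J u))
  obtain ⟨w, hw⟩ := C.mem_J.mp ((hP _).mp h)
  exact ⟨w, hw.symm⟩

theorem sig_sub [Finite G] {D : Subgroup G} (hJ : C.J ≤ D) (W : Subgroup D)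
    (hc : (Nat.card W).Coprime 3) (h : ∀ p : D, (p : G) ∈ C.J → ∀ a ∈ W, p * a * p⁻¹ ∈ W) :
    W = ⊥ := by
  have := C.sig (K := W.map D.subtype)
    (by rwa [card_map_of_injective D.subtype_injective]) (fun u a ha => by
      obtain ⟨b, hb, rfl⟩ := ha
      exact ⟨_, h ⟨C.T u, hJ (C.T_mem_J u)⟩ (C.T_mem_J u) b hb, rfl⟩)
  rwa [map_eq_bot_iff_of_injective _ D.subtype_injective] at this

theorem le_J_of_free [Finite G] {v : Vec} (hv : v ≠ 0) (hx : ¬ XType k v) (D : Subgroup G)
    (hJ : C.J ≤ D) (hD : ∀ d ∈ D, Commute d (C.T v))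
    (hfree : ∀ m, Ok k m.w → C.X m ∈ D → m.w = 0) : D ≤ C.J := by
  haveI := Fact.mk Nat.prime_three
  obtain ⟨P, hP⟩ := C.sylow_J hv hx D hJ hD
  have hN : normalizer ((P : Subgroup D) : Set D) ≤ centralizer ((P : Subgroup D) : Set D) := by
    intro n hn
    obtain ⟨m, hm, e⟩ := C.mem_N.mp (C.norm_J_sub hJ hP hn)
    have hnJ : (n : G) ∈ C.J := by
      rw [← e, C.mem_J_iff hm]
      exact hfree m hm (e ▸ n.2)
    exact mem_centralizer_iff.mpr fun p hp => Subtype.ext (C.J_comm ((hP p).mp hp) hnJ).eq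
  obtain ⟨M, hMn, hM⟩ := Transfer.exists_isComplement'
    (Transfer.hasNormalPComplement_of_normalizer_le_centralizer P hN) P
  have hMb : M = ⊥ := C.sig_sub hJ M
    (by
      have h := P.not_dvd_index
      rw [hM.index_eq_card] at h
      exact (Nat.prime_three.coprime_iff_not_dvd.mpr h).symm)
    (fun p _ a ha => hMn.conj_mem a ha p)
  intro d hd
  obtain ⟨⟨⟨a, ha⟩, ⟨b, hb⟩⟩, hab⟩ := hM.2 (⟨d, hd⟩ : D)
  change a * b = ⟨d, hd⟩ at hab
  rw [Subgroup.mem_bot.mp (hMb ▸ ha : a ∈ (⊥ : Subgroup D)), one_mul] at hab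
  exact (hP ⟨d, hd⟩).mp (hab ▸ hb)

theorem cent_plane_refl [Finite G] {v w r : Vec} {a : Fin 48} (ha : Ok k a) (ha2 : lmul a a = 0)
    (hv : v ≠ 0) (hx : ¬ XType k v) (hav : lact a v = v) (haw : lact a w = w) (hr : r ≠ 0)
    (har : lact a r = -r) (hsp : Spans v w r)
    (hst : ∀ b, Ok k b → lact b v = v → lact b w = w → b = 0 ∨ b = a) :
    ∀ g, Commute g (C.T v) → Commute g (C.T w) → g ∈ C.N := by
  classical
  haveI : Fact (Nat.Prime 3) := ⟨Nat.prime_three⟩
  set D := centralizer ({C.T v, C.T w} : Set G) with hDdef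
  have hmem : ∀ g, g ∈ D ↔ Commute g (C.T v) ∧ Commute g (C.T w) := fun g => by
    rw [hDdef, mem_centralizer_iff]
    simp only [Set.mem_insert_iff, Set.mem_singleton_iff, forall_eq_or_imp, forall_eq]
    exact ⟨fun h => ⟨h.1.symm, h.2.symm⟩, fun h => ⟨h.1.symm, h.2.symm⟩⟩
  intro g hgv hgw
  have hg : g ∈ D := (hmem g).mpr ⟨hgv, hgw⟩
  have hJ : C.J ≤ D := fun j hj =>
    (hmem j).mpr ⟨C.J_comm hj (C.T_mem_J v), C.J_comm hj (C.T_mem_J w)⟩
  obtain ⟨P, hP⟩ := C.sylow_J hv hx D hJ fun d hd => ((hmem d).mp hd).1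
  have hab : ∀ p ∈ (P : Subgroup D), ∀ q ∈ (P : Subgroup D), p * q = q * p := fun p hp q hq =>
    Subtype.ext (C.J_comm ((hP p).mp hp) ((hP q).mp hq)).eq
  let emb : Vec → D := fun u => ⟨C.T u, hJ (C.T_mem_J u)⟩
  have hembP : ∀ u, emb u ∈ (P : Subgroup D) := fun u => (hP _).mpr (C.T_mem_J u)
  obtain ⟨V, hVd, hVc, hVr⟩ := PSp43Amalgam.exists_transfer P hab
  set r' : D := emb r with hr'
  set t : D := ⟨C.X (lin a), (hmem _).mpr
    ⟨mul_inv_eq_iff_eq_mul.mp ((C.X_conj_T (a := lin a) ha v).trans (congrArg C.T hav)),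
     mul_inv_eq_iff_eq_mul.mp ((C.X_conj_T (a := lin a) ha w).trans (congrArg C.T haw))⟩⟩ with htdef
  have ht2 : t * t = 1 := Subtype.ext (by
    change C.X (lin a) * C.X (lin a) = 1
    rw [← C.X_mul (a := lin a) ha ha]
    exact (congrArg C.X (show lin a * lin a = 1 by
      change (⟨0 + lact a 0, lmul a a⟩ : Mw) = ⟨0, 0⟩
      rw [ha2, (by decide +kernel : ∀ b, lact b 0 = 0) a, add_zero])).trans C.X_one)
  have htr : t * r' * t⁻¹ = r'⁻¹ := Subtype.ext (by
    change C.X (lin a) * C.T r * (C.X (lin a))⁻¹ = (C.T r)⁻¹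
    rw [C.X_conj_T (a := lin a) ha, ← C.T_neg]
    exact congrArg C.T har)
  have hr3 : r' ^ 3 = 1 := Subtype.ext (by
    rw [SubgroupClass.coe_pow, pow_succ, sq]; exact C.T_cube r)
  have hr1 : r' ≠ 1 := fun e => hr (C.T_inj ((congrArg Subtype.val e).trans C.T_zero.symm))
  have hVr1 : V r' = 1 := hVr (by norm_num) r' ⟨t, htr⟩
  have ht1 : t ≠ 1 := fun e => by
    rw [e, one_mul, inv_one, mul_one, eq_inv_iff_mul_eq_one] at htr
    apply hr1
    calc r' = r' ^ 3 * (r' * r')⁻¹ := by group
      _ = 1 := by rw [hr3, htr, inv_one, mul_one]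
  have hVt : V t = 1 := hVc t ⟨2, orderOf_eq_prime (by rw [sq, ht2]) ht1, by norm_num⟩
  set K := V.ker with hK
  haveI hKn : K.Normal := by rw [hK]; infer_instance
  have hrK : r' ∈ K := hVr1
  have hKP : ∀ u, emb u ∈ K → ∃ l : Fin 3, u = l.val • r := by
    intro u hu
    obtain ⟨i, j, l, rfl⟩ := hsp u
    refine ⟨l, ?_⟩
    set d := emb (comb v w i j)
    have hsplit : emb (comb v w i j + l.val • r) = d * r' ^ l.val := Subtype.ext (by
      simp only [Subgroup.coe_mul, SubgroupClass.coe_pow, d, r', emb]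
      rw [C.T_add, C.T_nsmul])
    have h1 : V d = 1 := by
      have h0 : V (emb (comb v w i j + l.val • r)) = 1 := hu
      rwa [hsplit, map_mul, map_pow, hVr1, one_pow, mul_one] at h0
    have h2 : d ^ (P : Subgroup D).index = 1 := by
      rw [← hVd d (hembP _) (fun n _ => Subtype.ext (C.commute_comb ((hmem n).mp n.2).1
        ((hmem n).mp n.2).2 i j).eq), h1, Subgroup.coe_one]
    have h3 := pow_gcd_eq_one.2 ⟨h2, (Subtype.ext (by
      rw [SubgroupClass.coe_pow, pow_succ, sq]; exact C.T_cube _) : d ^ 3 = 1)⟩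
    rw [((Nat.prime_three.coprime_iff_not_dvd.2 P.not_dvd_index).symm).gcd_eq_one, pow_one] at h3
    rw [show comb v w i j = 0 from C.T_inj ((congrArg Subtype.val h3).trans C.T_zero.symm), zero_add]
  set rK : K := ⟨r', hrK⟩ with hrKdef
  have hrKo : orderOf rK = 3 := by
    rw [← Subgroup.orderOf_coe]
    exact orderOf_eq_prime hr3 hr1
  have hXcard : Nat.card (zpowers rK) = 3 := by rw [Nat.card_zpowers, hrKo]
  have hXC : centralizer (zpowers rK : Set K) = zpowers rK := by
    apply le_antisymm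
    · intro c hc
      have h1 : Commute ((c : D) : G) (C.T r) := (congrArg (fun z : K => ((z : D) : G))
        (mem_centralizer_iff.1 hc rK (mem_zpowers rK))).symm
      have hcJ : ((c : D) : G) ∈ C.J := C.cent_J fun u => by
        obtain ⟨i, j, l, rfl⟩ := hsp u
        rw [C.T_add, C.T_nsmul]
        exact (C.commute_comb ((hmem _).mp (c : D).2).1 ((hmem _).mp (c : D).2).2 i j).mul_right
          (h1.pow_right _)
      obtain ⟨u, hu⟩ := C.mem_J.mp hcJ
      have hcu : (c : D) = emb u := Subtype.ext hu.symm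
      obtain ⟨l, rfl⟩ := hKP u (hcu ▸ c.2)
      refine ⟨(l.val : ℤ), Subtype.ext ?_⟩
      rw [hcu]
      simp only [zpow_natCast, SubgroupClass.coe_pow, rK]
      exact Subtype.ext (by rw [SubgroupClass.coe_pow]; exact (C.T_nsmul _ _).symm)
    · intro c hc
      rw [mem_centralizer_iff]
      intro h hh
      obtain ⟨i, rfl⟩ := mem_zpowers_iff.1 hc
      obtain ⟨j, rfl⟩ := mem_zpowers_iff.1 hh
      exact (Commute.refl rK).zpow_zpow j i
  -- subgroups of `K` normalised by `r` and of order prime to three are trivial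
  have hkill : ∀ W : Subgroup K, (Nat.card W).Coprime 3 →
      (∀ a ∈ W, rK * a * rK⁻¹ ∈ W) → W = ⊥ := by
    intro W hc hW
    have h := C.sig_sub hJ (W.map K.subtype)
      (by rwa [card_map_of_injective K.subtype_injective]) (fun p hp a ha => by
        obtain ⟨b, hb, rfl⟩ := ha
        obtain ⟨u, hu⟩ := C.mem_J.mp hp
        obtain ⟨i, j, l, rfl⟩ := hsp u
        have hp' : p = emb (comb v w i j) * r' ^ l.val := Subtype.ext (by
          simp only [Subgroup.coe_mul, SubgroupClass.coe_pow, r', emb]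
          rw [← hu, C.T_add, C.T_nsmul])
        have hpow : ∀ n : ℕ, rK ^ n * b * (rK ^ n)⁻¹ ∈ W := by
          intro n
          induction n with
          | zero => simpa using hb
          | succ n ih =>
            rw [pow_succ', show rK * rK ^ n * b * (rK * rK ^ n)⁻¹ =
              rK * (rK ^ n * b * (rK ^ n)⁻¹) * rK⁻¹ by group]
            exact hW _ ih
        refine ⟨_, hpow l.val, ?_⟩
        simp only [coe_subtype, Subgroup.coe_mul, Subgroup.coe_inv, SubgroupClass.coe_pow, rK]
        have hd : Commute (emb (comb v w i j)) (r' ^ l.val * (b : D) * (r' ^ l.val)⁻¹) :=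
          Subtype.ext (C.commute_comb ((hmem _).mp (r' ^ l.val * (b : D) * (r' ^ l.val)⁻¹).2).1
            ((hmem _).mp (r' ^ l.val * (b : D) * (r' ^ l.val)⁻¹).2).2 i j).symm.eq
        rw [hp', show emb (comb v w i j) * r' ^ l.val * (b : D) * (emb (comb v w i j) * r' ^ l.val)⁻¹
          = emb (comb v w i j) * (r' ^ l.val * (b : D) * (r' ^ l.val)⁻¹) * (emb (comb v w i j))⁻¹ by
          group, hd.eq, mul_inv_cancel_right])
    rwa [map_eq_bot_iff_of_injective _ K.subtype_injective] at h
  have hbot : ∀ N : Subgroup K, N.Normal → (Nat.card N).Coprime 3 → N = ⊥ :=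
    fun N hn hc => hkill N hc fun a ha => hn.conj_mem a ha rK
  have hiso : ∀ _ : Nonempty (K ≃* alternatingGroup (Fin 5)) ∨
      Nonempty (K ≃* Matrix.ProjectiveSpecialLinearGroup (Fin 2) (ZMod 7)), False := by
    rintro (⟨⟨e⟩⟩ | ⟨⟨e⟩⟩)
    · obtain ⟨s, hs⟩ : ∃ s, e rK = s := ⟨_, rfl⟩
      have hs3 : s * s * s = 1 := by
        rw [← hs, ← map_mul, ← map_mul, ← sq, ← pow_succ,
          show rK ^ 3 = 1 from Subtype.ext hr3, map_one]
      have hs1 : s ≠ 1 := fun h => hr1 (congrArg Subtype.val (e.map_eq_one_iff.mp (hs.trans h)))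
      obtain ⟨c, hc1, hc2, hcc, hrot⟩ := alt_five_table s hs3 hs1
      set c1 := s * c * s⁻¹ with hc1def
      let W0 : Subgroup (alternatingGroup (Fin 5)) := closure {c, c1}
      have hW0 : ∀ z ∈ W0, z * z = 1 ∧ s * z * s⁻¹ ∈ W0 ∧ Commute z c ∧ Commute z c1 := by
        intro z hz
        induction hz using closure_induction with
        | mem y hy =>
          rcases hy with rfl | rfl
          · exact ⟨hc2, subset_closure (Or.inr rfl), Commute.refl _, hcc⟩
          · refine ⟨?_, ?_, hcc.symm, Commute.refl _⟩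
            · rw [hc1def, show s * c * s⁻¹ * (s * c * s⁻¹) = s * (c * c) * s⁻¹ by group, hc2,
                mul_one, mul_inv_cancel]
            · rw [hrot]; exact mul_mem (subset_closure (Or.inl rfl)) (subset_closure (Or.inr rfl))
        | one => exact ⟨one_mul 1, by simp, Commute.one_left _, Commute.one_left _⟩
        | mul y z hy hz ihy ihz =>
          refine ⟨?_, ?_, ihy.2.2.1.mul_left ihz.2.2.1, ihy.2.2.2.mul_left ihz.2.2.2⟩
          · have hyz : Commute y z := by
              have : W0 ≤ centralizer {y} := (closure_le _).mpr fun q hq => by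
                rcases hq with rfl | rfl
                · exact mem_centralizer_singleton_iff.mpr ihy.2.2.1.eq.symm
                · exact mem_centralizer_singleton_iff.mpr ihy.2.2.2.eq.symm
              exact (mem_centralizer_singleton_iff.mp (this hz)).symm
            rw [hyz.symm.mul_mul_mul_comm, ihy.1, ihz.1, one_mul]
          · rw [show s * (y * z) * s⁻¹ = (s * y * s⁻¹) * (s * z * s⁻¹) by group]
            exact mul_mem ihy.2.1 ihz.2.1
        | inv y hy ihy =>
          rw [inv_eq_of_mul_eq_one_right ihy.1]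
          exact ihy
      have h2 : IsPGroup 2 W0 := fun z => ⟨1, Subtype.ext (by simpa [sq] using (hW0 z z.2).1)⟩
      obtain ⟨n, hn⟩ := h2.exists_card_eq
      have hb := hkill (W0.map e.symm.toMonoidHom)
        (by rw [card_map_of_injective e.symm.injective, hn]
            exact Nat.Coprime.pow_left n (by norm_num))
        (fun q hq => by
          obtain ⟨z, hz, rfl⟩ := hq
          refine ⟨_, (hW0 z hz).2.1, ?_⟩
          simp [← hs])
      rw [map_eq_bot_iff_of_injective _ e.symm.injective] at hb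
      have : c ∈ W0 := subset_closure (Or.inl rfl)
      rw [hb, mem_bot] at this
      exact hc1 this
    · haveI : Fact (Nat.Prime 7) := ⟨by norm_num⟩
      have h168 : Nat.card K = 168 := by
        rw [Nat.card_congr e.toEquiv]
        have := CfsgLib.SL2.card_PSL_odd (F := ZMod 7) (by rw [ZMod.card]; decide)
        rw [ZMod.card] at this
        omega
      obtain ⟨S⟩ : Nonempty (Sylow 7 K) := inferInstance
      have hS : Nat.card (S : Subgroup K) = 7 := by
        rw [Sylow.card_eq_multiplicity, h168, show (168 : ℕ) = 24 * 7 from rfl,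
          Nat.factorization_mul (by norm_num) (by norm_num), Finsupp.add_apply,
          Nat.Prime.factorization_self (by norm_num),
          Nat.factorization_eq_zero_of_not_dvd (by norm_num), zero_add, pow_one]
      have hn3 : ¬ 3 ∣ Nat.card (Sylow 7 K) := by
        have hd := S.card_dvd_index
        have hi := (S : Subgroup K).card_mul_index
        rw [hS, h168] at hi
        rw [show (S : Subgroup K).index = 24 by omega] at hd
        have hm : Nat.card (Sylow 7 K) % 7 = 1 := card_sylow_modEq_one 7 K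
        have := Nat.le_of_dvd (by norm_num) hd
        intro h3
        interval_cases Nat.card (Sylow 7 K) <;> omega
      obtain ⟨R, hR⟩ := (IsPGroup.of_card (n := 1)
        (show Nat.card (zpowers rK) = 3 ^ 1 by rw [hXcard, pow_one])).nonempty_fixed_point_of_prime_not_dvd_card
          (Sylow 7 K) hn3
      have hRc : Nat.card (R : Subgroup K) = 7 := by
        rw [Sylow.card_eq_multiplicity, ← Sylow.card_eq_multiplicity S, hS]
      have hb := hkill R (by rw [hRc]; norm_num) fun q hq => by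
        have h := hR ⟨rK, mem_zpowers rK⟩
        have h' := smul_mem_pointwise_smul _ (MulAut.conj rK) _ hq
        rw [← Sylow.coe_subgroup_smul] at h'
        have h2 : (rK • R : Sylow 7 K) = R := h
        rw [h2] at h'
        exact h'
      rw [hb, card_bot] at hRc
      norm_num at hRc
  have h6 : Nat.card K ≤ 6 := by
    rcases Cfsg.Agent.S3331.result (zpowers rK) hXcard hXC with
      ⟨N, hn, -, hc, hq⟩ | ⟨N, hn, -, hsq, he⟩ | he
    · have hNb := hbot N hn hc
      subst hNb
      rcases hq with h | ⟨⟨e⟩⟩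
      · rw [← Nat.card_congr (QuotientGroup.quotientBot (G := K)).toEquiv, h]; norm_num
      · rw [← Nat.card_congr (QuotientGroup.quotientBot (G := K)).toEquiv,
          Nat.card_congr e.toEquiv, Nat.card_perm, Nat.card_eq_fintype_card, Fintype.card_fin]
        decide
    · have h2 : IsPGroup 2 N := fun z => ⟨1, Subtype.ext (by simpa using hsq z z.2)⟩
      obtain ⟨n, hn'⟩ := h2.exists_card_eq
      have hNb := hbot N hn (by rw [hn']; exact Nat.Coprime.pow_left n (by norm_num))
      subst hNb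
      exact (hiso (Or.inl ⟨(QuotientGroup.quotientBot (G := K)).symm.trans he.some⟩)).elim
    · exact (hiso (Or.inr he)).elim
  -- the subgroup generated by `r` is normal
  obtain ⟨S, hS⟩ := (IsPGroup.of_card (n := 1)
    (show Nat.card (zpowers rK) = 3 ^ 1 by rw [hXcard, pow_one])).exists_le_sylow
  have hScard : Nat.card (S : Subgroup K) = 3 := by
    have h3 : 3 ∣ Nat.card (S : Subgroup K) := by
      have := Subgroup.card_dvd_of_le hS
      rwa [hXcard] at this
    obtain ⟨n, hn⟩ := S.2.exists_card_eq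
    have hle := (Nat.le_of_dvd Nat.card_pos (Subgroup.card_subgroup_dvd_card (S : Subgroup K))).trans h6
    rw [hn] at hle h3 ⊢
    rcases n with _ | _ | n
    · norm_num at h3
    · norm_num
    · exfalso
      have := Nat.pow_le_pow_right (show 1 ≤ 3 by norm_num) (show 2 ≤ n + 1 + 1 by omega)
      omega
  have hSu : Nat.card (Sylow 3 K) = 1 := by
    have hd := S.card_dvd_index
    have hi := (S : Subgroup K).card_mul_index
    rw [hScard] at hi
    have hm : Nat.card (Sylow 3 K) % 3 = 1 := card_sylow_modEq_one 3 K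
    have hpos : 0 < (S : Subgroup K).index := Nat.pos_of_ne_zero index_ne_zero_of_finite
    have := Nat.le_of_dvd hpos hd
    omega
  haveI : Subsingleton (Sylow 3 K) := (Nat.card_eq_one_iff_unique.mp hSu).1
  set gd : D := ⟨g, hg⟩
  set q : K := ⟨gd * r' * gd⁻¹, hKn.conj_mem r' hrK gd⟩
  have hq : q ∈ zpowers rK := by
    have hq3 : q ^ 3 = 1 := Subtype.ext (by
      rw [SubgroupClass.coe_pow, Subgroup.coe_one]
      change (gd * r' * gd⁻¹) ^ 3 = 1
      rw [conj_pow, hr3, mul_one, mul_inv_cancel])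
    obtain ⟨S', hS'⟩ := (show IsPGroup 3 (zpowers q) from by
      rintro ⟨z, i, rfl⟩
      refine ⟨1, Subtype.ext ?_⟩
      change (q ^ i) ^ 3 ^ 1 = 1
      rw [← zpow_natCast, ← zpow_mul, mul_comm, zpow_mul, zpow_natCast, pow_one, hq3,
        one_zpow]).exists_le_sylow
    rw [Subsingleton.elim S' S] at hS'
    rw [Subgroup.eq_of_le_of_card_ge hS (by rw [hScard, hXcard])]
    exact hS' (mem_zpowers q)
  obtain ⟨i, hi⟩ := hq
  refine C.mem_N_of_conj_J fun u => ?_
  obtain ⟨i', j', l, rfl⟩ := hsp u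
  have hr'' : g * C.T r * g⁻¹ = C.T r ^ i := by
    have := congrArg (fun z : K => ((z : D) : G)) hi
    simp only [SubgroupClass.coe_zpow, q, rK, r', gd, Subgroup.coe_mul, Subgroup.coe_inv, emb] at this
    exact this.symm
  have he : g * C.T (comb v w i' j' + l.val • r) * g⁻¹ = C.T (comb v w i' j') * (C.T r ^ i) ^ l.val := by
    rw [C.T_add, C.T_nsmul, ← hr'', conj_pow,
      show g * (C.T (comb v w i' j') * C.T r ^ l.val) * g⁻¹ =
        g * C.T (comb v w i' j') * g⁻¹ * (g * C.T r ^ l.val * g⁻¹) by group,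
      (C.commute_comb hgv hgw i' j').eq, mul_inv_cancel_right]
  rw [he]
  exact C.J_le_N (mul_mem (C.T_mem_J _) (pow_mem (zpow_mem (C.T_mem_J r) _) _))

/-- The centraliser of a plane lies in the monomial group. -/
theorem cent_plane [Finite G] {v w : Vec}
    (hind : ∀ i j : Fin 3, i.val • v + j.val • w = 0 → i = 0 ∧ j = 0) {g : G}
    (hv : Commute g (C.T v)) (hw : Commute g (C.T w)) : g ∈ C.N := by
  by_cases hxt : ∀ i j : Fin 3, xT k (comb v w i j) = true → i = 0 ∧ j = 0
  · have hv0 : v ≠ 0 := fun e => absurd (hind 1 0 (by simp [e])).1 (by decide)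
    have hx : ¬ XType k v := fun h =>
      absurd (hxt 1 0 (by rw [xT_iff]; simpa [comb] using h)).1 (by decide)
    rcases plane_table k v w hv0 hind hxt with hfree | ⟨a, ha, -, ha2, hav, haw, hst, r, hr, har, hsp⟩
    · refine C.J_le_N (C.le_J_of_free hv0 hx (centralizer ({C.T v, C.T w} : Set G)) ?_ ?_ ?_ ?_)
      · intro j hj
        rw [mem_centralizer_iff]
        rintro _ (rfl | rfl) <;> exact (C.J_comm (C.T_mem_J _) hj).eq
      · exact fun d hd => (mem_centralizer_iff.mp hd _ (Or.inl rfl)).symm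
      · intro m hm hmD
        have h : ∀ u, C.T u ∈ ({C.T v, C.T w} : Set G) → lact m.w u = u := fun u hu => by
          have := C.X_conj_T hm u
          rw [(mem_centralizer_iff.mp hmD _ hu).symm, mul_inv_cancel_right] at this
          exact (C.T_inj this).symm
        exact hfree m.w hm (h v (Or.inl rfl)) (h w (Or.inr rfl))
      · rw [mem_centralizer_iff]
        rintro _ (rfl | rfl)
        exacts [hv.symm.eq, hw.symm.eq]
    · exact C.cent_plane_refl ha ha2 hv0 hx hav haw hr har hsp hst g hv hw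
  · push Not at hxt
    obtain ⟨i, j, hij, -⟩ := hxt
    exact C.centLe_xType ((xT_iff k _).mp hij) g (C.commute_comb hv hw i j)

/-- The normaliser of a plane lies in the monomial group. -/
theorem norm_plane [Finite G] {v w : Vec}
    (hind : ∀ i j : Fin 3, i.val • v + j.val • w = 0 → i = 0 ∧ j = 0) {g : G}
    (hv : ∃ i j : Fin 3, g * C.T v * g⁻¹ = C.T (i.val • v + j.val • w))
    (hw : ∃ i j : Fin 3, g * C.T w * g⁻¹ = C.T (i.val • v + j.val • w)) : g ∈ C.N := by
  have hc : ∀ u, g⁻¹ * C.T u * g⁻¹⁻¹ ∈ C.N := by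
    intro u
    have key : ∀ a, (∃ i j : Fin 3, g * C.T a * g⁻¹ = C.T (i.val • v + j.val • w)) →
        Commute (g⁻¹ * C.T u * g⁻¹⁻¹) (C.T a) := by
      rintro a ⟨i, j, e⟩
      have h := (Commute.conj_iff g⁻¹).mpr (C.T_comm u (i.val • v + j.val • w))
      rwa [← e, show g⁻¹ * (g * C.T a * g⁻¹) * g⁻¹⁻¹ = C.T a by group] at h
    exact C.cent_plane hind (key v hv) (key w hw)
  simpa using inv_mem (C.mem_N_of_conj_J hc)

end Ctx

end CfsgLib.SymNine40
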