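import Cfsg.Agent.SymNine40.PiProd
import Cfsg.Agent.SymNine40.Plane

/-!
Transpositions between different pairs of blocks commute.

* `Split.cross_commute`: from a conjugation of the central sign change onto the exchange of two
  blocks, the two cross transpositions `(23)` and `(56)` commute.
-/

set_option autoImplicit false
set_option maxRecDepth 20000

open Equiv Subgroup

namespace CfsgLib.SymNine40

open Mw

/-- The product of the two three-cycles on six points. -/
def cAB : Perm (Fin 6) := cA * cB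

/-- The three cross transpositions between the first two blocks. -/
def crossList : List (Perm (Fin 6)) := [swap 0 3, swap 1 4, swap 2 5]

theorem sigma_table : ∀ p : Perm (Fin 6), p * piSix = piSix * p → ∀ a : Fin 3 × Bool,
    p * p * p = 1 → rmul (rmul a a) a = (0, false) →
    a.2 = false ∧ ∃ c : Perm (Fin 6), c * piSix = piSix * c ∧ ∃ i : Fin 3,
      c * p * c⁻¹ = cAB ^ i.val := by decide +kernel

theorem norm_table : ∀ i j : Fin 3, xT 3 (i, i, j) = true →
    ∃ n : Fin 4, lact (![0, 18, 24, 42] n) (i, i, j) = xv := by decide +kernel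

theorem norm_list : ∀ n : Fin 4, lmul (![0, 18, 24, 42] n) 2 = lmul 2 (![0, 18, 24, 42] n) := by
  decide +kernel

theorem tripleP_table : ∀ p : Perm (Fin 6), p * piSix = piSix * p → p * p = 1 →
    p * (cAB * p * cAB⁻¹) = cAB * p * cAB⁻¹ * p →
    p * (cAB * p * cAB⁻¹) * (cAB * (cAB * p * cAB⁻¹) * cAB⁻¹) = piSix →
    p = piSix ∨ (p ∈ crossList ∧ cAB * p * cAB⁻¹ ∈ crossList ∧
      cAB * (cAB * p * cAB⁻¹) * cAB⁻¹ ∈ crossList ∧ p ≠ cAB * p * cAB⁻¹ ∧
      cAB * (cAB * p * cAB⁻¹) * cAB⁻¹ ≠ cAB * p * cAB⁻¹ ∧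
      cAB * (cAB * p * cAB⁻¹) * cAB⁻¹ ≠ p) := by decide +kernel

theorem tripleR_table : ∀ a : Fin 3 × Bool,
    let a1 := rmul (rmul (1, false) a) (rinv (1, false))
    let a2 := rmul (rmul (1, false) a1) (rinv (1, false))
    rmul a a = (0, false) → rmul a a1 = rmul a1 a → rmul (rmul a a1) a2 = (0, false) →
      a = (0, false) := by decide +kernel

theorem centralE_table : ∀ p : Perm (Fin 6), p * piSix = piSix * p → p * p = 1 →
    (p * swap 0 3 = swap 0 3 * p ∧ p * swap 1 4 = swap 1 4 * p ∧ p * swap 2 5 = swap 2 5 * p) →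
    p = 1 ∨ p = piSix ∨ p ∈ crossList ∨
      ∃ c : Perm (Fin 6), c * (swap 1 2 * swap 4 5) * c⁻¹ = p := by decide +kernel

theorem cross_conj : ∀ p : Fin 3, ∃ c : Perm (Fin 6),
    c * swap 1 2 * c⁻¹ = (![swap 0 3, swap 1 4, swap 2 5] : Fin 3 → Perm (Fin 6)) p := by
  decide +kernel

theorem R_conj : ∀ i : Fin 3, ∃ j : Fin 3,
    rmul (rmul (j, false) (0, true)) (rinv (j, false)) = (i, true) := by decide +kernel

/-- The final commutation in coordinates. -/
def frameU (e : Bool) (i : Fin 3) : Mw := (if e then lin 2 else 1) * Rm (i, true)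

theorem frame_table : ∀ v : Vec, ∀ a : Fin 6, ∀ e : Bool, ∀ i : Fin 3,
    let z : Mw := ⟨v, a.castLE (by norm_num)⟩
    let u := frameU e i
    let u1 := z * u * z⁻¹
    let b := z * z * (tr xv * u * (tr xv)⁻¹) * (z * z)⁻¹
    z * z * z = 1 → lin 2 * z * (lin 2)⁻¹ = z⁻¹ → u * u1 = u1 * u → u1 ≠ u →
      u * b = b * u := by decide +kernel

theorem frameU_ok : ∀ e i, Ok 3 (frameU e i).w := by decide +kernel

namespace Ctx.Split

variable {G : Type*} [Group G] {C : Ctx G 3} (S : C.Split)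

/-- The first cross transposition. -/
noncomputable def a03 : G := S.κ (swap 0 3)

theorem ok3 : ∀ a : Fin 48, Ok 3 a := by decide +kernel

theorem X_mul3 (a b : Mw) : C.X (a * b) = C.X a * C.X b := C.X_mul (ok3 _) (ok3 _)

theorem T_xv : C.T xv = S.q cAB (1, false) := by
  rw [q, cAB, S.kappa_std (m := tr (1, 1, 0)) (by simp [stdList]), ← X_mul3]
  exact congrArg C.X (by decide +kernel)

/-- The transpositions `(23)` and `(56)` commute. -/
theorem cross_commute [Finite G] (hP : C.CentPi S)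
    (hg : ∃ g : G, g * C.X (lin 42) * g⁻¹ = C.X piM)
    (h1 : ∀ g : G, g * C.X (lin 6) * g⁻¹ ≠ C.X piM)
    (h2 : ∀ g : G, g * C.X (lin 6) * g⁻¹ ≠ C.X (lin 18)) :
    Commute (S.κ (swap 2 3)) (C.X (lin 3) * S.κ (swap 2 3) * (C.X (lin 3))⁻¹) := by
  classical
  obtain ⟨g, hg⟩ := hg
  have hXc : ∀ {a b : Mw}, a * b = b * a → Commute (C.X a) (C.X b) := fun h =>
    (C.X_commute (ok3 _) (ok3 _)).mpr h
  -- move the permutation of blocks onto `x`
  have hσπ : Commute (g * C.X (lin 3) * g⁻¹) (C.X piM) :=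
    hg ▸ (Commute.conj_iff g).mpr (hXc (by decide +kernel))
  obtain ⟨p, a, hp, he⟩ := S.centPi_iff hP hσπ
  have h3 : S.q p a * S.q p a * S.q p a = 1 := by
    rw [← he, show g * C.X (lin 3) * g⁻¹ * (g * C.X (lin 3) * g⁻¹) * (g * C.X (lin 3) * g⁻¹) =
      g * (C.X (lin 3) * C.X (lin 3) * C.X (lin 3)) * g⁻¹ by group, ← X_mul3, ← X_mul3,
      show lin 3 * lin 3 * lin 3 = 1 by decide +kernel, C.X_one, mul_one, mul_inv_cancel]
  rw [S.q_mul, S.q_mul] at h3
  obtain ⟨hp3, ha3⟩ := S.q_eq_one h3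
  obtain ⟨haf, c, hc, i, hci⟩ := sigma_table p hp a hp3 ha3
  have hv : S.κ c * g * C.X (lin 3) * (S.κ c * g)⁻¹ = C.T (i, i, a.1) := by
    rw [show S.κ c * g * C.X (lin 3) * (S.κ c * g)⁻¹ =
      S.κ c * (g * C.X (lin 3) * g⁻¹) * (S.κ c)⁻¹ by group, he, q,
      show S.κ c * (S.κ p * C.X (Rm a)) * (S.κ c)⁻¹ =
        S.κ c * S.κ p * (C.X (Rm a) * (S.κ c)⁻¹) by group,
      ((S.comm_R c a).inv_left).symm.eq, ← mul_assoc, ← map_inv, ← map_mul, ← map_mul, hci, map_pow,
      cAB, S.kappa_std (m := tr (1, 1, 0)) (by simp [stdList])]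
    change C.T (1, 1, 0) ^ i.val * C.X (Rm a) = _
    rw [← C.T_nsmul, T, ← X_mul3]
    exact congrArg C.X ((by decide +kernel : ∀ i : Fin 3, ∀ a : Fin 3 × Bool, a.2 = false →
      tr (i.val • ((1, 1, 0) : Vec)) * Rm a = tr (i, i, a.1)) i a haf)
  have hxt := C.xType_of_conj (m := lin 3) (by decide +kernel) (by decide +kernel) (by decide +kernel) hv
  obtain ⟨n, hn⟩ := norm_table i a.1 ((xT_iff 3 _).mpr hxt)
  set bn := (![0, 18, 24, 42] : Fin 4 → Fin 48) n
  set G' := C.X (lin bn) * (S.κ c * g) with hG'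
  let φ := MulAut.conj G'
  have hφ : ∀ z, φ z = G' * z * G'⁻¹ := fun z => rfl
  have hφσ : φ (C.X (lin 3)) = C.T xv := by
    rw [hφ, hG', show C.X (lin bn) * (S.κ c * g) * C.X (lin 3) * (C.X (lin bn) * (S.κ c * g))⁻¹ =
      C.X (lin bn) * (S.κ c * g * C.X (lin 3) * (S.κ c * g)⁻¹) * (C.X (lin bn))⁻¹ by group, hv,
      C.X_conj_T (ok3 _)]
    exact congrArg C.T hn
  have hcpi : Commute (S.κ c) (C.X piM) := by
    rw [← S.kappa_std (p := piSix) (m := piM) (by simp [stdList, piM])]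
    exact (show Commute c piSix from hc).map S.κ
  have hφm : φ (C.X (lin 42)) = C.X piM := by
    have h1 : Commute (C.X (lin bn)) (C.X piM) := hXc (by
      change (⟨0 + lact bn 0, lmul bn 2⟩ : Mw) = ⟨0 + lact 2 0, lmul 2 bn⟩
      rw [(by decide +kernel : ∀ b, lact b 0 = 0) bn, (by decide +kernel : ∀ b, lact b 0 = 0) 2,
        norm_list n])
    rw [hφ, hG', show C.X (lin bn) * (S.κ c * g) * C.X (lin 42) * (C.X (lin bn) * (S.κ c * g))⁻¹ =
      C.X (lin bn) * (S.κ c * (g * C.X (lin 42) * g⁻¹) * (S.κ c)⁻¹) * (C.X (lin bn))⁻¹ by group, hg,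
      hcpi.eq, mul_inv_cancel_right, h1.eq, mul_inv_cancel_right]
  have hcent : ∀ z, Commute z (C.X (lin 42)) →
      ∃ p a, p * piSix = piSix * p ∧ φ z = S.q p a := fun z hz =>
    S.centPi_iff hP (by have := hz.map φ; rwa [hφm] at this)
  -- the images of the three sign changes
  have hrot : ∀ (z : G) (p : Perm (Fin 6)) (a : Fin 3 × Bool), φ z = S.q p a →
      φ (C.X (lin 3) * z * (C.X (lin 3))⁻¹) =
        S.q (cAB * p * cAB⁻¹) (rmul (rmul (1, false) a) (rinv (1, false))) := by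
    intro z p a e
    rw [map_mul, map_mul, map_inv, hφσ, e, S.T_xv, S.q_conj]
  obtain ⟨w, b, hw, hwe⟩ := hcent (C.X (lin 6)) (hXc (by decide +kernel))
  have ht2 : C.X (lin 3) * C.X (lin 6) * (C.X (lin 3))⁻¹ = C.X (lin 12) := by
    rw [C.X_conj (ok3 _) (ok3 _)]; exact congrArg C.X (by decide +kernel)
  have ht3 : C.X (lin 3) * C.X (lin 12) * (C.X (lin 3))⁻¹ = C.X (lin 24) := by
    rw [C.X_conj (ok3 _) (ok3 _)]; exact congrArg C.X (by decide +kernel)
  have hw2 := hrot _ _ _ hwe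
  rw [ht2] at hw2
  have hw3 := hrot _ _ _ hw2
  rw [ht3] at hw3
  have q1 : S.q (w * w) (rmul b b) = 1 := by
    rw [← S.q_mul, ← hwe, ← map_mul, ← X_mul3,
      show lin 6 * lin 6 = 1 by decide +kernel, C.X_one, map_one]
  obtain ⟨hww, hbb⟩ := S.q_eq_one q1
  have hc12 : Commute (φ (C.X (lin 6))) (φ (C.X (lin 12))) := (hXc (by decide +kernel)).map φ
  rw [hwe, hw2, S.q_commute] at hc12
  have hprod : φ (C.X (lin 6)) * φ (C.X (lin 12)) * φ (C.X (lin 24)) = S.q piSix (0, false) := by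
    rw [S.q_pi, ← hφm, ← map_mul, ← map_mul, ← X_mul3, ← X_mul3]
    exact congrArg (fun m => φ (C.X m)) (by decide +kernel)
  rw [hwe, hw2, hw3, S.q_mul, S.q_mul] at hprod
  obtain ⟨hpp, hbp⟩ := S.q_inj hprod
  have hb0 : b = (0, false) := tripleR_table b hbb hc12.2 hbp
  subst hb0
  rcases tripleP_table w hw hww hc12.1 hpp with rfl | ⟨m1, m2, m3, n12, n32, n31⟩
  · refine absurd ?_ (h1 G')
    rw [← hφ, hwe, S.q_pi]
  -- the image of the first cross transposition
  have h42 : C.X (lin 42) = S.κ (swap 1 2 * swap 4 5) * C.X (lin 24) := by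
    rw [S.kappa_std (m := lin 18) (by simp [stdList]), ← X_mul3]
    exact congrArg C.X (by decide +kernel)
  obtain ⟨r, d, hr, hre⟩ := hcent (S.κ (swap 0 3)) (by
    rw [h42]
    exact ((show Commute (swap (0 : Fin 6) 3) (swap 1 2 * swap 4 5) from
      (by decide +kernel : swap (0 : Fin 6) 3 * (swap 1 2 * swap 4 5) = swap 1 2 * swap 4 5 * swap 0 3)).map
        S.κ).mul_right (S.comm_t _))
  have hu2 : S.q (r * r) (rmul d d) = 1 := by
    rw [← S.q_mul, ← hre, ← map_mul, ← map_mul, show swap (0 : Fin 6) 3 * swap 0 3 = 1 from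
      Equiv.swap_mul_self 0 3, map_one, map_one]
  obtain ⟨hrr, hdd⟩ := S.q_eq_one hu2
  have hsix : ∀ p ∈ crossList, r * p = p * r := by
    have k1 : Commute (S.κ (swap 0 3)) (C.X (lin 6)) := by
      rw [← S.kappa_std (p := swap 1 2) (m := lin 6) (by simp [stdList])]
      exact (show Commute (swap (0 : Fin 6) 3) (swap 1 2) from
        (by decide +kernel : swap (0 : Fin 6) 3 * swap 1 2 = swap 1 2 * swap 0 3)).map S.κ
    have k2 : Commute (S.κ (swap 0 3)) (C.X (lin 12)) := by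
      rw [← S.kappa_std (p := swap 4 5) (m := lin 12) (by simp [stdList])]
      exact (show Commute (swap (0 : Fin 6) 3) (swap 4 5) from
        (by decide +kernel : swap (0 : Fin 6) 3 * swap 4 5 = swap 4 5 * swap 0 3)).map S.κ
    have c1 := (k1.map φ)
    have c2 := (k2.map φ)
    have c3 := ((S.comm_t (swap 0 3)).map φ)
    rw [hre, hwe, S.q_commute] at c1
    rw [hre, hw2, S.q_commute] at c2
    rw [hre, hw3, S.q_commute] at c3
    intro p hp
    simp only [crossList, List.mem_cons, List.not_mem_nil, or_false] at hp m1 m2 m3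
    have hcases : p = w ∨ p = cAB * w * cAB⁻¹ ∨ p = cAB * (cAB * w * cAB⁻¹) * cAB⁻¹ := by
      generalize cAB * (cAB * w * cAB⁻¹) * cAB⁻¹ = w3 at m3 n32 n31 ⊢
      generalize cAB * w * cAB⁻¹ = w2 at m2 n12 n32 ⊢
      rcases hp with rfl | rfl | rfl <;> rcases m1 with rfl | rfl | rfl <;>
        rcases m2 with rfl | rfl | rfl <;> rcases m3 with rfl | rfl | rfl <;>
        first
          | exact absurd rfl n12
          | exact absurd rfl n31
          | exact absurd rfl n32
          | exact Or.inl rfl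
          | exact Or.inr (Or.inl rfl)
          | exact Or.inr (Or.inr rfl)
    rcases hcases with rfl | rfl | rfl
    exacts [c1.1, c2.1, c3.1]
  have hE := centralE_table r hr hrr
    ⟨hsix _ (by simp [crossList]), hsix _ (by simp [crossList]), hsix _ (by simp [crossList])⟩
  -- classes
  obtain ⟨c0, hc0⟩ := cross_conj 0
  have ht1 : S.κ c0 * C.X (lin 6) * (S.κ c0)⁻¹ = S.κ (swap 0 3) := by
    rw [← S.kappa_std (p := swap 1 2) (m := lin 6) (by simp [stdList]), ← map_inv, ← map_mul, ← map_mul,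
      hc0]
    rfl
  have hclass : ∀ t h : G, t = h * C.X piM * h⁻¹ ∨ t = h * C.X (lin 18) * h⁻¹ →
      φ (S.κ (swap 0 3)) ≠ t := by
    intro t h ht e
    rw [hφ, ← ht1] at e
    rcases ht with rfl | rfl
    · refine h1 (h⁻¹ * G' * S.κ c0) ?_
      calc h⁻¹ * G' * S.κ c0 * C.X (lin 6) * (h⁻¹ * G' * S.κ c0)⁻¹
          = h⁻¹ * (G' * (S.κ c0 * C.X (lin 6) * (S.κ c0)⁻¹) * G'⁻¹) * h := by group
        _ = C.X piM := by rw [e]; group
    · refine h2 (h⁻¹ * G' * S.κ c0) ?_
      calc h⁻¹ * G' * S.κ c0 * C.X (lin 6) * (h⁻¹ * G' * S.κ c0)⁻¹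
          = h⁻¹ * (G' * (S.κ c0 * C.X (lin 6) * (S.κ c0)⁻¹) * G'⁻¹) * h := by group
        _ = C.X (lin 18) := by rw [e]; group
  obtain ⟨e, i', hu⟩ : ∃ e : Bool, ∃ i', φ (S.κ (swap 0 3)) = C.X (frameU e i') := by
    obtain ⟨d1, d2⟩ := d
    cases d2
    · exfalso
      have hd1 : d1 = 0 := (by decide +kernel : ∀ d : Fin 3,
        rmul (d, false) (d, false) = (0, false) → d = 0) d1 hdd
      subst hd1
      rw [S.q_kappa] at hre
      rcases hE with rfl | rfl | hm | ⟨c', hc'⟩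
      · rw [map_one, φ.map_eq_one_iff] at hre
        exact absurd (S.inj (hre.trans (map_one _).symm)) (by decide +kernel)
      · exact hclass _ 1 (Or.inl (by rw [one_mul, inv_one, mul_one, ← S.q_pi, S.q_kappa])) hre
      · have hcases : r = w ∨ r = cAB * w * cAB⁻¹ ∨ r = cAB * (cAB * w * cAB⁻¹) * cAB⁻¹ := by
          simp only [crossList, List.mem_cons, List.not_mem_nil, or_false] at hm m1 m2 m3
          generalize cAB * (cAB * w * cAB⁻¹) * cAB⁻¹ = w3 at m3 n32 n31 ⊢
          generalize cAB * w * cAB⁻¹ = w2 at m2 n12 n32 ⊢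
          rcases hm with rfl | rfl | rfl <;> rcases m1 with rfl | rfl | rfl <;>
            rcases m2 with rfl | rfl | rfl <;> rcases m3 with rfl | rfl | rfl <;>
            first
              | exact absurd rfl n12
              | exact absurd rfl n31
              | exact absurd rfl n32
              | exact Or.inl rfl
              | exact Or.inr (Or.inl rfl)
              | exact Or.inr (Or.inr rfl)
        rcases hcases with rfl | rfl | rfl
        · rw [← S.q_kappa r, ← hwe, ← S.kappa_std (p := swap 1 2) (m := lin 6) (by simp [stdList])]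
            at hre
          exact absurd (S.inj (φ.injective hre)) (by decide +kernel)
        · rw [← S.q_kappa (cAB * w * cAB⁻¹), show ((0 : Fin 3), false) =
            rmul (rmul (1, false) (0, false)) (rinv (1, false)) by decide +kernel, ← hw2,
            ← S.kappa_std (p := swap 4 5) (m := lin 12) (by simp [stdList])] at hre
          exact absurd (S.inj (φ.injective hre)) (by decide +kernel)
        · rw [← S.q_kappa (cAB * (cAB * w * cAB⁻¹) * cAB⁻¹), show ((0 : Fin 3), false) = rmul (rmul (1, false)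
              (rmul (rmul (1, false) (0, false)) (rinv (1, false)))) (rinv (1, false)) by decide +kernel,
            ← hw3] at hre
          have h := φ.injective hre
          rw [← S.q_kappa, show C.X (lin 24) = S.q 1 (0, true) from (by
            rw [S.q_R]; exact congrArg C.X (by decide +kernel))] at h
          exact absurd (S.q_inj h).2 (by decide)
      · refine hclass _ (S.κ c') (Or.inr ?_) hre
        rw [← hc', map_mul, map_mul, map_inv,
          S.kappa_std (p := swap 1 2 * swap 4 5) (m := lin 18) (by simp [stdList])]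
    · obtain ⟨j, hj⟩ := R_conj d1
      have hsplit : ∀ p, S.q p (d1, true) =
          C.X (Rm (j, false)) * (S.κ p * C.X (lin 24)) * (C.X (Rm (j, false)))⁻¹ := fun p => by
        rw [show S.κ p * C.X (lin 24) = S.q p (0, true) from (by
            rw [q]; exact congrArg (S.κ p * C.X ·) (by decide +kernel)), ← S.q_R, S.q_conj, hj,
          one_mul, inv_one, mul_one]
      rcases hE with rfl | rfl | hm | ⟨c', hc'⟩
      · refine ⟨false, d1, hre.trans ?_⟩
        rw [S.q_R, frameU, if_neg (by decide), one_mul]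
      · refine ⟨true, d1, hre.trans ?_⟩
        rw [q, S.kappa_std (m := lin 2) (by simp [stdList]), frameU, if_pos rfl, ← X_mul3]
      · exfalso
        obtain ⟨k, hk⟩ : ∃ k : Fin 3, r = (![swap 0 3, swap 1 4, swap 2 5] : Fin 3 → Perm (Fin 6)) k := by
          simp only [crossList, List.mem_cons, List.not_mem_nil, or_false] at hm
          rcases hm with rfl | rfl | rfl
          exacts [⟨0, rfl⟩, ⟨1, rfl⟩, ⟨2, rfl⟩]
        obtain ⟨c', hc'⟩ := cross_conj k
        rw [← hk] at hc'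
        refine hclass _ (C.X (Rm (j, false)) * S.κ c' * C.X (lin 1)) (Or.inr ?_) hre
        have h30 : C.X (lin 1) * C.X (lin 18) * (C.X (lin 1))⁻¹ = S.κ (swap 1 2) * C.X (lin 24) := by
          rw [S.kappa_std (m := lin 6) (by simp [stdList]), C.X_conj (ok3 _) (ok3 _), ← X_mul3]
          exact congrArg C.X (by decide +kernel)
        rw [hsplit r, ← hc', map_mul, map_mul, map_inv,
          show C.X (Rm (j, false)) * S.κ c' * C.X (lin 1) * C.X (lin 18) *
            (C.X (Rm (j, false)) * S.κ c' * C.X (lin 1))⁻¹ = C.X (Rm (j, false)) *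
            (S.κ c' * (C.X (lin 1) * C.X (lin 18) * (C.X (lin 1))⁻¹) * (S.κ c')⁻¹) *
            (C.X (Rm (j, false)))⁻¹ by group, h30,
          show S.κ c' * (S.κ (swap 1 2) * C.X (lin 24)) * (S.κ c')⁻¹ =
            S.κ c' * S.κ (swap 1 2) * (C.X (lin 24) * (S.κ c')⁻¹) by group,
          ((S.comm_t c').inv_left).symm.eq]
        group
      · exfalso
        refine hclass _ (C.X (Rm (j, false)) * S.κ c' * g⁻¹) (Or.inl ?_) hre
        rw [hsplit r, ← hc', map_mul, map_mul, map_inv,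
          show C.X (Rm (j, false)) * S.κ c' * g⁻¹ * C.X piM *
            (C.X (Rm (j, false)) * S.κ c' * g⁻¹)⁻¹ = C.X (Rm (j, false)) *
            (S.κ c' * (g⁻¹ * C.X piM * g) * (S.κ c')⁻¹) * (C.X (Rm (j, false)))⁻¹ by group,
          show g⁻¹ * C.X piM * g = C.X (lin 42) by rw [← hg]; group, h42,
          show S.κ c' * (S.κ (swap 1 2 * swap 4 5) * C.X (lin 24)) * (S.κ c')⁻¹ =
            S.κ c' * S.κ (swap 1 2 * swap 4 5) * (C.X (lin 24) * (S.κ c')⁻¹) by group,
          ((S.comm_t c').inv_left).symm.eq]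
        group
  -- conclusion
  obtain ⟨m0, hm0, hz⟩ := C.cent_x (g := φ (C.T xv))
    (by have := (hXc (a := tr xv) (b := lin 3) (by decide +kernel)).map φ; rwa [hφσ] at this)
  have hz3 : m0 * m0 * m0 = 1 := C.X_inj (ok3 _) (ok3 _) (by
    rw [X_mul3, X_mul3, hz, ← map_mul, ← map_mul, C.T_cube, map_one, C.X_one])
  have hzinv : lin 2 * m0 * (lin 2)⁻¹ = m0⁻¹ := C.X_inj (ok3 _) (ok3 _) (by
    rw [← C.X_conj (ok3 _) (ok3 _), C.X_inv (ok3 _), hz, show C.X (lin 2) = C.X piM from rfl, ← hφm, ← map_inv φ, ← map_mul, ← map_mul,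
      ← map_inv φ]
    refine congrArg φ ?_
    rw [C.X_conj_T (ok3 _), ← C.T_neg]
    exact congrArg C.T (by decide +kernel))
  have hx14 : C.T xv * S.κ (swap 0 3) * (C.T xv)⁻¹ = S.κ (swap 1 4) := by
    rw [S.T_xv, ← S.q_kappa (swap 0 3), S.q_conj, ← S.q_kappa (swap 1 4)]
    exact congrArg₂ S.q (by decide +kernel) (by decide +kernel)
  have hu1 : φ (S.κ (swap 1 4)) = C.X (m0 * frameU e i' * m0⁻¹) := by
    rw [← hx14, map_mul, map_mul, map_inv, hu, ← hz, C.X_conj (ok3 _) (ok3 _)]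
  have hcomm : m0 * frameU e i' * m0⁻¹ ≠ frameU e i' := by
    intro heq
    rw [heq, ← hu] at hu1
    exact absurd (S.inj (φ.injective hu1)) (by decide +kernel)
  have hcc : frameU e i' * (m0 * frameU e i' * m0⁻¹) = m0 * frameU e i' * m0⁻¹ * frameU e i' := by
    refine (C.X_commute (ok3 _) (ok3 _)).mp ?_
    rw [← hu, ← hu1]
    exact (((show Commute (swap (0 : Fin 6) 3) (swap 1 4) from
      (by decide +kernel : swap (0 : Fin 6) 3 * swap 1 4 = swap 1 4 * swap 0 3)).map S.κ).map φ)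
  obtain ⟨v0, a0⟩ := m0
  obtain ⟨a6, rfl⟩ := (by decide +kernel : ∀ a : Fin 48, Ok 0 a →
    ∃ a6 : Fin 6, a = a6.castLE (by norm_num)) a0 hm0
  have hfin := frame_table v0 a6 e i' hz3 hzinv hcc hcomm
  -- back in the group
  set A := S.κ (swap 0 3)
  have hb : Commute A (C.T xv * C.T xv * (C.X (lin 3) * A * (C.X (lin 3))⁻¹) * (C.T xv * C.T xv)⁻¹) := by
    have key : φ (C.T xv * C.T xv * (C.X (lin 3) * A * (C.X (lin 3))⁻¹) * (C.T xv * C.T xv)⁻¹) =
        C.X ((⟨v0, a6.castLE (by norm_num)⟩ : Mw) * ⟨v0, a6.castLE (by norm_num)⟩ *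
          (tr xv * frameU e i' * (tr xv)⁻¹) *
          ((⟨v0, a6.castLE (by norm_num)⟩ : Mw) * ⟨v0, a6.castLE (by norm_num)⟩)⁻¹) := by
      rw [map_mul, map_mul, map_mul, map_inv, map_mul, map_mul, map_mul, map_inv, hφσ, hu, ← hz]
      simp only [T, X_mul3, C.X_inv (ok3 _)]
    have h : Commute (φ A) (φ (C.T xv * C.T xv * (C.X (lin 3) * A * (C.X (lin 3))⁻¹) *
        (C.T xv * C.T xv)⁻¹)) := by
      rw [key, hu]
      exact hXc hfin
    exact Commute.of_map φ.injective h
  have hs : C.T (2, 0, 1) * A * (C.T (2, 0, 1))⁻¹ = S.κ (swap 2 3) := by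
    change C.T (2, 0, 1) * S.κ (swap 0 3) * (C.T (2, 0, 1))⁻¹ = _
    rw [show C.T (2, 0, 1) = S.q (cA * cA) (1, false) from (by
      rw [q, map_mul, S.kappa_std (p := cA) (m := tr e1) (by simp [stdList]), ← X_mul3, ← X_mul3]
      exact congrArg C.X (by decide +kernel)), ← S.q_kappa, S.q_conj, ← S.q_kappa]
    exact congrArg₂ S.q (by decide +kernel) (by decide +kernel)
  have h := (Commute.conj_iff (C.T (2, 0, 1))).mpr hb
  rw [hs, show C.T (2, 0, 1) *
      (C.T xv * C.T xv * (C.X (lin 3) * A * (C.X (lin 3))⁻¹) * (C.T xv * C.T xv)⁻¹) *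
      (C.T (2, 0, 1))⁻¹ =
      (C.T (2, 0, 1) * C.T xv * C.T xv * C.X (lin 3)) * A *
        (C.T (2, 0, 1) * C.T xv * C.T xv * C.X (lin 3))⁻¹ by group,
    show C.T (2, 0, 1) * C.T xv * C.T xv * C.X (lin 3) = C.X (lin 3) * C.T (2, 0, 1) from (by
      simp only [T, ← X_mul3]
      exact congrArg C.X (by decide +kernel)),
    show C.X (lin 3) * C.T (2, 0, 1) * A * (C.X (lin 3) * C.T (2, 0, 1))⁻¹ =
      C.X (lin 3) * (C.T (2, 0, 1) * A * (C.T (2, 0, 1))⁻¹) * (C.X (lin 3))⁻¹ by group, hs] at h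
  exact h

end Ctx.Split

end CfsgLib.SymNine40
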