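import Cfsg.Agent.SymNine40.CentPi

/-!
Fusion of the involutions of the frame.

* `Ctx.Split.t1_not_conj_pi`, `Ctx.Split.t1_not_conj_n12`: the class of the sign changes.
* `Ctx.Split.exists_conj_negOne`: the central sign change is conjugate to the exchange.
-/

set_option autoImplicit false
set_option maxRecDepth 20000
set_option synthInstance.maxHeartbeats 400000

open Equiv Subgroup

namespace CfsgLib.SymNine40.PiCent

open Mw

variable {G : Type*} [Group G] {C : Ctx G 3} (S : C.Split)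

/-- An element of order three commuting with the exchange is conjugate to a fixed translation. -/
theorem three_to_axis [Finite G] {x : G} (hx : x ∈ piCent C) (h3 : x * x * x = 1) :
    ∃ c ∈ piCent C, ∃ a d, c * x * c⁻¹ = C.T (a, a, d) := by
  haveI := Fact.mk Nat.prime_three
  have hp : IsPGroup 3 (zpowers x) := by
    rintro ⟨y, k, rfl⟩
    refine ⟨1, Subtype.ext ?_⟩
    change (x ^ k) ^ (3 ^ 1) = 1
    rw [pow_one, ← zpow_natCast, ← zpow_mul, mul_comm, zpow_mul, zpow_natCast, pow_succ, pow_two,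
      h3, one_zpow]
  obtain ⟨c, hc, h⟩ := conj_axis (zpowers_le.mpr hx) hp
  exact ⟨c, hc, h x (mem_zpowers x)⟩

/-- A translation moved into the centraliser of the exchange. -/
theorem move_to_axis [Finite G] {g : G} {b : Fin 48} (e : g * C.X (lin b) * g⁻¹ = C.X piM) {v : Vec}
    (hv : tr v * lin b = lin b * tr v) :
    ∃ g', g' * C.X (lin b) * g'⁻¹ = C.X piM ∧ ∃ a d, g' * C.T v * g'⁻¹ = C.T (a, a, d) := by
  have hx : g * C.T v * g⁻¹ ∈ piCent C := by
    rw [mem_piCent, ← e, Commute.conj_iff]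
    exact (C.X_commute (ok_one 3) (ok3 _)).mpr hv
  obtain ⟨c, hc, a, d, h⟩ := three_to_axis hx (by
    rw [show g * C.T v * g⁻¹ * (g * C.T v * g⁻¹) * (g * C.T v * g⁻¹) =
      g * (C.T v * C.T v * C.T v) * g⁻¹ by group, C.T_cube, mul_one, mul_inv_cancel])
  refine ⟨c * g, ?_, a, d, by rw [← h]; group⟩
  rw [show c * g * C.X (lin b) * (c * g)⁻¹ = c * (g * C.X (lin b) * g⁻¹) * c⁻¹ by group, e,
    (mem_piCent.mp hc).eq, mul_inv_cancel_right]

theorem mono_two : ∀ a : Fin 48, ∀ b ∈ ([18, 26] : List (Fin 48)),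
    lmul (lmul a b) (linv a) ≠ 2 := by decide +kernel

theorem not_mono_pi {g : G} (hg : g ∈ C.N) {b : Fin 48} (hb : b ∈ ([18, 26] : List (Fin 48))) :
    g * C.X (lin b) * g⁻¹ ≠ C.X piM := by
  obtain ⟨m, hm, rfl⟩ := C.mem_N.mp hg
  rw [C.X_conj hm (ok3 _)]
  exact fun e => mono_two m.w b hb (congrArg Mw.w (C.X_inj (ok3 _) (ok3 _) e))

include S in
theorem double_not_conj_pi [Finite G] (g : G) : g * C.X (lin 18) * g⁻¹ ≠ C.X piM := by
  intro e
  obtain ⟨h, he, a, d, hT⟩ := move_to_axis e (v := e3) (by decide +kernel)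
  by_cases ha : a = 0
  swap
  · obtain ⟨hd0, hwt⟩ := (by decide +kernel : ∀ a d : Fin 3, a ≠ 0 →
      (a, a, d) ≠ (0 : Vec) ∧ ¬ Wt1 (a, a, d)) a d ha
    have e' : h⁻¹ * C.T (a, a, d) * h⁻¹⁻¹ = C.T e3 := by rw [← hT]; group
    have hN := inv_mem (C.mem_N_of_conj_T (allLe3 C _ hd0 fun _ => hwt) e')
    rw [inv_inv] at hN
    exact not_mono_pi hN (by decide) he
  · subst ha
    have hd : d = 1 ∨ d = 2 := by
      rcases (by decide : ∀ d : Fin 3, d = 0 ∨ d = 1 ∨ d = 2) d with rfl | hd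
      · exfalso
        rw [show ((0, 0, 0) : Vec) = 0 from rfl, C.T_zero, conj_eq_one_iff] at hT
        exact (by decide : e3 ≠ (0 : Vec)) (C.T_inj (hT.trans C.T_zero.symm))
      · exact hd
    obtain ⟨k, hk, hk'⟩ : ∃ k : G, Commute k (C.T e3) ∧ k * C.X (lin 18) * k⁻¹ = C.X piM := by
      rcases hd with rfl | rfl
      · exact ⟨h, mul_inv_eq_iff_eq_mul.mp hT, he⟩
      · refine ⟨sgn C * h, mul_inv_eq_iff_eq_mul.mp ?_, ?_⟩
        · rw [show sgn C * h * C.T e3 * (sgn C * h)⁻¹ =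
            sgn C * (h * C.T e3 * h⁻¹) * (sgn C)⁻¹ by group, hT, C.X_conj_T (ok3 _)]
          exact congrArg C.T (by decide +kernel)
        · rw [show sgn C * h * C.X (lin 18) * (sgn C * h)⁻¹ =
            sgn C * (h * C.X (lin 18) * h⁻¹) * (sgn C)⁻¹ by group, he, C.X_conj (ok3 _) (ok3 _)]
          exact congrArg C.X (by decide +kernel)
    obtain ⟨i, p, rfl⟩ := S.decomp k hk
    rw [← kappa_double S, ← kappa_pi S] at hk'
    have hc : Commute (C.T (unit 2 i)) (S.κ (p * (swap 1 2 * swap 4 5) * p⁻¹)) := by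
      rw [unit2_pow]; exact (e3_comm_kappa S _).pow_left _
    have h2 : p * (swap 1 2 * swap 4 5) * p⁻¹ = piSix := S.inj (by
      refine Eq.trans ?_ hk'
      calc S.κ (p * (swap 1 2 * swap 4 5) * p⁻¹)
          = C.T (unit 2 i) * S.κ (p * (swap 1 2 * swap 4 5) * p⁻¹) * (C.T (unit 2 i))⁻¹ := by
            rw [hc.eq, mul_inv_cancel_right]
        _ = _ := by rw [map_mul S.κ (p * _), map_mul S.κ p, map_inv]; group)
    have h3 := congrArg Perm.sign h2
    simp [piSix] at h3

theorem pi_sgn_not_conj_pi [Finite G] (g : G) : g * C.X (lin 26) * g⁻¹ ≠ C.X piM := by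
  intro e
  obtain ⟨h, he, a, d, hT⟩ := move_to_axis e (v := (1, 1, 0)) (by decide +kernel)
  exact not_mono_pi (C.mem_N_of_conj_T (allLe3 C _ (by decide) fun _ => by decide) hT) (by decide) he

/-- The two-group at the exchange. -/
def dSix : Subgroup (Perm (Fin 6)) :=
  centralizer ({piSix} : Set (Perm (Fin 6))) ⊓ centralizer ({swap 0 3} : Set (Perm (Fin 6)))

theorem mem_dSix {p : Perm (Fin 6)} :
    p ∈ dSix ↔ p * piSix = piSix * p ∧ p * swap 0 3 = swap 0 3 * p := by
  simp only [dSix, mem_inf, mem_centralizer_singleton_iff]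

theorem dSix_table : ∀ p : Perm (Fin 6), p * piSix = piSix * p → p * swap 0 3 = swap 0 3 * p →
    p ^ 4 = 1 := by decide +kernel

theorem dSix_center : ∀ p : Perm (Fin 6), p * piSix = piSix * p → p * swap 0 3 = swap 0 3 * p →
    p * (swap 1 2 * swap 4 5) = swap 1 2 * swap 4 5 * p → p * swap 1 4 = swap 1 4 * p →
    p = 1 ∨ p = swap 0 3 ∨ p = swap 1 4 * swap 2 5 ∨ p = piSix := by decide +kernel

theorem dSix_test : ∀ p : Perm (Fin 6), p * piSix = piSix * p →
    p * (swap 1 2 * swap 4 5) * p⁻¹ * swap 0 3 = swap 0 3 * (p * (swap 1 2 * swap 4 5) * p⁻¹) →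
    p * swap 0 3 = swap 0 3 * p := by decide +kernel

theorem dSix_mem : ∀ p ∈ ([piSix, swap 0 3, swap 1 2 * swap 4 5, swap 1 4] :
    List (Perm (Fin 6))), p * piSix = piSix * p ∧ p * swap 0 3 = swap 0 3 * p := by decide +kernel

end CfsgLib.SymNine40.PiCent

namespace CfsgLib.SymNine40.Ctx.Split

open Mw PiCent

variable {G : Type*} [Group G] {C : Ctx G 3} (S : C.Split)

include S in
/-- The sign changes are not conjugate to the exchange. -/
theorem t1_not_conj_pi [Finite G] (g : G) : g * C.X (lin 6) * g⁻¹ ≠ C.X piM := by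
  intro e
  obtain ⟨b, hb⟩ := (by decide +kernel : ∃ b : Fin 48, lin b * lin 24 * (lin b)⁻¹ = lin 6)
  rw [← hb, ← C.X_conj (ok3 _) (ok3 _)] at e
  exact not_conj S (g * C.X (lin b)) (b := 2) (by decide) (by rw [show lin 2 = piM from rfl, ← e]; group)

include S in
/-- The sign changes are not conjugate to their products. -/
theorem t1_not_conj_n12 [Finite G] (g : G) : g * C.X (lin 6) * g⁻¹ ≠ C.X (lin 18) := by
  intro e
  obtain ⟨b, hb⟩ := (by decide +kernel : ∃ b : Fin 48, lin b * lin 24 * (lin b)⁻¹ = lin 6)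
  rw [← hb, ← C.X_conj (ok3 _) (ok3 _)] at e
  exact not_conj S (g * C.X (lin b)) (b := 18) (by decide) (by rw [← e]; group)

set_option linter.unusedVariables false in
/-- The central sign change is conjugate to the exchange of two blocks. -/
theorem exists_conj_negOne [Finite G] {C : Ctx G 3} (S : C.Split) (hP : C.CentPi S)
    (hall : C.AllLe) : ∃ g : G, g * C.X (lin 42) * g⁻¹ = C.X piM := by
  by_contra hneg
  push Not at hneg
  haveI := Fact.mk Nat.prime_two
  set T := withSgn S dSix with hT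
  have hmemD : ∀ p ∈ ([piSix, swap 0 3, swap 1 2 * swap 4 5, swap 1 4] : List (Perm (Fin 6))),
      S.κ p ∈ T := fun p hp =>
    (kappa_mem_withSgn S).mpr (mem_dSix.mpr (dSix_mem p hp))
  -- the exchange is fixed by the normaliser
  have hfix : ∀ n : G, (∀ x, x ∈ T → n * x * n⁻¹ ∈ T) → (∀ x, x ∈ T → n⁻¹ * x * n ∈ T) →
      Commute n (C.X piM) := by
    intro n hn hn'
    obtain ⟨q, hq, e, he⟩ := hn _ (hmemD piSix (by simp))
    have hcent : ∀ p ∈ ([swap 0 3, swap 1 2 * swap 4 5, swap 1 4] : List (Perm (Fin 6))),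
        q * p = p * q := by
      intro p hp
      have hpT : S.κ p ∈ T := hmemD p (List.mem_cons_of_mem _ hp)
      obtain ⟨r, hr, e', hr'⟩ := hn' _ hpT
      have hc : Commute (n⁻¹ * S.κ p * n) (S.κ piSix) := by
        rw [hr']
        refine Commute.mul_left ?_ (commute_sg S _ _).symm
        rw [Commute, SemiconjBy, ← map_mul, ← map_mul, (mem_dSix.mp hr).1]
      have h2 := (Commute.conj_iff n).mpr hc
      rw [show n * (n⁻¹ * S.κ p * n) * n⁻¹ = S.κ p by group, he] at h2
      have h3 := h2.mul_right (commute_sg S p e)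
      rw [mul_assoc, sg_mul, Bool.xor_self] at h3
      rw [show PiCent.sg C false = 1 from rfl, mul_one] at h3
      refine S.inj ?_
      rw [map_mul, map_mul]
      exact h3.eq.symm
    obtain ⟨hqp, hq3⟩ := mem_dSix.mp hq
    have hd := dSix_center q hqp hq3 (hcent _ (by simp)) (hcent _ (by simp))
    obtain ⟨g₀, hg₀⟩ := swap_conj_sgn S 0
    have hswap : swapP 0 = swap 0 3 := rfl
    rw [hswap] at hg₀
    rcases hd with rfl | rfl | rfl | rfl <;> rcases e with _ | _
    · exfalso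
      rw [map_one, show PiCent.sg C false = 1 from rfl, one_mul, conj_eq_one_iff, ← map_one S.κ] at he
      exact (by decide +kernel : piSix ≠ 1) (S.inj he)
    · exfalso
      rw [map_one, show PiCent.sg C true = sgn C from rfl, one_mul] at he
      refine not_conj S n⁻¹ (b := 2) (by decide) ?_
      rw [← he, show lin 2 = piM from rfl, ← kappa_pi S]; group
    · exfalso
      rw [show PiCent.sg C false = 1 from rfl, mul_one] at he
      refine not_conj S (n⁻¹ * g₀) (b := 2) (by decide) ?_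
      rw [show n⁻¹ * g₀ * sgn C * (n⁻¹ * g₀)⁻¹ = n⁻¹ * (g₀ * sgn C * g₀⁻¹) * n by group, hg₀,
        ← he, show lin 2 = piM from rfl, ← kappa_pi S]
      group
    · exfalso
      rw [show PiCent.sg C true = sgn C from rfl] at he
      obtain ⟨q, hq⟩ := swaps_conj (swap 0 3) (Or.inl rfl)
      obtain ⟨b, hb⟩ := (by decide +kernel : ∃ b : Fin 48,
        lin b * lin 18 * (lin b)⁻¹ = lin 6 * lin 24)
      refine double_not_conj_pi S (n⁻¹ * (S.κ q)⁻¹ * C.X (lin b)) ?_
      rw [show n⁻¹ * (S.κ q)⁻¹ * C.X (lin b) * C.X (lin 18) *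
        (n⁻¹ * (S.κ q)⁻¹ * C.X (lin b))⁻¹ = n⁻¹ * ((S.κ q)⁻¹ *
          (C.X (lin b) * C.X (lin 18) * (C.X (lin b))⁻¹) * S.κ q) * n by group,
        C.X_conj (ok3 _) (ok3 _), hb, C.X_mul (ok3 _) (ok3 _), ← kappa_six S, ← hq, map_mul,
        map_mul, map_inv]
      calc n⁻¹ * ((S.κ q)⁻¹ * (S.κ q * S.κ (swap 0 3) * (S.κ q)⁻¹ * sgn C) * S.κ q) * n
          = n⁻¹ * (S.κ (swap 0 3) * ((S.κ q)⁻¹ * (sgn C * S.κ q))) * n := by group
        _ = n⁻¹ * (n * S.κ piSix * n⁻¹) * n := by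
            rw [← (S.comm_t q).eq, inv_mul_cancel_left, he]
        _ = _ := by rw [kappa_pi S]; group
    · exfalso
      rw [show PiCent.sg C false = 1 from rfl, mul_one] at he
      obtain ⟨q, hq⟩ := (by decide +kernel : ∃ q : Perm (Fin 6),
        q * (swap 1 2 * swap 4 5) * q⁻¹ = swap 1 4 * swap 2 5)
      refine double_not_conj_pi S (n⁻¹ * S.κ q) ?_
      rw [← hq, map_mul, map_mul, map_inv, kappa_double S] at he
      rw [← kappa_pi S, show n⁻¹ * S.κ q * C.X (lin 18) * (n⁻¹ * S.κ q)⁻¹ =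
        n⁻¹ * (S.κ q * C.X (lin 18) * (S.κ q)⁻¹) * n by group, ← he]
      group
    · exfalso
      rw [show PiCent.sg C true = sgn C from rfl] at he
      obtain ⟨q, hq⟩ := (by decide +kernel : ∃ q : Perm (Fin 6),
        q * (swap 1 2 * swap 4 5) * q⁻¹ = swap 1 4 * swap 2 5)
      refine hneg (n⁻¹ * S.κ q) ?_
      rw [(by decide +kernel : lin 42 = lin 18 * lin 24), C.X_mul (ok3 _) (ok3 _), ← kappa_double S]
      calc n⁻¹ * S.κ q * (S.κ (swap 1 2 * swap 4 5) * sgn C) * (n⁻¹ * S.κ q)⁻¹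
          = n⁻¹ * (S.κ q * S.κ (swap 1 2 * swap 4 5) * (sgn C * (S.κ q)⁻¹)) * n := by group
        _ = n⁻¹ * (S.κ (q * (swap 1 2 * swap 4 5) * q⁻¹) * sgn C) * n := by
            rw [← (S.comm_t q).inv_left.eq, map_mul S.κ (q * _), map_mul S.κ q, map_inv]; group
        _ = _ := by rw [hq, ← he, ← kappa_pi S]; group
    · rw [show PiCent.sg C false = 1 from rfl, mul_one, kappa_pi S] at he
      exact mul_inv_eq_iff_eq_mul.mp he
    · exfalso
      rw [show PiCent.sg C true = sgn C from rfl, kappa_pi S, ← C.X_mul (ok3 _) (ok3 _),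
        (by decide +kernel : piM * lin 24 = lin 26)] at he
      exact pi_sgn_not_conj_pi n⁻¹ (by rw [← he]; group)
  -- the normaliser
  have hnorm : ∀ n ∈ normalizer (T : Set G), n ∈ T := by
    intro n hn
    have hn1 : ∀ x, x ∈ T → n * x * n⁻¹ ∈ T := fun x hx => (mem_normalizer_iff.mp hn x).mp hx
    have hn2 : ∀ x, x ∈ T → n⁻¹ * x * n ∈ T := fun x hx =>
      (mem_normalizer_iff''.mp hn x).mp hx
    obtain ⟨p, i, e, hp, he⟩ := hP n (hfix n hn1 hn2)
    change n = S.κ p * C.X (lastM i e) at he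
    obtain ⟨j, hj, hi⟩ := (by decide +kernel : ∀ i : Fin 3, ∀ e : Bool, ∃ j : Fin 3,
      lastM i e * lin 24 * (lastM i e)⁻¹ = lastM j true ∧ (j = 0 → i = 0)) i e
    have hu : n * sgn C * n⁻¹ = C.X (lastM j true) := by
      rw [← hj, ← C.X_conj (ok3 _) (ok3 _), he]
      calc S.κ p * C.X (lastM i e) * sgn C * (S.κ p * C.X (lastM i e))⁻¹
          = S.κ p * (C.X (lastM i e) * sgn C * (C.X (lastM i e))⁻¹) * (S.κ p)⁻¹ := by group
        _ = _ := by
          rw [((commute_last S p i e).mul_right (S.comm_t p) |>.mul_right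
            (commute_last S p i e).inv_right).eq, mul_inv_cancel_right]
    obtain ⟨q, -, e', hq⟩ := hn1 _ (sgn_mem_withSgn S dSix)
    rw [hu] at hq
    have hj0 : j = 0 := by
      rcases e' with _ | _
      · rw [show PiCent.sg C false = 1 from rfl, mul_one] at hq
        exact (last_kappa S hq).1
      · rw [show PiCent.sg C true = sgn C from rfl, ← mul_inv_eq_iff_eq_mul, inv_eq_of_mul_eq_one_right sgn_sq,
          ← C.X_mul (ok3 _) (ok3 _)] at hq
        obtain ⟨j', hj'⟩ := (by decide +kernel : ∀ j : Fin 3,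
          ∃ j', lastM j true * lin 24 = lastM j' false ∧ (j' = 0 → j = 0)) j
        rw [hj'.1] at hq
        exact hj'.2 (last_kappa S hq).1
    obtain rfl := hi hj0
    have hsg : C.X (lastM 0 e) = PiCent.sg C e := by
      rcases e with _ | _
      · rw [(by decide +kernel : lastM 0 false = 1), C.X_one]; rfl
      · rw [(by decide +kernel : lastM 0 true = lin 24)]; rfl
    rw [hsg] at he
    obtain ⟨r, hr, e'', hr'⟩ := hn1 _ (hmemD (swap 1 2 * swap 4 5) (by simp))
    have hconj : n * S.κ (swap 1 2 * swap 4 5) * n⁻¹ =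
        S.κ (p * (swap 1 2 * swap 4 5) * p⁻¹) * PiCent.sg C false := by
      rw [show PiCent.sg C false = 1 from rfl, mul_one, map_mul S.κ (p * _), map_mul S.κ p, map_inv, he]
      calc S.κ p * PiCent.sg C e * S.κ (swap 1 2 * swap 4 5) * (S.κ p * PiCent.sg C e)⁻¹
          = S.κ p * (PiCent.sg C e * S.κ (swap 1 2 * swap 4 5) * (PiCent.sg C e)⁻¹) * (S.κ p)⁻¹ := by group
        _ = _ := by rw [← (commute_sg S _ e).eq, mul_inv_cancel_right]
    rw [hconj] at hr'
    obtain ⟨rfl, -⟩ := kappa_sg_inj S hr'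
    exact ⟨p, mem_dSix.mpr ⟨hp, dSix_test p hp (mem_dSix.mp hr).2⟩, e, he⟩
  -- a Sylow subgroup
  have hT2 : IsPGroup 2 T := by
    rintro ⟨x, p, hp, e, rfl⟩
    refine ⟨2, Subtype.ext ?_⟩
    change (S.κ p * PiCent.sg C e) ^ (2 ^ 2) = 1
    rw [(commute_sg S p e).mul_pow, ← map_pow, show (2 ^ 2 : ℕ) = 4 from rfl,
      dSix_table p (mem_dSix.mp hp).1 (mem_dSix.mp hp).2, map_one, one_mul]
    rcases e with _ | _
    · exact one_pow _
    · rw [show PiCent.sg C true = sgn C from rfl, show 4 = 2 * 2 from rfl, pow_mul, sq (sgn C), sgn_sq, one_pow]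
  obtain ⟨P, hle⟩ := hT2.exists_le_sylow
  have hPT : (P : Subgroup G) ≤ T := by
    by_contra hcon
    have hlt : T.subgroupOf (P : Subgroup G) < ⊤ := lt_top_iff_ne_top.mpr fun h =>
      hcon fun x hx => mem_subgroupOf.mp (h ▸ mem_top (⟨x, hx⟩ : (P : Subgroup G)))
    haveI : Group.IsNilpotent (P : Subgroup G) := P.2.isNilpotent
    obtain ⟨n, hn, hnT⟩ :=
      SetLike.exists_of_lt (Group.normalizerCondition_of_isNilpotent _ hlt)
    refine hnT (mem_subgroupOf.mpr (hnorm (n : G) (mem_normalizer_iff.mpr fun x => ⟨fun hx => ?_,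
      fun hx => ?_⟩)))
    · exact mem_subgroupOf.mp ((mem_normalizer_iff.mp hn ⟨x, hle hx⟩).mp (mem_subgroupOf.mpr hx))
    · have hxP : x ∈ (P : Subgroup G) := by
        have := mul_mem (mul_mem (inv_mem n.2) (hle hx)) n.2
        simpa [mul_assoc] using this
      exact mem_subgroupOf.mp ((mem_normalizer_iff.mp hn ⟨x, hxP⟩).mpr (mem_subgroupOf.mpr hx))
  have hTeq : (P : Subgroup G) = T := le_antisymm hPT hle
  -- two central conjugates
  have hucent : ∀ x ∈ T, Commute x (sgn C) ∧ Commute x (S.κ (swap 0 3)) := by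
    rintro _ ⟨p, hp, e, rfl⟩
    refine ⟨(S.comm_t p).mul_left ?_, Commute.mul_left ?_ (commute_sg S _ e).symm⟩
    · rcases e with _ | _
      · exact Commute.one_left _
      · exact Commute.refl _
    · rw [Commute, SemiconjBy, ← map_mul, ← map_mul, (mem_dSix.mp hp).2]
  obtain ⟨g, hg⟩ := swap_conj_sgn S 0
  change g * sgn C * g⁻¹ = S.κ (swap 0 3) at hg
  have ha : S.κ (swap 0 3) ∈ centralizer ((P : Subgroup G) : Set G) :=
    mem_centralizer_iff.mpr fun x hx => (hucent x (hTeq ▸ hx)).2.eq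
  have hb : g⁻¹ * S.κ (swap 0 3) * g ∈ centralizer ((P : Subgroup G) : Set G) :=
    mem_centralizer_iff.mpr fun x hx => by
      rw [← hg, show g⁻¹ * (g * sgn C * g⁻¹) * g = sgn C by group]
      exact (hucent x (hTeq ▸ hx)).1.eq
  obtain ⟨n, hn, hne⟩ := P.conj_eq_normalizer_conj_of_mem_centralizer _ g ha hb
  have hnT := hucent n (hnorm n (hTeq ▸ hn))
  rw [← hg, show g⁻¹ * (g * sgn C * g⁻¹) * g = sgn C by group, hg] at hne
  refine sgn_ne_kappa S (swap 0 3) (hne.trans ?_)
  rw [mul_assoc, ← hnT.2.eq, inv_mul_cancel_left]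

end CfsgLib.SymNine40.Ctx.Split
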