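import Cfsg.Agent.SymNine40.Start
import Cfsg.Agent.SymNine40.CaseZero
import Cfsg.Agent.SymNine40.CaseOne
import Cfsg.Agent.SymNine40.CaseTwo
import Cfsg.Agent.SymNine40.CaseThree
import Cfsg.Agent.SymNine40.SixSplit
import Cfsg.Agent.SymNine40.CentPi
import Cfsg.Agent.SymNine40.FrameFusion
import Cfsg.Agent.SymNine40.FrameCommute
import Cfsg.Agent.SymNine40.Theta

/-!
The case distinction of the recognition of the symmetric group of degree nine.

* `recognition_of_top`: the recognition, from the generation statement for an embedded symmetric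
  group.
-/

set_option autoImplicit false

open Equiv Subgroup

namespace CfsgLib.SymNine40

open Mw

universe u

/-- The generation statement for an embedded symmetric group of degree nine. -/
def TopStatement (G : Type u) [Group G] : Prop :=
  ∀ (C : Ctx G 3) (Θ : Perm (Fin 9) →* G), Function.Injective Θ →
    (∀ m, Θ (toPerm m) = C.X m) → (∀ g, Commute g (C.T e3) → g ∈ Θ.range) →
    (∀ g, Commute g (C.X piM) → g ∈ Θ.range) → Θ.range = ⊤

variable {G : Type u} [Group G] [Finite G]

theorem six_case (C : Ctx G 3) (h : C.SixType) (htop : TopStatement G) :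
    Nonempty (G ≃* Perm (Fin 9)) := by
  obtain ⟨S⟩ := h.split
  have hP := C.centPi S
  obtain ⟨Θ, hi, hX, he, hpi⟩ := S.exists_theta hP (S.cross_commute hP
    (Ctx.Split.exists_conj_negOne S hP (PiCent.allLe3 C))
    (fun g => Ctx.Split.t1_not_conj_pi S g) (fun g => Ctx.Split.t1_not_conj_n12 S g))
  exact ⟨(MulEquiv.ofBijective Θ
    ⟨hi, MonoidHom.range_eq_top.mp (htop C Θ hi hX he hpi)⟩).symm⟩

theorem ctx_cases {k : Fin 4} (C : Ctx G k) (htop : TopStatement G) :
    C.J.Normal ∨ Nonempty (G ≃* Perm (Fin 9)) := by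
  fin_cases k
  · exact Or.inl C.case_zero
  · exact Or.inl C.case_one
  · exact Or.inl C.case_two
  · rcases C.six_or with h | h
    · exact Or.inl (C.case_three h)
    · exact Or.inr (six_case C h htop)

/-- The recognition from the generation statement. -/
theorem recognition_of_top (x : G) (hx : orderOf x = 3)
    (eC : centralizer ({x} : Set G) ≃* centralizer ({u9} : Set (Perm (Fin 9))))
    (J : Subgroup G) (hJC : J ≤ centralizer ({x} : Set G)) (hJcomm : IsMulCommutative J)
    (hJexp : ∀ j ∈ J, j ^ 3 = 1) (hJcard : Nat.card J = 27)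
    (hJsig : ∀ K : Subgroup G, (Nat.card K).Coprime 3 →
      (∀ j ∈ J, K.map (MulAut.conj j).toMonoidHom = K) → K = ⊥)
    (htop : TopStatement G) : J.Normal ∨ Nonempty (G ≃* Perm (Fin 9)) := by
  obtain ⟨D, hDJ, -⟩ := exists_base x hx eC J hJC hJcomm hJexp hJcard hJsig
  obtain ⟨k, C, hCJ, -⟩ := D.exists_ctx
  have hJ : C.J = J := hCJ.trans hDJ
  exact hJ ▸ ctx_cases C htop

end CfsgLib.SymNine40
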