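import Mathlib
import Cfsg.Agent.SymNine40.TopCent
import Cfsg.Agent.SymNine40.Quot
import Cfsg.Agent.SymNine40.Reflect

/-!
The last step of the recognition of the symmetric group of degree nine: an embedded symmetric
group of degree nine extending the monomial group and containing the centralisers of a short
translation and of a block exchange is the whole group.

* `Ctx.top_of_theta`.
-/

set_option autoImplicit false
set_option maxRecDepth 20000

open Equiv Subgroup

namespace CfsgLib.SymNine40

open Mw

theorem top_perm_table : toPerm (tr e3) = (swap 6 7 * swap 7 8 : Top.P9) ∧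
    toPerm (tr (1, 1, 0)) = Top.y33 ∧ toPerm piM = Top.p6 ∧ ¬ Wt1 ((1, 1, 0) : Vec) := by
  decide +kernel

/-- The embedded symmetric group of degree nine is the whole group. -/
theorem Ctx.top_of_theta {G : Type*} [Group G] [Finite G] (C : Ctx G 3)
    (Θ : Equiv.Perm (Fin 9) →* G) (hi : Function.Injective Θ)
    (hX : ∀ m, Θ (toPerm m) = C.X m) (he : ∀ g, Commute g (C.T e3) → g ∈ Θ.range)
    (hpi : ∀ g, Commute g (C.X piM) → g ∈ Θ.range) : Θ.range = ⊤ := by
  obtain ⟨h3, h33, h6, hw⟩ := top_perm_table
  have hall : C.AllLe := C.allLe_of fun _ => C.centLe_klein_three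
  refine Top.Hyp.range_eq_top ⟨Θ, hi, ?_, ?_, ?_⟩
  · have hc : Top.CLe Θ (swap 6 7 * swap 7 8) := fun g hg => he g (by
      rw [Ctx.T, ← hX, h3]; exact hg)
    exact hc.conj Top.isConj_y3.symm
  · intro g hg
    have hN : g ∈ C.N := hall (1, 1, 0) (by decide) (fun _ => hw) g (by
      rw [Ctx.T, ← hX, h33]; exact hg)
    obtain ⟨m, -, rfl⟩ := C.mem_N.mp hN
    exact ⟨toPerm m, hX m⟩
  · intro g hg
    exact hpi g (by rw [← hX, h6]; exact hg)

end CfsgLib.SymNine40
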