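import Cfsg.Agent.SymNine40.Plane
import Cfsg.Agent.TIThree.FreeAutomizer

/-!
The configuration with linear parts the permutations and their negatives: local facts.

* `Ctx.cent_pi_one`: the centraliser of the exchange of two blocks lies in the monomial group.
-/

set_option autoImplicit false
set_option maxRecDepth 20000

open Subgroup

namespace CfsgLib.SymNine40

open Mw

/-- The vector `(a, a, c)`. -/
def planeVec (a : Fin 3 × Fin 3) : Vec := (a.1, a.1, a.2)

theorem planeVec_add : ∀ a b, planeVec (a + b) = planeVec a + planeVec b := by decide +kernel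

theorem planeVec_comb : ∀ a : Fin 3 × Fin 3,
    planeVec a = a.1.val • planeVec (1, 0) + a.2.val • planeVec (0, 1) := by decide +kernel

theorem planeVec_indep : ∀ i j : Fin 3,
    i.val • planeVec (1, 0) + j.val • planeVec (0, 1) = 0 → i = 0 ∧ j = 0 := by decide +kernel

theorem planeVec_inj : ∀ a b, planeVec a = planeVec b → a = b := by decide +kernel

theorem tr_plane_comm : ∀ a, tr (planeVec a) * piM = piM * tr (planeVec a) := by decide +kernel

theorem piM_facts : piM * piM = 1 ∧ piM ≠ 1 ∧ ∀ v : Vec, ∀ a, Ok 1 a →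
    ¬ (tr v * piM * (tr v * piM) * (tr v * piM) = 1 ∧ tr v * piM = piM * tr v) := by decide +kernel

theorem norm_pi_table : ∀ m : Mw, Ok 1 m.w → m * piM = piM * m →
    (∀ a, m * tr (planeVec a) * m⁻¹ ∈ Finset.univ.image fun b => tr (planeVec b)) ∧
    ∃ a, ∃ e : Bool, ∃ f : Bool, m = (tr (planeVec a) * lin (if e then 42 else 0)) *
      (if f then piM else 1) := by decide +kernel

theorem rep_table : ∀ a b : Fin 3 × Fin 3, ∀ e f : Bool,
    Ok 1 (tr (planeVec a) * lin (if e then 42 else 0)).w ∧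
    (tr (planeVec a) * lin (if e then 42 else 0)) * piM =
      piM * (tr (planeVec a) * lin (if e then 42 else 0)) ∧
    ((tr (planeVec a) * lin (if e then 42 else 0))⁻¹ * (tr (planeVec b) * lin (if f then 42 else 0)) = 1 ∨
     (tr (planeVec a) * lin (if e then 42 else 0))⁻¹ * (tr (planeVec b) * lin (if f then 42 else 0)) = piM →
      a = b ∧ e = f) := by decide +kernel

theorem cent_plane_table : ∀ m : Mw, Ok 1 m.w → m * piM = piM * m → ∀ a, a ≠ 0 →
    m * tr (planeVec a) = tr (planeVec a) * m →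
    ∃ b, m = tr (planeVec b) ∨ m = tr (planeVec b) * piM := by decide +kernel

theorem two_classes_table : ∀ m : Mw, Ok 1 m.w → m * piM = piM * m →
    m * tr (planeVec (1, 0)) * m⁻¹ ≠ tr (planeVec (0, 1)) := by decide +kernel

namespace Ctx

set_option maxHeartbeats 2000000

variable {G : Type*} [Group G]

/-- The centraliser of the exchange of two blocks lies in the monomial group. -/
theorem cent_pi_one [Finite G] (C : Ctx G 1) (hall : C.AllLe) {g : G}
    (hg : Commute g (C.X piM)) : g ∈ C.N := by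
  classical
  haveI : Fact (Nat.Prime 3) := ⟨Nat.prime_three⟩
  have hp : Ok 1 piM.w := by decide +kernel
  have hok : ∀ v : Vec, Ok 1 (tr v).w := fun v => ok_one 1
  set p := C.X piM with hp_def
  set Z := centralizer ({p} : Set G) with hZ_def
  have hmemZ : ∀ x, x ∈ Z ↔ x * p = p * x := fun x => mem_centralizer_singleton_iff
  have hp2 : p * p = 1 := by rw [hp_def, ← C.X_mul hp hp, piM_facts.1, C.X_one]
  let pZ : Z := ⟨p, (hmemZ p).mpr rfl⟩
  have hcen : ∀ x : Z, x * pZ = pZ * x := fun x => Subtype.ext ((hmemZ x).mp x.2)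
  set Zp := zpowers pZ with hZp
  have hZpm : ∀ x : Z, x ∈ Zp ↔ x = 1 ∨ x = pZ := by
    intro x
    refine ⟨fun h => ?_, ?_⟩
    · obtain ⟨i, rfl⟩ := mem_zpowers_iff.mp h
      have h2 : pZ ^ (2 : ℤ) = 1 := by rw [zpow_two]; exact Subtype.ext hp2
      rcases Int.even_or_odd i with ⟨j, rfl⟩ | ⟨j, rfl⟩
      · left; rw [← two_mul, zpow_mul, h2, one_zpow]
      · right; rw [zpow_add, zpow_mul, h2, one_zpow, one_mul, zpow_one]
    · rintro (rfl | rfl)
      exacts [one_mem _, mem_zpowers _]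
  haveI hZpn : Zp.Normal := ⟨fun n hn x => by
    rcases (hZpm n).mp hn with rfl | rfl
    · simp [one_mem]
    · rwa [hcen x, mul_inv_cancel_right]⟩
  set π := QuotientGroup.mk' Zp with hπ
  have hsZ : ∀ a, C.T (planeVec a) ∈ Z := fun a => (hmemZ _).mpr
    ((C.X_commute (hok _) hp).mpr (tr_plane_comm a)).eq
  let s : Multiplicative (Fin 3 × Fin 3) →* Z :=
    { toFun := fun a => ⟨C.T (planeVec a.toAdd), hsZ _⟩
      map_one' := Subtype.ext (by
        change C.T (planeVec 0) = 1
        rw [show planeVec 0 = 0 from rfl, C.T_zero])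
      map_mul' := fun a b => Subtype.ext (by
        change C.T (planeVec (a.toAdd + b.toAdd)) = C.T _ * C.T _
        rw [planeVec_add, C.T_add]) }
  -- translations are determined modulo the exchange
  have hcube : ∀ a, ∀ x : G, x * x * x = 1 → ∀ c ∈ Zp, x = C.T (planeVec a) * (c : G) →
      x = C.T (planeVec a) := by
    intro a x hx c hc e
    rcases (hZpm c).mp hc with rfl | rfl
    · rw [e, OneMemClass.coe_one, mul_one]
    · exfalso
      refine piM_facts.2.2 (planeVec a) 0 (ok_one 1) ⟨C.X_inj ?_ (ok_one 1) ?_, tr_plane_comm a⟩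
      · exact ok_mul 1 _ _ (ok_mul 1 _ _ (ok_mul 1 _ _ (hok _) hp) (ok_mul 1 _ _ (hok _) hp))
          (ok_mul 1 _ _ (hok _) hp)
      · have hx' : x = C.X (tr (planeVec a) * piM) := by rw [e, C.X_mul (hok _) hp]; rfl
        rw [C.X_mul (ok_mul 1 _ _ (ok_mul 1 _ _ (hok _) hp) (ok_mul 1 _ _ (hok _) hp))
          (ok_mul 1 _ _ (hok _) hp), C.X_mul (ok_mul 1 _ _ (hok _) hp) (ok_mul 1 _ _ (hok _) hp),
          ← hx', hx, C.X_one]
  have key : ∀ x : Z, ∀ a b, π x * π (s a) * (π x)⁻¹ = π (s b) →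
      (x : G) * C.T (planeVec a.toAdd) * (x : G)⁻¹ = C.T (planeVec b.toAdd) := by
    intro x a b e
    rw [← map_inv, ← map_mul, ← map_mul, eq_comm] at e
    have hc : (s b)⁻¹ * (x * s a * x⁻¹) ∈ Zp := QuotientGroup.eq.mp e
    refine hcube _ _ ?_ _ hc ?_
    · rw [show (x : G) * C.T (planeVec a.toAdd) * (x : G)⁻¹ *
        ((x : G) * C.T (planeVec a.toAdd) * (x : G)⁻¹) *
        ((x : G) * C.T (planeVec a.toAdd) * (x : G)⁻¹) = (x : G) *
        (C.T (planeVec a.toAdd) * C.T (planeVec a.toAdd) * C.T (planeVec a.toAdd)) * (x : G)⁻¹ by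
          group, C.T_cube, mul_one, mul_inv_cancel]
    · change _ = C.T (planeVec b.toAdd) * ((C.T (planeVec b.toAdd))⁻¹ *
        ((x : G) * C.T (planeVec a.toAdd) * (x : G)⁻¹))
      rw [mul_inv_cancel_left]
  set ψ := π.comp s with hψ
  have hψinj : Function.Injective ψ := by
    refine (injective_iff_map_eq_one ψ).mpr fun a ha => ?_
    have h1 := key 1 a 1 (by
      rw [map_one, one_mul, inv_one, mul_one, map_one, map_one]; exact ha)
    simp only [OneMemClass.coe_one, one_mul, inv_one, mul_one] at h1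
    exact Multiplicative.toAdd.injective (planeVec_inj _ _ (C.T_inj h1))
  set S := ψ.range with hS
  have hS9 : Nat.card S = 9 := by
    rw [hS, ← Nat.card_congr (MonoidHom.ofInjective hψinj).toEquiv, Nat.card_eq_fintype_card]
    rfl
  -- the normaliser of the image
  set Nx := normalizer (S : Set (Z ⧸ Zp)) with hNx
  have hnormN : ∀ x : Z, π x ∈ Nx → (x : G) ∈ C.N := by
    intro x hx
    have h : ∀ a, ∃ b, (x : G) * C.T (planeVec a) * (x : G)⁻¹ = C.T (planeVec b) := fun a => by
      obtain ⟨b, hb⟩ := (mem_normalizer_iff.mp hx _).mp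
        (⟨Multiplicative.ofAdd a, rfl⟩ : ψ (Multiplicative.ofAdd a) ∈ S)
      exact ⟨b.toAdd, key x _ b hb.symm⟩
    refine C.norm_plane planeVec_indep ?_ ?_
    · obtain ⟨b, hb⟩ := h (1, 0)
      exact ⟨b.1, b.2, by rw [hb, ← planeVec_comb]⟩
    · obtain ⟨b, hb⟩ := h (0, 1)
      exact ⟨b.1, b.2, by rw [hb, ← planeVec_comb]⟩
  let rp : (Fin 3 × Fin 3) × Bool → Mw := fun q =>
    tr (planeVec q.1) * lin (if q.2 then 42 else 0)
  have hrpZ : ∀ q, C.X (rp q) ∈ Z := fun q => (hmemZ _).mpr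
    ((C.X_commute (rep_table q.1 q.1 q.2 q.2).1 hp).mpr (rep_table q.1 q.1 q.2 q.2).2.1).eq
  let F : (Fin 3 × Fin 3) × Bool → Z ⧸ Zp := fun q => π ⟨C.X (rp q), hrpZ q⟩
  have hFinj : Function.Injective F := by
    rintro ⟨a, e⟩ ⟨b, f⟩ h
    have hc := (hZpm _).mp (QuotientGroup.eq.mp h)
    have ha := (rep_table a a e e).1
    have hb := (rep_table b b f f).1
    refine Prod.ext_iff.mpr ((rep_table a b e f).2.2 ?_)
    rcases hc with hc | hc
    · left
      refine C.X_eq_one (ok_mul 1 _ _ (ok_inv 1 _ ha) hb) ?_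
      rw [C.X_mul (ok_inv 1 _ ha) hb, C.X_inv ha]
      exact congrArg Subtype.val hc
    · right
      refine C.X_inj (ok_mul 1 _ _ (ok_inv 1 _ ha) hb) hp ?_
      rw [C.X_mul (ok_inv 1 _ ha) hb, C.X_inv ha]
      exact congrArg Subtype.val hc
  have hNxset : (Nx : Set (Z ⧸ Zp)) = Set.range F := by
    ext y
    obtain ⟨x, rfl⟩ := QuotientGroup.mk'_surjective Zp y
    constructor
    · intro hy
      obtain ⟨m, hm, hmx⟩ := C.mem_N.mp (hnormN x hy)
      have hcm : m * piM = piM * m := (C.X_commute hm hp).mp (by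
        rw [hmx]; exact (hmemZ _).mp x.2)
      obtain ⟨a, e, f, hef⟩ := (norm_pi_table m hm hcm).2
      refine ⟨(a, e), (QuotientGroup.eq).mpr ?_⟩
      have hr := (rep_table a a e e).1
      refine (hZpm _).mpr ?_
      cases f
      · left
        refine Subtype.ext ?_
        change (C.X (rp (a, e)))⁻¹ * (x : G) = 1
        rw [← hmx, inv_mul_eq_one, hef]; simp [rp]
      · right
        refine Subtype.ext ?_
        change (C.X (rp (a, e)))⁻¹ * (x : G) = p
        rw [← hmx, inv_mul_eq_iff_eq_mul, hef, hp_def, ← C.X_mul hr hp]; simp [rp]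
    · rintro ⟨q, hq⟩
      rw [SetLike.mem_coe, ← hq]
      refine mem_normalizer_fintype ?_
      rintro _ ⟨a, rfl⟩
      obtain ⟨b, -, hb⟩ := Finset.mem_image.mp
        ((norm_pi_table (rp q) (rep_table q.1 q.1 q.2 q.2).1 (rep_table q.1 q.1 q.2 q.2).2.1).1 a.toAdd)
      refine ⟨Multiplicative.ofAdd b, ?_⟩
      change π (s _) = π _ * π (s a) * (π _)⁻¹
      rw [← map_inv, ← map_mul, ← map_mul]
      refine congrArg π (Subtype.ext ?_)
      change C.T (planeVec b) = C.X (rp q) * C.X (tr (planeVec a.toAdd)) * (C.X (rp q))⁻¹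
      rw [C.X_conj (rep_table q.1 q.1 q.2 q.2).1 (hok _), ← hb]
      rfl
  have hNx18 : Nat.card Nx = 18 := by
    rw [← SetLike.coe_sort_coe, hNxset, Nat.card_range_of_injective hFinj, Nat.card_eq_fintype_card]
    rfl
  -- the Sylow subgroup
  have h27 : ¬ 27 ∣ Nat.card (Z ⧸ Zp) := fun h => by
    have := Sylow.card_normalizer_modEq_card (n := 2) (p := 3) (H := S) (by rw [hS9]; norm_num)
    rw [← hNx, hNx18] at this
    unfold Nat.ModEq at this
    omega
  have hidx : ¬ 3 ∣ S.index := fun h => h27 (by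
    rw [← S.card_mul_index, hS9]
    exact mul_dvd_mul_left 9 h)
  let P : Sylow 3 (Z ⧸ Zp) := (IsPGroup.of_card (n := 2) (by rw [hS9]; norm_num) : IsPGroup 3 S).toSylow hidx
  have hPS : (P : Subgroup (Z ⧸ Zp)) = S := rfl
  have hor : normalizer ((P : Subgroup (Z ⧸ Zp)) : Set (Z ⧸ Zp)) = ⊤ ∨
      (Nat.card (Z ⧸ Zp) = 360 ∧ IsSimpleGroup (Z ⧸ Zp)) := by
    refine CfsgLib.TIThree.normalizer_eq_top_or P (by rw [hPS, hS9]) ?_ ?_ ?_
      (ψ (Multiplicative.ofAdd (1, 0))) (ψ (Multiplicative.ofAdd (0, 1))) ⟨_, rfl⟩ ⟨_, rfl⟩ ?_ ?_ ?_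
    · rintro _ ⟨a, rfl⟩
      rw [← map_pow, show a ^ 3 = 1 from (by
        revert a; decide +kernel : ∀ a : Multiplicative (Fin 3 × Fin 3), a ^ 3 = 1) a, map_one]
    · rintro _ ⟨a, rfl⟩ _ ⟨b, rfl⟩
      rw [← map_mul, ← map_mul, mul_comm]
    · intro y hy hy1
      obtain ⟨a, rfl⟩ := hy
      refine le_antisymm (fun w hw => ?_) (fun w hw => ?_)
      · obtain ⟨x, rfl⟩ := QuotientGroup.mk'_surjective Zp w
        have hw' := mem_centralizer_singleton_iff.mp hw
        have e := key x a a (by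
          change π x * ψ a * (π x)⁻¹ = ψ a
          rw [hw', mul_inv_cancel_right])
        have ha0 : a.toAdd ≠ 0 := fun h => hy1 (by
          rw [show a = 1 from Multiplicative.toAdd.injective h, map_one])
        have hc : Commute (x : G) (C.T (planeVec a.toAdd)) := mul_inv_eq_iff_eq_mul.mp e
        have hne : planeVec a.toAdd ≠ 0 := fun h => ha0 (planeVec_inj _ _ h)
        obtain ⟨m, hm, hmx⟩ := C.mem_N.mp
          (hall _ hne (fun h => absurd h (by decide)) x hc)
        obtain ⟨b, hb⟩ := cent_plane_table m hm ((C.X_commute hm hp).mp (by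
          rw [hmx]; exact (hmemZ _).mp x.2)) _ ha0 ((C.X_commute hm (hok _)).mp (by
          rw [hmx]; exact hc))
        refine ⟨Multiplicative.ofAdd b, (QuotientGroup.eq).mpr ((hZpm _).mpr ?_)⟩
        rcases hb with hb | hb
        · left
          refine Subtype.ext ?_
          change (C.T (planeVec b))⁻¹ * (x : G) = 1
          rw [← hmx, hb, inv_mul_eq_one]; rfl
        · right
          refine Subtype.ext ?_
          change (C.T (planeVec b))⁻¹ * (x : G) = p
          rw [← hmx, hb, inv_mul_eq_iff_eq_mul, C.X_mul (hok _) hp]; rfl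
      · obtain ⟨b, rfl⟩ := hw
        rw [mem_centralizer_singleton_iff, ← map_mul, ← map_mul, mul_comm]
    · exact fun h => absurd (hψinj (h.trans ψ.map_one.symm)) (by decide)
    · exact fun h => absurd (hψinj (h.trans ψ.map_one.symm)) (by decide)
    · intro w hw
      obtain ⟨x, rfl⟩ := QuotientGroup.mk'_surjective Zp w
      have e := key x _ _ hw
      obtain ⟨m, hm, hmx⟩ := C.mem_N.mp
        (C.mem_N_of_conj_T (hall _ (by decide) (fun h => absurd h (by decide))) e)
      refine two_classes_table m hm ((C.X_commute hm hp).mp (by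
          rw [hmx]; exact (hmemZ _).mp x.2)) (C.X_inj ?_ (hok _) ?_)
      · exact ok_mul 1 _ _ (ok_mul 1 _ _ hm (hok _)) (ok_inv 1 _ hm)
      · rw [← C.X_conj hm (hok _), hmx]; exact e
  rcases hor with htop | ⟨h360, -⟩
  · rw [hPS, ← hNx] at htop
    exact hnormN ⟨g, (hmemZ g).mpr hg.eq⟩ (htop.symm ▸ mem_top _)
  · exfalso
    have h1 := Sylow.card_eq_index_normalizer P
    have h2 : Nat.card (Sylow 3 (Z ⧸ Zp)) % 3 = 1 := card_sylow_modEq_one 3 (Z ⧸ Zp)
    have h3 := (normalizer ((P : Subgroup (Z ⧸ Zp)) : Set (Z ⧸ Zp))).card_mul_index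
    rw [show (P : Set (Z ⧸ Zp)) = ((P : Subgroup (Z ⧸ Zp)) : Set (Z ⧸ Zp)) from rfl] at h1
    rw [hPS, ← hNx] at h1 h3
    rw [hNx18, h360] at h3
    omega

end Ctx

end CfsgLib.SymNine40
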