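import Cfsg.Agent.PSp43Amalgam.SelfCent

/-!
A self-centralising element of order three inverted by an involution with a centraliser of order at
most four.

* `four_core`: the normal two-subgroups meeting the centraliser in at most two elements are
  four-groups.
* `exists_core_quot`: the structure of the group.
-/

set_option autoImplicit false
set_option maxRecDepth 4000

open Subgroup

namespace CfsgLib.SymNine40.CaseOne

variable {Q : Type*} [Group Q]

theorem card_le_four {N : Subgroup Q} [Finite Q] (z w u : Q)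
    (h : ∀ a ∈ N, a = 1 ∨ a = z ∨ a = w ∨ a = u) (hz : z ∈ N) (hw : w ∈ N) (hu : u ∈ N) :
    Nat.card N ≤ 4 := by
  classical
  haveI := Fintype.ofFinite N
  rw [Nat.card_eq_fintype_card]
  refine le_trans (Finset.card_le_card (t := {1, ⟨z, hz⟩, ⟨w, hw⟩, ⟨u, hu⟩}) ?_) Finset.card_le_four
  intro a _
  simp only [Finset.mem_insert, Finset.mem_singleton]
  rcases h a a.2 with e | e | e | e
  · exact Or.inl (Subtype.ext e)
  · exact Or.inr (Or.inl (Subtype.ext e))
  · exact Or.inr (Or.inr (Or.inl (Subtype.ext e)))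
  · exact Or.inr (Or.inr (Or.inr (Subtype.ext e)))

/-- A normal two-subgroup on which the element of order three acts without fixed points and the
involution has at most two fixed points is trivial or a four-group. -/
theorem four_core [Finite Q] {t l : Q} (ht : t * t = 1) (hl : l * l * l = 1)
    (hlt : t * l * t = l⁻¹) (N : Subgroup Q) [N.Normal] (hp : IsPGroup 2 N)
    (hfix : ∀ a ∈ N, Commute a l → a = 1)
    (huniq : ∀ a ∈ N, ∀ b ∈ N, Commute a t → Commute b t → a ≠ 1 → b ≠ 1 → a = b) (hN : N ≠ ⊥) :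
    ∃ z w : Q, z ∈ N ∧ w ∈ N ∧ z ≠ 1 ∧ z * z = 1 ∧ Commute z t ∧ w = l * z * l⁻¹ ∧
      t * w * t = l⁻¹ * z * l ∧ w * (t * w * t) = z ∧
      (∀ a ∈ N, a * a = 1) ∧ t * w * t ≠ w ∧
      Nat.card N = 4 ∧ ∀ a ∈ N, a = 1 ∨ a = z ∨ a = w ∨ a = t * w * t := by
  classical
  haveI : Fact (Nat.Prime 2) := ⟨Nat.prime_two⟩
  have htinv : t⁻¹ = t := inv_eq_of_mul_eq_one_right ht
  have hconj : ∀ g, ∀ a ∈ N, g * a * g⁻¹ ∈ N := fun g a ha =>
    ‹N.Normal›.conj_mem a ha g
  have htN : ∀ a ∈ N, t * a * t ∈ N := fun a ha => by simpa [htinv] using hconj t a ha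
  have hlN : ∀ a ∈ N, l⁻¹ * a * l ∈ N := fun a ha => by simpa using hconj l⁻¹ a ha
  -- a central fixed involution
  haveI : Nontrivial N := (Subgroup.nontrivial_iff_ne_bot N).mpr hN
  haveI := hp.center_nontrivial
  obtain ⟨n0, hn0⟩ := (hp.to_subgroup (center N)).exists_card_eq
  have h2c : 2 ∣ Nat.card (center N) := by
    have h1 : 1 < Nat.card (center N) := Finite.one_lt_card
    rw [hn0] at h1 ⊢
    exact dvd_pow_self 2 (by rintro rfl; simp at h1)
  obtain ⟨⟨a0, ha0c⟩, ha0o⟩ := exists_prime_orderOf_dvd_card' 2 h2c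
  have ha1 : (a0 : Q) ≠ 1 := fun e => by
    rw [Subgroup.orderOf_mk, Subtype.ext e (a2 := (1 : N)), orderOf_one] at ha0o
    norm_num at ha0o
  have ha2 : (a0 : Q) * a0 = 1 := by
    have h2 := pow_orderOf_eq_one a0
    rw [Subgroup.orderOf_mk] at ha0o
    rw [ha0o, sq] at h2
    exact congrArg Subtype.val h2
  have ha0z : ∀ b ∈ N, b * (a0 : Q) = a0 * b := fun b hb =>
    congrArg Subtype.val (mem_center_iff.mp ha0c ⟨b, hb⟩)
  have hb0z : ∀ b ∈ N, b * (t * a0 * t) = t * a0 * t * b := fun b hb => by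
    have := congrArg (fun x => t * x * t) (ha0z (t * b * t) (htN b hb))
    calc b * (t * a0 * t) = (t * t) * b * (t * a0 * t) := by rw [ht, one_mul]
      _ = t * (t * b * t * a0) * t := by
        simp only [mul_assoc]
      _ = t * (a0 * (t * b * t)) * t := this
      _ = t * a0 * t * b * (t * t) := by simp only [mul_assoc]
      _ = _ := by rw [ht, mul_one]
  obtain ⟨z, hzN, hz1, hz2, hzt, hzc⟩ : ∃ z ∈ N, z ≠ 1 ∧ z * z = 1 ∧ Commute z t ∧
      ∀ b ∈ N, b * z = z * b := by
    by_cases e : t * (a0 : Q) * t = a0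
    · refine ⟨a0, a0.2, ha1, ha2, ?_, ha0z⟩
      change (a0 : Q) * t = t * a0
      conv_lhs => rw [← e]
      rw [mul_assoc, ht, mul_one]
    · set b := t * (a0 : Q) * t with hb
      have hbN : b ∈ N := htN _ a0.2
      have hb2 : b * b = 1 := by
        rw [hb, show t * (a0 : Q) * t * (t * a0 * t) = t * a0 * (t * t) * a0 * t by group, ht,
          mul_one, mul_assoc t, ha2, mul_one, ht]
      refine ⟨a0 * b, mul_mem a0.2 hbN, fun h => e ?_, ?_, ?_, fun c hc => ?_⟩
      · exact (inv_eq_of_mul_eq_one_right h).symm.trans (inv_eq_of_mul_eq_one_right ha2)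
      · rw [show (a0 : Q) * b * (a0 * b) = a0 * (b * a0) * b by group, ha0z b hbN,
          show (a0 : Q) * (a0 * b) * b = a0 * a0 * (b * b) by group, ha2, hb2, one_mul]
      · change (a0 : Q) * b * t = t * (a0 * b)
        rw [← ha0z b hbN, hb]
        calc t * (a0 : Q) * t * a0 * t = t * (a0 * (t * a0 * t)) := by simp only [mul_assoc]
          _ = t * (t * a0 * t * a0) := by rw [← hb, ha0z b hbN]
      · rw [← mul_assoc, ha0z c hc, mul_assoc, hb0z c hc, ← mul_assoc]
  have hzi : z⁻¹ = z := inv_eq_of_mul_eq_one_right hz2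
  set w := l * z * l⁻¹ with hw
  have hwN : w ∈ N := hconj l z hzN
  have hlinv : l⁻¹ = l * l := (inv_eq_of_mul_eq_one_left hl)
  set u := l⁻¹ * z * l with hu
  have htw : t * w * t = u := by
    calc t * w * t = (t * l * t) * (t * z * t) * (t * l * t)⁻¹ := by
          rw [hw, mul_inv_rev, mul_inv_rev, htinv]
          simp only [mul_assoc]
          simp [← mul_assoc t t, ht]
      _ = u := by rw [hlt, ← hzt.eq, mul_assoc z, ht, mul_one, inv_inv]
  have huN : u ∈ N := hlN z hzN
  have hw2 : w * w = 1 := by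
    rw [hw, show l * z * l⁻¹ * (l * z * l⁻¹) = l * (z * z) * l⁻¹ by group, hz2]; group
  have hu2 : u * u = 1 := by
    rw [hu, show l⁻¹ * z * l * (l⁻¹ * z * l) = l⁻¹ * (z * z) * l by group, hz2]; group
  have hwc : ∀ b ∈ N, b * w = w * b := fun b hb => by
    have := congrArg (fun x => l * x * l⁻¹) (hzc (l⁻¹ * b * l) (hlN b hb))
    rw [hw]
    calc b * (l * z * l⁻¹) = l * (l⁻¹ * b * l * z) * l⁻¹ := by group
      _ = l * (z * (l⁻¹ * b * l)) * l⁻¹ := this
      _ = _ := by group
  have huc : ∀ b ∈ N, b * u = u * b := fun b hb => by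
    have := congrArg (fun x => l⁻¹ * x * l) (hzc (l * b * l⁻¹) (hconj l b hb))
    rw [hu]
    calc b * (l⁻¹ * z * l) = l⁻¹ * (l * b * l⁻¹ * z) * l := by group
      _ = l⁻¹ * (z * (l * b * l⁻¹)) * l := this
      _ = _ := by group
  have hlw : l * w * l⁻¹ = u := by
    calc l * w * l⁻¹ = (l * l) * z * (l * l)⁻¹ := by rw [hw]; group
      _ = u := by rw [← hlinv, inv_inv]
  have hlu : l * u * l⁻¹ = z := by rw [hu]; group
  have hprod : z * w * u = 1 := by
    refine hfix _ (mul_mem (mul_mem hzN hwN) huN) ?_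
    refine (show Commute l (z * w * u) from ?_).symm
    refine mul_inv_eq_iff_eq_mul.mp ?_
    have h1 : l * (z * w * u) * l⁻¹ = (l * z * l⁻¹) * (l * w * l⁻¹) * (l * u * l⁻¹) := by
      simp only [mul_assoc, inv_mul_cancel_left]
    rw [h1, hlw, hlu, ← hw, hzc (w * u) (mul_mem hwN huN), mul_assoc z w u]
  have hwu : w * u = z := by
    rw [mul_assoc] at hprod
    exact (inv_eq_of_mul_eq_one_right hprod).symm.trans hzi
  have hzw : z * w = u := by
    rw [← hwu, mul_assoc, hwc u huN, ← mul_assoc, hw2, one_mul]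
  have hwz : w * z = u := (hzc w hwN).trans hzw
  have hzu : z * u = w := by rw [← hwu, mul_assoc, hu2, mul_one]
  have huz : u * z = w := (hzc u huN).trans hzu
  have huw : u * w = z := (hwc u huN).trans hwu
  have hall : ∀ a ∈ N, a = 1 ∨ a = z ∨ a = w ∨ a = u := by
    by_contra hall
    push Not at hall
    obtain ⟨a, haN, hane⟩ := hall
    let K : Subgroup N :=
      { carrier := {b | (b : Q) = 1 ∨ (b : Q) = z ∨ (b : Q) = w ∨ (b : Q) = u}
        one_mem' := Or.inl rfl
        mul_mem' := by
          rintro ⟨b, hb⟩ ⟨c, hc⟩ hb' hc'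
          simp only [Set.mem_setOf_eq, Subgroup.coe_mul] at *
          rcases hb' with rfl | rfl | rfl | rfl <;> rcases hc' with rfl | rfl | rfl | rfl
          all_goals simp [hz2, hw2, hu2, hwu, hzw, hwz, hzu, huz, huw]
        inv_mem' := by
          rintro ⟨b, hb⟩ hb'
          simp only [Set.mem_setOf_eq, Subgroup.coe_inv] at *
          rcases hb' with rfl | rfl | rfl | rfl
          · simp
          · rw [hzi]; tauto
          · rw [inv_eq_of_mul_eq_one_right hw2]; tauto
          · rw [inv_eq_of_mul_eq_one_right hu2]; tauto }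
    have hKc : ∀ b ∈ K, b ∈ center N := by
      rintro ⟨b, hb⟩ hb'
      refine mem_center_iff.mpr fun c => Subtype.ext ?_
      rcases hb' with e | e | e | e <;> change (c : Q) * b = b * c <;>
        rw [show b = _ from e]
      · rw [mul_one, one_mul]
      · exact hzc c c.2
      · exact hwc c c.2
      · exact huc c c.2
    haveI : K.Normal := ⟨fun b hb g => by
      rwa [(mem_center_iff.mp (hKc b hb) g), mul_inv_cancel_right]⟩
    have hKne : K ≠ ⊤ := fun e => by
      rcases (e.symm ▸ mem_top (⟨a, haN⟩ : N) : (⟨a, haN⟩ : N) ∈ K) with h | h | h | h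
      exacts [hane.1 h, hane.2.1 h, hane.2.2.1 h, hane.2.2.2 h]
    haveI : Nontrivial (N ⧸ K) := QuotientGroup.nontrivial_iff.mpr hKne
    haveI := (hp.to_quotient K).center_nontrivial
    obtain ⟨n1, hn1⟩ := ((hp.to_quotient K).to_subgroup (center (N ⧸ K))).exists_card_eq
    have h2q : 2 ∣ Nat.card (center (N ⧸ K)) := by
      have h1 : 1 < Nat.card (center (N ⧸ K)) := Finite.one_lt_card
      rw [hn1] at h1 ⊢
      exact dvd_pow_self 2 (by rintro rfl; simp at h1)
    obtain ⟨⟨q, hqc⟩, hqo⟩ := exists_prime_orderOf_dvd_card' 2 h2q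
    rw [Subgroup.orderOf_mk] at hqo
    obtain ⟨⟨c, hcN⟩, rfl⟩ := QuotientGroup.mk_surjective q
    have hq1 : (⟨c, hcN⟩ : N) ∉ K := fun e => by
      rw [(QuotientGroup.eq_one_iff _).mpr e, orderOf_one] at hqo
      norm_num at hqo
    have hc2 : (⟨c, hcN⟩ * ⟨c, hcN⟩ : N) ∈ K := by
      have h2 := pow_orderOf_eq_one ((⟨c, hcN⟩ : N) : N ⧸ K)
      rw [hqo, sq, ← QuotientGroup.mk_mul] at h2
      exact (QuotientGroup.eq_one_iff _).mp h2
    -- an element outside the four-group moved within its coset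
    obtain ⟨b, hbK, hbt⟩ : ∃ b : N, b ∉ K ∧ ∃ k ∈ K, t * (b : Q) * t = b * k := by
      set d : N := ⟨t * c * t, htN c hcN⟩ with hd
      have hcom : ((⟨c, hcN⟩ : N) : N ⧸ K) * (d : N ⧸ K) = (d : N ⧸ K) * (⟨c, hcN⟩ : N) :=
        (mem_center_iff.mp hqc _).symm
      by_cases hcd : ⟨c, hcN⟩ * d ∈ K
      · refine ⟨⟨c, hcN⟩, hq1, _, K.mul_mem (K.inv_mem hc2) hcd, ?_⟩
        simp only [Subgroup.coe_mul, Subgroup.coe_inv, hd]
        group
      · refine ⟨⟨c, hcN⟩ * d, hcd, (⟨c, hcN⟩ * d)⁻¹ * (d * ⟨c, hcN⟩), ?_, ?_⟩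
        · refine (QuotientGroup.eq).mp ?_
          rw [QuotientGroup.mk_mul, QuotientGroup.mk_mul, hcom]
        · simp only [Subgroup.coe_mul, Subgroup.coe_inv, hd]
          calc t * (c * (t * c * t)) * t = t * c * t * c * (t * t) := by simp only [mul_assoc]
            _ = t * c * t * c := by rw [ht, mul_one]
            _ = _ := by group
    obtain ⟨k, hk, hbk⟩ := hbt
    have hk2 : (k : Q) * k = 1 := by
      rcases hk with e | e | e | e <;> rw [e]
      exacts [one_mul 1, hz2, hw2, hu2]
    have hkt : Commute (k : Q) t := by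
      have h1 : (b : Q) = b * k * (t * k * t) := by
        calc (b : Q) = t * (t * b * t) * t := by
              simp only [mul_assoc]; simp [← mul_assoc t t, ht]
          _ = t * b * (t * t) * k * t := by rw [hbk, ht]; simp only [mul_assoc, one_mul]
          _ = (t * b * t) * (t * k * t) := by simp only [mul_assoc]
          _ = _ := by rw [hbk]
      have h2 : t * (k : Q) * t = k := by
        have h3 := (mul_left_cancel (a := (b : Q)) (b := 1)
          (c := (k : Q) * (t * k * t)) (by rw [mul_one, ← mul_assoc]; exact h1)).symm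
        rw [← inv_eq_of_mul_eq_one_right h3, inv_eq_of_mul_eq_one_right hk2]
      change (k : Q) * t = t * k
      conv_lhs => rw [← h2]
      rw [mul_assoc, ht, mul_one]
    have hcomm : ∀ e : N, (e : Q) * t = t * e → e ∈ K := fun e he => by
      by_cases h1 : (e : Q) = 1
      · exact Or.inl h1
      · exact Or.inr (Or.inl (huniq e e.2 z hzN he hzt h1 hz1))
    have hcomm' : ∀ e : N, t * (e : Q) * t = e → e ∈ K := fun e he => hcomm e (by
      conv_lhs => rw [← he]
      rw [mul_assoc, ht, mul_one])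
    by_cases hk1 : (k : Q) = 1
    · exact hbK (hcomm' b (by rw [hbk, hk1, mul_one]))
    · have hkz : (k : Q) = z := huniq k k.2 z hzN hkt hzt hk1 hz1
      have hbw : b * ⟨w, hwN⟩ ∈ K := hcomm' _ (by
        simp only [Subgroup.coe_mul]
        calc t * (b * w) * t = (t * b * t) * (t * w * t) := by
              simp only [mul_assoc]; simp [← mul_assoc t t, ht]
          _ = b * (z * u) := by rw [hbk, hkz, htw, mul_assoc]
          _ = b * w := by rw [← hwu, mul_assoc, hu2, mul_one])
      have hwK : (⟨w, hwN⟩ : N) ∈ K := Or.inr (Or.inr (Or.inl rfl))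
      exact hbK ((K.mul_mem_cancel_right hwK).mp hbw)
  refine ⟨z, w, hzN, hwN, hz1, hz2, hzt, rfl, htw, by rw [htw, hwu], fun a ha => ?_,
    fun e => hz1 ?_, ?_, by rw [htw]; exact hall⟩
  · rcases hall a ha with e | e | e | e <;> rw [e]
    exacts [one_mul 1, hz2, hw2, hu2]
  · rw [htw] at e
    rw [← hwu, e, hw2]
  · -- the four elements are distinct
    refine le_antisymm ?_ ?_
    · exact card_le_four z w u hall hzN hwN huN
    · haveI := Fintype.ofFinite N
      rw [Nat.card_eq_fintype_card]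
      have hzw' : z ≠ w := fun e => hz1 (hfix z hzN (by
        refine (show Commute l z from mul_inv_eq_iff_eq_mul.mp ?_).symm
        exact e.symm))
      have hzu' : z ≠ u := fun e => hzw' (by
        calc z = l * u * l⁻¹ := hlu.symm
          _ = _ := by rw [← e])
      have hwu' : w ≠ u := fun e => hz1 (by rw [← hwu, e, hu2])
      have hw1 : w ≠ 1 := fun e => hz1 (by
        have := congrArg (fun x => l⁻¹ * x * l) e
        rw [hw] at this
        simpa [mul_assoc] using this)
      have hu1 : u ≠ 1 := fun e => hzw' (by rw [← hwu, e, mul_one])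
      calc 4 = ({1, ⟨z, hzN⟩, ⟨w, hwN⟩, ⟨u, huN⟩} : Finset N).card := by
            rw [Finset.card_insert_of_notMem, Finset.card_insert_of_notMem,
              Finset.card_insert_of_notMem, Finset.card_singleton] <;>
              simp [Subtype.ext_iff, hz1.symm, hw1.symm, hu1.symm, hzw', hzu', hwu']
        _ ≤ _ := Finset.card_le_univ _

/-- In the alternating group of degree five every involution centralises another one. -/
theorem a5_fusion : ∀ t : alternatingGroup (Fin 5), t * t = 1 → t ≠ 1 →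
    ∃ c d : alternatingGroup (Fin 5), c * t * c⁻¹ ≠ t ∧ c * t * c⁻¹ * t = t * (c * t * c⁻¹) ∧
      d * t * d⁻¹ = c * t * c⁻¹ * t := by decide +kernel

/-- A group with a self-centralising element of order three inverted by an involution with small
centraliser: the two-core is a four-group with complement of order six modulo odd order. -/
theorem exists_core_quot [Finite Q] {t l : Q} (ht : t * t = 1) (ht1 : t ≠ 1)
    (hl : orderOf l = 3) (hlt : t * l * t = l⁻¹)
    (hcl : ∀ g, Commute g l → g ∈ zpowers l)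
    (n : Q) (hnt : Commute n t) (hn1 : n ≠ 1) (hnet : n ≠ t)
    (hct : ∀ g, Commute g t → g = 1 ∨ g = t ∨ g = n ∨ g = n * t)
    (hkey : ∀ c d : Q, Commute (c * t * c⁻¹) t → c * t * c⁻¹ ≠ t →
      d * t * d⁻¹ = c * t * c⁻¹ * t → False) :
    ∃ U : Subgroup Q, U.Normal ∧ IsPGroup 2 U ∧ t ∉ U ∧ ¬ 16 ∣ Nat.card Q ∧ Nat.card U = 4 ∧
      ∃ z w : Q, z ∈ U ∧ w ∈ U ∧ z ≠ 1 ∧ Commute z t ∧ w = l * z * l⁻¹ ∧
        t * w * t = l⁻¹ * z * l ∧ w * (t * w * t) = z ∧ (∀ a ∈ U, a * a = 1) ∧ t * w * t ≠ w ∧
        ∀ a ∈ U, a = 1 ∨ a = z ∨ a = w ∨ a = t * w * t := by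
  classical
  haveI : Fact (Nat.Prime 2) := ⟨Nat.prime_two⟩
  haveI : Fact (Nat.Prime 3) := ⟨Nat.prime_three⟩
  have htinv : t⁻¹ = t := inv_eq_of_mul_eq_one_right ht
  have hl3 : l * l * l = 1 := by
    have := pow_orderOf_eq_one l
    rwa [hl, pow_succ, sq] at this
  have hot : orderOf t = 2 := orderOf_eq_prime (by rw [sq, ht]) ht1
  -- the centraliser of the involution
  have hCt : Nat.card (centralizer ({t} : Set Q)) = 4 := by
    have hmem : ∀ g, g ∈ centralizer ({t} : Set Q) ↔ g = 1 ∨ g = t ∨ g = n ∨ g = n * t := fun g => by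
      rw [mem_centralizer_singleton_iff]
      refine ⟨fun h => hct g h, ?_⟩
      rintro (rfl | rfl | rfl | rfl)
      exacts [Commute.one_left t, Commute.refl _, hnt, hnt.mul_left (Commute.refl t)]
    have hnt1 : n * t ≠ 1 := fun e => hnet (by
      rw [← htinv, eq_inv_of_mul_eq_one_left e])
    rw [← SetLike.coe_sort_coe, Nat.card_coe_set_eq, show ((centralizer ({t} : Set Q)) : Set Q) =
      (({1, t, n, n * t} : Finset Q) : Set Q) from Set.ext fun g => by simp [hmem], Set.ncard_coe_finset,
      Finset.card_insert_of_notMem, Finset.card_insert_of_notMem, Finset.card_insert_of_notMem,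
      Finset.card_singleton]
    · simpa using ht1
    · simp [Ne.symm hnet, Ne.symm hn1, hn1]
    · simp [Ne.symm ht1, Ne.symm hn1, Ne.symm hnt1]
  have hfixN : ∀ N : Subgroup Q, IsPGroup 2 N → ∀ a ∈ N, Commute a l → a = 1 := by
    intro N hp a ha hc
    obtain ⟨k, hk⟩ := hp ⟨a, ha⟩
    have h1 : a ^ 2 ^ k = 1 := congrArg Subtype.val hk
    have h2 : a ^ 3 = 1 := by
      obtain ⟨i, rfl⟩ := mem_zpowers_iff.mp (hcl a hc)
      rw [← zpow_natCast, ← zpow_mul, mul_comm, zpow_mul, zpow_natCast, ← hl, pow_orderOf_eq_one,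
        one_zpow]
    have := pow_gcd_eq_one.2 ⟨h1, h2⟩
    rwa [(Nat.Coprime.pow_left k (by norm_num : (2 : ℕ).Coprime 3)).gcd_eq_one, pow_one] at this
  have huniqN : ∀ N : Subgroup Q, t ∉ N → ∀ a ∈ N, ∀ b ∈ N, Commute a t → Commute b t →
      a ≠ 1 → b ≠ 1 → a = b := by
    intro N htN a ha b hb hat hbt ha1 hb1
    have hat' : a ≠ t := fun e => htN (e ▸ ha)
    have hbt' : b ≠ t := fun e => htN (e ▸ hb)
    rcases hct a hat with h | h | h | h <;> rcases hct b hbt with h' | h' | h' | h'
    all_goals first | exact absurd h ha1 | exact absurd h' hb1 | exact absurd h hat' |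
      exact absurd h' hbt' | exact h.trans h'.symm | skip
    · exact absurd (show t ∈ N from by
        have := mul_mem (inv_mem ha) hb
        rwa [h, h', inv_mul_cancel_left] at this) htN
    · exact absurd (show t ∈ N from by
        have := mul_mem (inv_mem hb) ha
        rwa [h, h', inv_mul_cancel_left] at this) htN
  have hC : centralizer ((zpowers l : Subgroup Q) : Set Q) = zpowers l := by
    refine le_antisymm (fun g hg => hcl g ?_) (fun g hg => mem_centralizer_iff.mpr fun y hy => ?_)
    · exact ((mem_centralizer_iff.mp hg) l (mem_zpowers l)).symm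
    · obtain ⟨i, rfl⟩ := mem_zpowers_iff.mp hg
      obtain ⟨j, rfl⟩ := mem_zpowers_iff.mp hy
      exact ((Commute.refl l).zpow_zpow j i)
  rcases Cfsg.Agent.S3331.result (zpowers l) (by rw [Nat.card_zpowers, hl]) hC with
    ⟨N, hN, hnil, hcop, hquot⟩ | ⟨N, hN, -, hexp, ⟨e⟩⟩ | ⟨⟨e⟩⟩
  · -- nilpotent kernel
    haveI := hN
    haveI := hnil
    have hlN : l ∉ N := fun h => by
      have h3 := Subgroup.orderOf_dvd_natCard N h
      rw [hl] at h3
      exact (Nat.prime_three.coprime_iff_not_dvd.mp hcop.symm) h3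
    have htlQ : ((t : Q) : Q ⧸ N) * l * t = (l : Q ⧸ N)⁻¹ := by
      rw [← QuotientGroup.mk_mul, ← QuotientGroup.mk_mul, ← QuotientGroup.mk_inv, hlt]
    have h6 : Nat.card (Q ⧸ N) = 6 := by
      rcases hquot with h | ⟨⟨e⟩⟩
      · exfalso
        have hd := orderOf_dvd_natCard ((t : Q) : Q ⧸ N)
        have hd2 : orderOf ((t : Q) : Q ⧸ N) ∣ 2 := hot ▸ orderOf_map_dvd (QuotientGroup.mk' N) t
        rw [h] at hd
        have := Nat.dvd_gcd hd2 hd
        rw [show Nat.gcd 2 3 = 1 from rfl] at this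
        have ht' := orderOf_eq_one_iff.mp (Nat.dvd_one.mp this)
        rw [ht', one_mul, mul_one] at htlQ
        refine hlN ((QuotientGroup.eq_one_iff _).mp ?_)
        have h3 : ((l : Q) : Q ⧸ N) * l * l = 1 := by
          rw [← QuotientGroup.mk_mul, ← QuotientGroup.mk_mul, hl3, QuotientGroup.mk_one]
        rwa [mul_eq_one_iff_eq_inv.mpr htlQ, one_mul] at h3
      · rw [Nat.card_congr e.toEquiv, Nat.card_perm, Nat.card_eq_fintype_card, Fintype.card_fin]
        rfl
    have htN : t ∉ N := fun h => hlN (by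
      refine (QuotientGroup.eq_one_iff _).mp ?_
      rw [(QuotientGroup.eq_one_iff _).mpr h, one_mul, mul_one] at htlQ
      have h3 : ((l : Q) : Q ⧸ N) * l * l = 1 := by
        rw [← QuotientGroup.mk_mul, ← QuotientGroup.mk_mul, hl3, QuotientGroup.mk_one]
      rwa [mul_eq_one_iff_eq_inv.mpr htlQ, one_mul] at h3)
    obtain ⟨P⟩ : Nonempty (Sylow 2 N) := inferInstance
    haveI hPn : (P : Subgroup N).Normal := inferInstance
    haveI : (P : Subgroup N).Characteristic := P.characteristic_of_normal hPn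
    set U := (P : Subgroup N).map N.subtype with hU
    haveI hUn : U.Normal := inferInstance
    have hUp : IsPGroup 2 U := P.2.map _
    have htU : t ∉ U := fun h => by obtain ⟨a, -, e⟩ := h; exact htN (e ▸ a.2)
    have hcardU : Nat.card U = Nat.card (P : Subgroup N) :=
      card_map_of_injective N.subtype_injective
    have hidx : ¬ 2 ∣ (P : Subgroup N).index := P.not_dvd_index
    have hQ : Nat.card Q = Nat.card U * ((P : Subgroup N).index * 6) := by
      rw [← N.card_mul_index, ← (P : Subgroup N).card_mul_index, hcardU, N.index_eq_card,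
        h6, mul_assoc]
    have h4Q : 4 ∣ Nat.card Q := hCt ▸ Subgroup.card_subgroup_dvd_card _
    have hUne : U ≠ ⊥ := fun h => by
      rw [hQ, h, Subgroup.card_bot, one_mul] at h4Q
      exact hidx (by omega)
    obtain ⟨z, w, hz, hw, hz1, -, hzt, hw', htw, hwz, hsq, hne, h4, hall⟩ :=
      four_core ht hl3 hlt U hUp (hfixN U hUp) (huniqN U htU) hUne
    refine ⟨U, hUn, hUp, htU, fun h16 => ?_, h4, z, w, hz, hw, hz1, hzt, hw', htw, hwz, hsq, hne, hall⟩
    rw [hQ, h4] at h16
    exact hidx (by omega)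
  · -- alternating quotient
    haveI := hN
    exfalso
    have hlN : l ∉ N := fun h => by
      have h2 := hexp l h
      have := orderOf_dvd_of_pow_eq_one h2
      rw [hl] at this
      norm_num at this
    have hp : IsPGroup 2 N := fun a => ⟨1, Subtype.ext (by
      rw [SubgroupClass.coe_pow, pow_one, hexp a a.2, OneMemClass.coe_one])⟩
    have htN : t ∉ N := fun h => hlN (by
      have h1 : t * l * t⁻¹ * l⁻¹ ∈ N := by
        rw [mul_assoc t, mul_assoc t]
        exact mul_mem h (‹N.Normal›.conj_mem _ (inv_mem h) l)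
      rw [htinv, hlt, ← mul_inv_rev, ← inv_mem_iff, inv_inv] at h1
      rw [show l = (l * l)⁻¹ from eq_inv_of_mul_eq_one_right hl3]
      exact inv_mem h1)
    by_cases hNb : N = ⊥
    · subst hNb
      set f := (QuotientGroup.quotientBot (G := Q)).symm.trans e with hf
      obtain ⟨c, d, hne, hcom, hd⟩ := a5_fusion (f t) (by rw [← map_mul, ht, map_one])
        (fun h => ht1 (f.injective (h.trans (map_one f).symm)))
      have e1 : f (f.symm c * t * (f.symm c)⁻¹) = c * f t * c⁻¹ := by simp
      refine hkey (f.symm c) (f.symm d) (f.injective ?_) (fun h => hne ?_) (f.injective ?_)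
      · rw [map_mul f _ t, map_mul f t, e1]; exact hcom
      · rw [← e1, h]
      · rw [map_mul f _ t, e1]; simp [hd]
    · obtain ⟨z, w, hz, -, hz1, -, -, -, -, -, -, -, h4, -⟩ :=
        four_core ht hl3 hlt N hp (hfixN N hp) (huniqN N htN) hNb
      let ψ : Q →* Equiv.Perm N := (MulAction.toPermHom (MulAut N) N).comp MulAut.conjNormal
      have hNker : N ≤ ψ.ker := by
        intro a ha
        refine Equiv.ext fun b => Subtype.ext ?_
        change a * (b : Q) * a⁻¹ = b
        have hab := hexp (a * b) (mul_mem ha b.2)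
        rw [sq] at hab
        have ha2 := hexp a ha
        have hb2 := hexp b b.2
        rw [sq] at ha2 hb2
        rw [inv_eq_of_mul_eq_one_right ha2]
        calc a * (b : Q) * a = (a * b * (a * b)) * (b : Q)⁻¹ := by group
          _ = b := by rw [hab, one_mul, inv_eq_of_mul_eq_one_right hb2]
      let χ : alternatingGroup (Fin 5) →* Equiv.Perm N :=
        (QuotientGroup.lift N ψ hNker).comp e.symm.toMonoidHom
      have hker : χ.ker = ⊤ := by
        haveI := alternatingGroup.isSimpleGroup_five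
        refine ((inferInstance : χ.ker.Normal).eq_bot_or_eq_top).resolve_left fun h => ?_
        have := Nat.card_le_card_of_injective χ ((MonoidHom.ker_eq_bot_iff χ).mp h)
        rw [Nat.card_perm, h4, Nat.card_eq_fintype_card] at this
        have h60 : Fintype.card (alternatingGroup (Fin 5)) = 60 := by decide +kernel
        rw [h60] at this
        norm_num [Nat.factorial] at this
      have hlz : ψ l = 1 := by
        have h1 : χ (e (QuotientGroup.mk l)) = 1 :=
          MonoidHom.mem_ker.mp (hker.symm ▸ mem_top (e (QuotientGroup.mk l)))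
        simpa [χ] using h1
      refine hz1 (hfixN N hp z hz ?_)
      have h2 : l * z * l⁻¹ = z := by
        have := congrArg Subtype.val (DFunLike.congr_fun hlz ⟨z, hz⟩)
        simpa [ψ] using this
      exact (mul_inv_eq_iff_eq_mul.mp h2).symm
  · -- the simple group of order 168
    exfalso
    haveI : Fact (Nat.Prime 7) := ⟨by norm_num⟩
    have h168 : Nat.card Q = 168 := by
      rw [Nat.card_congr e.toEquiv]
      have hc := CfsgLib.SL2.card_PSL_odd (F := ZMod 7) (by rw [ZMod.card]; decide)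
      rw [ZMod.card] at hc
      omega
    haveI : IsSimpleGroup (Matrix.ProjectiveSpecialLinearGroup (Fin 2) (ZMod 7)) :=
      CfsgLib.Classical.Linear.isSimpleGroup_psl_fin le_rfl
        (fun _ => by rw [Nat.card_zmod]; norm_num)
    haveI : Nontrivial Q := e.toEquiv.nontrivial
    haveI : IsSimpleGroup Q := IsSimpleGroup.isSimpleGroup_of_surjective e.symm.toMonoidHom
      e.symm.surjective
    obtain ⟨T, hT⟩ := Simple168.exists_sylow_of_involution h168 hot
    have hc := Simple168.zc_centralizer h168 T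
    rw [hT] at hc
    rw [hc] at hCt
    have h8 : 2 ^ 3 ∣ Nat.card (T : Subgroup Q) := T.pow_dvd_card_of_pow_dvd_card (by rw [h168]; norm_num)
    rw [hCt] at h8
    norm_num at h8

end CfsgLib.SymNine40.CaseOne
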