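import Cfsg.Agent.SymNine40.CaseOneLocal
import Cfsg.Agent.SymNine40.CaseOneQuot
import Cfsg.Agent.SymEight40.General
import Cfsg.Agent.Transfer.ThompsonTransfer
import Cfsg.Agent.S0205

/-!
The configuration with linear parts the permutations and their negatives.

* `Ctx.case_one_of`: the translations are normal.
-/

set_option autoImplicit false
set_option maxRecDepth 20000

open Subgroup

namespace CfsgLib.SymNine40

open Mw

/-- A vector inverted by the exchange of the first two coordinates. -/
def lv : Vec := (1, 2, 0)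

theorem k1_facts : Ok 1 piM.w ∧ Ok 1 (lin 44).w ∧ Ok 1 (lin 42).w ∧ piM * piM = 1 ∧
    lin 44 * lin 44 = 1 ∧ piM * lin 44 = lin 42 ∧ piM * lin 44 = lin 44 * piM ∧ piM ≠ 1 ∧
    lin 44 ≠ 1 ∧ lin 42 ≠ 1 ∧ piM ≠ lin 44 ∧ piM ≠ lin 42 ∧ lin 44 ≠ lin 42 ∧
    tr lv * lin 44 = lin 44 * tr lv ∧ piM * tr lv * piM = (tr lv)⁻¹ ∧ lv ≠ 0 ∧
    tr xv * lin 44 ≠ lin 44 * tr xv ∧ tr xv = tr xv * tr xv * (tr xv * tr xv) := by decide +kernel

theorem vfour_table : ∀ m : Mw, Ok 1 m.w → m * piM = piM * m → m * lin 44 = lin 44 * m →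
    m = 1 ∨ m = piM ∨ m = lin 44 ∨ m = lin 42 := by decide +kernel

theorem pi_not_v_table : ∀ n : Mw, Ok 1 n.w → n * piM * n⁻¹ ≠ lin 44 := by decide +kernel

theorem pi_fix_table : ∀ n : Mw, Ok 1 n.w → n * piM = piM * n → n * lin 44 * n⁻¹ ≠ lin 42 := by
  decide +kernel

theorem pi_cube_table : ∀ m : Mw, Ok 1 m.w → m * piM = piM * m → m * m * m = 1 → m.w = 0 := by
  decide +kernel

theorem lv_cent_table : ∀ m : Mw, Ok 1 m.w → m * tr lv = tr lv * m → m * lin 44 = lin 44 * m →
    ∃ i : Fin 3, m = tr (i.val • lv) ∨ m = tr (i.val • lv) * lin 44 := by decide +kernel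

namespace Ctx

set_option maxHeartbeats 2000000

variable {G : Type*} [Group G]

theorem case_one_of [Finite G] (C : Ctx G 1) (hall : C.AllLe) : C.J.Normal := by
  classical
  haveI : Fact (Nat.Prime 2) := ⟨Nat.prime_two⟩
  haveI : Fact (Nat.Prime 3) := ⟨Nat.prime_three⟩
  obtain ⟨hp, hv, hm, hpp, hvv, hpvm, hpvc, hp1, hv1, hm1, hpv, hpm, hvm, hlvc, hlvi, hlv0, hxv,
    hxsq⟩ := k1_facts
  have hok : ∀ u : Vec, Ok 1 (tr u).w := fun u => ok_one 1
  have hCle : ∀ u : Vec, u ≠ 0 → C.CentLe u := fun u hu => hall u hu (fun h => absurd h (by decide))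
  set p := C.X piM with hp_def
  set v := C.X (lin 44) with hv_def
  set mi := C.X (lin 42) with hm_def
  have hp2 : p * p = 1 := by rw [hp_def, ← C.X_mul hp hp, hpp, C.X_one]
  have hv2 : v * v = 1 := by rw [hv_def, ← C.X_mul hv hv, hvv, C.X_one]
  have hpvE : p * v = mi := by rw [hp_def, hv_def, hm_def, ← C.X_mul hp hv, hpvm]
  have hpvC : Commute p v := (C.X_commute hp hv).mpr hpvc
  have hvp : v * p = mi := by rw [← hpvC.eq, hpvE]
  have hm2 : mi * mi = 1 := by
    rw [← hpvE, mul_assoc p v, ← mul_assoc v p v, ← hpvC.eq, mul_assoc p v v, hv2, mul_one, hp2]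
  have hXne : ∀ {a b : Mw}, Ok 1 a.w → Ok 1 b.w → a ≠ b → C.X a ≠ C.X b := fun ha hb h =>
    C.X_ne ha hb h
  have ep1 : p ≠ 1 := fun e => hp1 (C.X_eq_one hp e)
  have ev1 : v ≠ 1 := fun e => hv1 (C.X_eq_one hv e)
  have em1 : mi ≠ 1 := fun e => hm1 (C.X_eq_one hm e)
  have epv : p ≠ v := hXne hp hv hpv
  have epm : p ≠ mi := hXne hp hm hpm
  have evm : v ≠ mi := hXne hv hm hvm
  have hpN : ∀ g, Commute g p → g ∈ C.N := fun g hg => C.cent_pi_one hall hg
  -- the four-group
  have hfour : ∀ g, Commute g p → Commute g v → g = 1 ∨ g = p ∨ g = v ∨ g = mi := by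
    intro g hgp hgv
    obtain ⟨k, hk, rfl⟩ := C.mem_N.mp (hpN g hgp)
    rcases vfour_table k hk ((C.X_commute hk hp).mp hgp) ((C.X_commute hk hv).mp hgv) with
      e | e | e | e <;> subst e
    exacts [Or.inl C.X_one, Or.inr (Or.inl rfl), Or.inr (Or.inr (Or.inl rfl)),
      Or.inr (Or.inr (Or.inr rfl))]
  -- the exchange is not conjugate to its negative
  have hnpv : ∀ g, g * p * g⁻¹ ≠ v := by
    intro g e
    have h1 : Commute (g⁻¹ * C.T lv * g) p := by
      have hc : Commute (C.T lv) v := (C.X_commute (hok lv) hv).mpr hlvc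
      have := SymEight40.commute_conj hc g⁻¹
      rwa [← e, inv_inv, show g⁻¹ * (g * p * g⁻¹) * g = p by group] at this
    obtain ⟨k, hk, hkg⟩ := C.mem_N.mp (hpN _ h1)
    have hk3 : k * k * k = 1 := by
      refine C.X_eq_one (ok_mul 1 _ _ (ok_mul 1 _ _ hk hk) hk) ?_
      rw [C.X_mul (ok_mul 1 _ _ hk hk) hk, C.X_mul hk hk, hkg,
        show g⁻¹ * C.T lv * g * (g⁻¹ * C.T lv * g) * (g⁻¹ * C.T lv * g) =
          g⁻¹ * (C.T lv * C.T lv * C.T lv) * g by group, C.T_cube, mul_one, inv_mul_cancel]
    have hkw := pi_cube_table k hk ((C.X_commute hk hp).mp (by rw [hkg]; exact h1)) hk3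
    have hkT : C.T k.v = g⁻¹ * C.T lv * g := by rw [← hkg, T, tr, ← hkw]
    have e2 : g * C.T k.v * g⁻¹ = C.T lv := by rw [hkT]; group
    have hk0 : k.v ≠ 0 := fun h => by
      rw [h, C.T_zero, mul_one, mul_inv_cancel] at e2
      exact hlv0 (C.T_inj (e2.symm.trans C.T_zero.symm))
    obtain ⟨n, hn, rfl⟩ := C.mem_N.mp (C.mem_N_of_conj_T (hCle _ hk0) e2)
    rw [hp_def, hv_def, C.X_conj hn hp] at e
    exact pi_not_v_table n hn (C.X_inj (ok_mul 1 _ _ (ok_mul 1 _ _ hn hp) (ok_inv 1 _ hn)) hv e)
  have hfix : ∀ g, g * p * g⁻¹ = p → g * v * g⁻¹ ≠ mi := by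
    intro g hg e
    obtain ⟨n, hn, rfl⟩ := C.mem_N.mp (hpN g (SymEight40.commute_of_conj_eq hg))
    rw [hv_def, hm_def, C.X_conj hn hv] at e
    exact pi_fix_table n hn ((C.X_commute hn hp).mp (SymEight40.commute_of_conj_eq hg))
      (C.X_inj (ok_mul 1 _ _ (ok_mul 1 _ _ hn hv) (ok_inv 1 _ hn)) hm e)
  have hinj : ∀ (g : G) {a b : G}, g * a * g⁻¹ = g * b * g⁻¹ → a = b := fun g a b h =>
    mul_left_cancel (mul_right_cancel h)
  have hne1 : ∀ (g : G) {a : G}, a ≠ 1 → g * a * g⁻¹ ≠ 1 := fun g a ha e =>
    ha (hinj g (e.trans (by group)))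
  -- normalisers of the four-group
  have hnorm : ∀ g, (g * p * g⁻¹ = p ∨ g * p * g⁻¹ = v ∨ g * p * g⁻¹ = mi) →
      (g * v * g⁻¹ = p ∨ g * v * g⁻¹ = v ∨ g * v * g⁻¹ = mi) →
      (Commute g p ∧ Commute g v) ∨ (g * p * g⁻¹ = mi ∧ g * v * g⁻¹ = v ∧ g * mi * g⁻¹ = p) := by
    intro g h1 h2
    have hvp' : g * v * g⁻¹ ≠ p := fun e => hnpv g⁻¹ (by rw [← e]; group)
    rcases h1 with h1 | h1 | h1
    · left
      refine ⟨SymEight40.commute_of_conj_eq h1, SymEight40.commute_of_conj_eq ?_⟩
      rcases h2 with h2 | h2 | h2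
      exacts [absurd h2 hvp', h2, absurd h2 (hfix g h1)]
    · exact absurd h1 (hnpv g)
    · right
      have h2' : g * v * g⁻¹ = v := by
        rcases h2 with h2 | h2 | h2
        exacts [absurd h2 hvp', h2, absurd (hinj g (h1.trans h2.symm)) epv]
      refine ⟨h1, h2', ?_⟩
      calc g * mi * g⁻¹ = (g * p * g⁻¹) * (g * v * g⁻¹) := by rw [← hpvE]; group
        _ = mi * v := by rw [h1, h2']
        _ = p := by rw [← hpvE, mul_assoc, hv2, mul_one]
  let V : Subgroup G := centralizer ({p} : Set G) ⊓ centralizer ({v} : Set G)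
  have hV : ∀ g, g ∈ V ↔ Commute g p ∧ Commute g v := fun g =>
    Iff.and mem_centralizer_singleton_iff mem_centralizer_singleton_iff
  have hpV : p ∈ V := (hV p).mpr ⟨Commute.refl p, hpvC⟩
  have hvV : v ∈ V := (hV v).mpr ⟨hpvC.symm, Commute.refl v⟩
  have hV2 : IsPGroup 2 V := fun g => ⟨1, Subtype.ext (by
    rw [SubgroupClass.coe_pow, pow_one, sq, OneMemClass.coe_one]
    obtain ⟨g1, g2⟩ := (hV g).mp g.2
    rcases hfour g g1 g2 with e | e | e | e <;> rw [e]
    exacts [one_mul 1, hp2, hv2, hm2])⟩
  obtain ⟨P, hVP⟩ := hV2.exists_le_sylow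
  by_cases hPV : (P : Subgroup G) ≤ V
  · -- the four-group is a Sylow subgroup
    have hnc : normalizer ((P : Subgroup G) : Set G) ≤ centralizer ((P : Subgroup G) : Set G) := by
      intro g hg
      have himg : ∀ a ∈ V, a ≠ 1 → g * a * g⁻¹ = p ∨ g * a * g⁻¹ = v ∨ g * a * g⁻¹ = mi := by
        intro a ha ha1
        obtain ⟨g1, g2⟩ := (hV _).mp (hPV ((mem_normalizer_iff.mp hg a).mp (hVP ha)))
        exact (hfour _ g1 g2).resolve_left (hne1 g ha1)
      rcases hnorm g (himg p hpV ep1) (himg v hvV ev1) with ⟨g1, g2⟩ | ⟨g1, g2, g3⟩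
      · refine mem_centralizer_iff.mpr fun a ha => ?_
        obtain ⟨a1, a2⟩ := (hV a).mp (hPV ha)
        rcases hfour a a1 a2 with e | e | e | e <;> rw [e]
        exacts [(Commute.one_left g).eq, g1.symm.eq, g2.symm.eq,
          by rw [← hpvE]; exact (g1.mul_right g2).symm.eq]
      · exfalso
        have hsq : g * g ∈ V := by
          refine (hV _).mpr ⟨SymEight40.commute_of_conj_eq ?_, SymEight40.commute_of_conj_eq ?_⟩
          · rw [show g * g * p * (g * g)⁻¹ = g * (g * p * g⁻¹) * g⁻¹ by group, g1, g3]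
          · rw [show g * g * v * (g * g)⁻¹ = g * (g * v * g⁻¹) * g⁻¹ by group, g2, g2]
        obtain ⟨k, hk⟩ := hV2 ⟨_, hsq⟩
        have hgp : IsPGroup 2 (zpowers g) := by
          refine IsPGroup.iff_card.mpr ?_
          have hd : orderOf g ∣ 2 ^ (k + 1) := orderOf_dvd_of_pow_eq_one (by
            rw [pow_succ', pow_mul, sq]
            exact congrArg Subtype.val hk)
          obtain ⟨j, -, hj⟩ := (Nat.dvd_prime_pow Nat.prime_two).mp hd
          exact ⟨j, by rw [Nat.card_zpowers, hj]⟩
        have h := (le_of_eq (IsPGroup.inf_normalizer_sylow hgp P)) ⟨mem_zpowers g, hg⟩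
        obtain ⟨g4, -⟩ := (hV g).mp (hPV (mem_inf.mp h).2)
        exact epm ((SymEight40.conj_eq_of_commute g4).symm.trans g1)
    obtain ⟨M, hMn, hM⟩ := Transfer.exists_isComplement'
      (Transfer.hasNormalPComplement_of_normalizer_le_centralizer P hnc) P
    haveI := hMn
    have hodd : Odd (Nat.card M) := by
      rw [← Nat.not_even_iff_odd, even_iff_two_dvd]
      exact hM.index_eq_card ▸ P.not_dvd_index
    refine C.normal_of_solvable M (Cfsg.Agent.S0205.result hodd) fun hb => ?_
    have h3 : (P : Subgroup G) = ⊤ := by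
      have := hM
      rw [hb] at this
      exact Subgroup.isComplement'_bot_left.mp this
    obtain ⟨-, hc⟩ := (hV (C.T xv)).mp (hPV (h3.symm ▸ mem_top _))
    exact hxv ((C.X_commute (hok _) hv).mp hc)
  · -- a larger Sylow subgroup
    have hlt : V.subgroupOf (P : Subgroup G) < ⊤ := by
      rw [lt_top_iff_ne_top, Ne, Subgroup.subgroupOf_eq_top]
      exact hPV
    haveI : Group.IsNilpotent (P : Subgroup G) := P.2.isNilpotent
    obtain ⟨n', hn', hn'V⟩ := SetLike.exists_of_lt
      ((Group.normalizerCondition_of_isNilpotent (G := (P : Subgroup G))) _ hlt)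
    set n := (n' : G) with hn_def
    have hnP : n ∈ (P : Subgroup G) := n'.2
    have himg : ∀ a ∈ V, a ≠ 1 → n * a * n⁻¹ = p ∨ n * a * n⁻¹ = v ∨ n * a * n⁻¹ = mi := by
      intro a ha ha1
      have := (mem_normalizer_iff.mp hn' ⟨a, hVP ha⟩).mp ha
      obtain ⟨g1, g2⟩ := (hV _).mp this
      exact (hfour _ g1 g2).resolve_left (hne1 n ha1)
    rcases hnorm n (himg p hpV ep1) (himg v hvV ev1) with h | ⟨hn1, hn2, hn3⟩
    · exact absurd ((hV n).mpr h) hn'V
    have hnv : Commute n v := SymEight40.commute_of_conj_eq hn2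
    -- the centre of the Sylow subgroup
    have hPv : ∀ a ∈ (P : Subgroup G), Commute a v := by
      haveI : Nontrivial (P : Subgroup G) :=
        (Subgroup.nontrivial_iff_ne_bot _).mpr fun h => ep1 (by
          have := hVP hpV; rw [h] at this; exact this)
      haveI := P.2.center_nontrivial
      obtain ⟨⟨⟨z, hzP⟩, hzc⟩, hz1⟩ := exists_ne (1 : center (P : Subgroup G))
      have hcz : ∀ a ∈ (P : Subgroup G), Commute a z := fun a ha =>
        congrArg Subtype.val (mem_center_iff.mp hzc ⟨a, ha⟩)
      have hz : z ≠ 1 := fun e => hz1 (Subtype.ext (Subtype.ext e))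
      rcases hfour z (hcz p (hVP hpV)).symm (hcz v (hVP hvV)).symm with e | e | e | e
      · exact absurd e hz
      · have := hcz n hnP
        rw [e] at this
        exact absurd ((SymEight40.conj_eq_of_commute this).symm.trans hn1) epm
      · exact fun a ha => e ▸ hcz a ha
      · have := hcz n hnP
        rw [e] at this
        exact absurd ((SymEight40.conj_eq_of_commute this).symm.trans hn3) epm.symm
    set Y := centralizer ({v} : Set G) with hY
    have hmemY : ∀ g, g ∈ Y ↔ Commute g v := fun g => mem_centralizer_singleton_iff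
    have hPY : (P : Subgroup G) ≤ Y := fun a ha => (hmemY a).mpr (hPv a ha)
    let vY : Y := ⟨v, (hmemY v).mpr (Commute.refl v)⟩
    let pY : Y := ⟨p, (hmemY p).mpr hpvC⟩
    let nY : Y := ⟨n, (hmemY n).mpr hnv⟩
    let lY : Y := ⟨C.T lv, (hmemY _).mpr ((C.X_commute (hok lv) hv).mpr hlvc)⟩
    set Zv := zpowers vY with hZv
    have hvY2 : vY * vY = 1 := Subtype.ext hv2
    have hvYc : ∀ g : Y, g * vY = vY * g := fun g => Subtype.ext ((hmemY g).mp g.2).eq
    have hZm : ∀ g : Y, g ∈ Zv ↔ g = 1 ∨ g = vY := by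
      intro g
      refine ⟨fun h => ?_, ?_⟩
      · obtain ⟨i, rfl⟩ := mem_zpowers_iff.mp h
        have h2 : vY ^ (2 : ℤ) = 1 := by rw [zpow_two]; exact hvY2
        rcases Int.even_or_odd i with ⟨j, rfl⟩ | ⟨j, rfl⟩
        · left; rw [← two_mul, zpow_mul, h2, one_zpow]
        · right; rw [zpow_add, zpow_mul, h2, one_zpow, one_mul, zpow_one]
      · rintro (rfl | rfl)
        exacts [one_mem _, mem_zpowers _]
    haveI hZn : Zv.Normal := ⟨fun a ha g => by
      rcases (hZm a).mp ha with rfl | rfl
      · simp [one_mem]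
      · rwa [hvYc g, mul_inv_cancel_right]⟩
    set π := QuotientGroup.mk' Zv with hπ
    have hπeq : ∀ a b : Y, π a = π b → (b : G) = (a : G) ∨ (b : G) = (a : G) * v := by
      intro a b h
      rcases (hZm _).mp (QuotientGroup.eq.mp h) with e | e
      · exact Or.inl (congrArg Subtype.val (inv_mul_eq_one.mp e)).symm
      · exact Or.inr (congrArg Subtype.val (inv_mul_eq_iff_eq_mul.mp e))
    have hπ1 : ∀ a : Y, π a = 1 ↔ (a : G) = 1 ∨ (a : G) = v := fun a => by
      rw [hπ, QuotientGroup.mk'_apply, QuotientGroup.eq_one_iff, hZm]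
      exact or_congr Subtype.ext_iff Subtype.ext_iff
    have hsq : ∀ a b : Y, π a = π b → (a : G) * a = 1 → (b : G) * b = 1 := by
      intro a b h ha
      rcases hπeq a b h with e | e <;> rw [e]
      · exact ha
      · have hc : Commute (a : G) v := (hmemY a).mp a.2
        rw [mul_assoc, ← mul_assoc v, ← hc.eq, mul_assoc (a : G) v v, hv2, mul_one, ha]
    set t := π pY with ht_def
    set l := π lY with hl_def
    have ht : t * t = 1 := by
      rw [ht_def, ← map_mul, show pY * pY = 1 from Subtype.ext hp2, map_one]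
    have ht1 : t ≠ 1 := fun e => ((hπ1 pY).mp e).elim ep1 epv
    have hl3 : orderOf l = 3 := by
      refine orderOf_eq_prime ?_ fun e => ?_
      · rw [hl_def, ← map_pow, show lY ^ 3 = 1 from Subtype.ext (by
          rw [SubgroupClass.coe_pow, pow_succ, sq]; exact C.T_cube lv), map_one]
      · rcases (hπ1 lY).mp e with h | h
        · exact hlv0 (C.T_inj (h.trans C.T_zero.symm))
        · have := C.T_cube lv
          rw [show C.T lv = v from h, hv2, one_mul] at this
          exact ev1 this
    have hlt' : t * l * t = l⁻¹ := by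
      rw [ht_def, hl_def, ← map_inv, ← map_mul, ← map_mul]
      refine congrArg π (Subtype.ext ?_)
      change p * C.T lv * p = (C.T lv)⁻¹
      rw [T, hp_def, ← C.X_inv (hok lv), ← C.X_mul hp (hok lv),
        ← C.X_mul (ok_mul 1 _ _ hp (hok lv)) hp, hlvi]
    have hcl : ∀ g, Commute g l → g ∈ zpowers l := by
      intro g hg
      obtain ⟨x, rfl⟩ := QuotientGroup.mk'_surjective Zv g
      have e : π (x * lY * x⁻¹) = π lY := by
        rw [map_mul, map_mul, map_inv]; exact mul_inv_eq_of_eq_mul hg.eq
      rcases hπeq _ _ e.symm with e' | e'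
      · have hc : Commute (x : G) (C.T lv) := mul_inv_eq_iff_eq_mul.mp e'
        obtain ⟨k, hk, hkx⟩ := C.mem_N.mp (hCle lv hlv0 x hc)
        obtain ⟨i, hi⟩ := lv_cent_table k hk
          ((C.X_commute hk (hok lv)).mp (by rw [hkx]; exact hc))
          ((C.X_commute hk hv).mp (by rw [hkx]; exact (hmemY x).mp x.2))
        refine mem_zpowers_iff.mpr ⟨(i.val : ℤ), ?_⟩
        rw [zpow_natCast, hl_def, ← map_pow]
        have hpow : ((lY ^ i.val : Y) : G) = C.X (tr (i.val • lv)) := by
          rw [SubgroupClass.coe_pow]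
          exact (C.T_nsmul i.val lv).symm
        refine QuotientGroup.eq.mpr ((hZm _).mpr ?_)
        rcases hi with hi | hi
        · left
          refine Subtype.ext ?_
          rw [Subgroup.coe_mul, Subgroup.coe_inv, hpow, ← hkx, hi, inv_mul_cancel]; rfl
        · right
          refine Subtype.ext ?_
          rw [Subgroup.coe_mul, Subgroup.coe_inv, hpow, ← hkx, hi, C.X_mul (hok _) hv,
            inv_mul_cancel_left]
      · exfalso
        have h3 : ((x * lY * x⁻¹ : Y) : G) * ((x * lY * x⁻¹ : Y) : G) *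
            ((x * lY * x⁻¹ : Y) : G) = 1 := by
          simp only [Subgroup.coe_mul, Subgroup.coe_inv]
          rw [show (x : G) * (lY : G) * (x : G)⁻¹ * ((x : G) * (lY : G) * (x : G)⁻¹) *
            ((x : G) * (lY : G) * (x : G)⁻¹) = (x : G) * ((lY : G) * lY * lY) * (x : G)⁻¹ by group,
            show (lY : G) * lY * lY = 1 from C.T_cube lv, mul_one, mul_inv_cancel]
        rw [e', show (lY : G) = C.T lv from rfl] at h3
        have hc : Commute (C.T lv) v := (C.X_commute (hok lv) hv).mpr hlvc
        have hp3 := hc.mul_pow 3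
        simp only [pow_succ, pow_zero, one_mul] at hp3
        rw [hp3, C.T_cube, hv2, one_mul, one_mul] at h3
        exact ev1 h3
    have hconjt : ∀ x : Y, Commute (π x) t →
        (x : G) * p * (x : G)⁻¹ = p ∨ (x : G) * p * (x : G)⁻¹ = mi := by
      intro x hx
      have e : π pY = π (x * pY * x⁻¹) := by
        rw [map_mul, map_mul, map_inv]; exact (mul_inv_eq_of_eq_mul hx.eq).symm
      rcases hπeq _ _ e with e' | e'
      · exact Or.inl e'
      · exact Or.inr (e'.trans hpvE)
    have hVimg : ∀ x : Y, Commute (x : G) p → π x = 1 ∨ π x = t := by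
      intro x hx
      rcases hfour x hx ((hmemY x).mp x.2) with e | e | e | e
      · exact Or.inl ((hπ1 x).mpr (Or.inl e))
      · exact Or.inr (congrArg π (Subtype.ext e : x = pY))
      · exact Or.inl ((hπ1 x).mpr (Or.inr e))
      · right
        rw [show x = pY * vY from Subtype.ext (e.trans hpvE.symm), map_mul,
          (hπ1 vY).mpr (Or.inr rfl), mul_one]
    have hnt : Commute (π nY) t := by
      refine mul_inv_eq_iff_eq_mul.mp ?_
      rw [ht_def, ← map_inv, ← map_mul, ← map_mul,
        show nY * pY * nY⁻¹ = pY * vY from Subtype.ext (hn1.trans hpvE.symm), map_mul,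
        (hπ1 vY).mpr (Or.inr rfl), mul_one]
    have hn1' : π nY ≠ 1 := fun e => ((hπ1 nY).mp e).elim
      (fun h => epm (by
        have h' : n * p * n⁻¹ = mi := hn1
        rw [show n = 1 from h, one_mul, inv_one, mul_one] at h'
        exact h'))
      (fun h => epm (by
        have h' : n * p * n⁻¹ = mi := hn1
        rw [show n = v from h, SymEight40.conj_eq_of_commute hpvC.symm] at h'
        exact h'))
    have hnet : π nY ≠ t := fun e => by
      have hc : Commute n p := by
        rcases hπeq pY nY e.symm with h | h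
        · rw [show n = p from h]
        · rw [show n = p * v from h]; exact (Commute.refl p).mul_left hpvC.symm
      exact epm ((SymEight40.conj_eq_of_commute hc).symm.trans hn1)
    have hct : ∀ g, Commute g t → g = 1 ∨ g = t ∨ g = π nY ∨ g = π nY * t := by
      intro g hg
      obtain ⟨x, rfl⟩ := QuotientGroup.mk'_surjective Zv g
      rcases hconjt x hg with e | e
      · rcases hVimg x (SymEight40.commute_of_conj_eq e) with h | h
        exacts [Or.inl h, Or.inr (Or.inl h)]
      · have hc : Commute ((nY⁻¹ * x : Y) : G) p := by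
          refine SymEight40.commute_of_conj_eq ?_
          simp only [Subgroup.coe_mul, Subgroup.coe_inv]
          calc (n⁻¹ * x) * p * (n⁻¹ * x)⁻¹ = n⁻¹ * ((x : G) * p * (x : G)⁻¹) * n := by group
            _ = n⁻¹ * (n * p * n⁻¹) * n := by rw [e, hn1]
            _ = p := by group
        rcases hVimg _ hc with h | h <;> rw [map_mul, map_inv] at h
        · exact Or.inr (Or.inr (Or.inl (inv_mul_eq_one.mp h).symm))
        · exact Or.inr (Or.inr (Or.inr (inv_mul_eq_iff_eq_mul.mp h)))
    have hkey : ∀ c d, Commute (c * t * c⁻¹) t → c * t * c⁻¹ ≠ t →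
        d * t * d⁻¹ = c * t * c⁻¹ * t → False := by
      intro c d hcom hne hd
      obtain ⟨x, rfl⟩ := QuotientGroup.mk'_surjective Zv c
      obtain ⟨y, rfl⟩ := QuotientGroup.mk'_surjective Zv d
      set q : Y := x * pY * x⁻¹ with hq
      have hqπ : π x * t * (π x)⁻¹ = π q := by rw [hq, ht_def, map_mul, map_mul, map_inv]
      have hq2 : (q : G) * q = 1 := SymEight40.conj_sq hp2 _
      have hr2 : ((q * pY : Y) : G) * ((q * pY : Y) : G) = 1 := by
        refine hsq (y * pY * y⁻¹) _ ?_ (SymEight40.conj_sq hp2 _)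
        rw [map_mul π q, ← hqπ, ← hd, ht_def, map_mul, map_mul, map_inv]
      have hc : Commute (q : G) p := by
        change (q : G) * p = p * q
        have h1 : ((q : G) * p) * ((q : G) * p) = 1 := hr2
        calc (q : G) * p = ((q : G) * p)⁻¹ := (inv_eq_of_mul_eq_one_right h1).symm
          _ = p * q := by rw [mul_inv_rev, SymEight40.inv_of_sq hp2, SymEight40.inv_of_sq hq2]
      rcases hVimg q hc with h | h
      · rw [← hqπ] at h
        exact ht1 (by
          calc t = (π x)⁻¹ * (π x * t * (π x)⁻¹) * π x := by group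
            _ = 1 := by rw [h, mul_one, inv_mul_cancel])
      · exact hne (hqπ.trans h)
    obtain ⟨U, hUn, hUp, htU, h16, hU4, z, w, hz, hw, hz1, hzt, hwdef, htw, hwz, hU2, hwne, hUall⟩ :=
      CaseOne.exists_core_quot ht ht1 hl3 hlt' hcl (π nY) hnt hn1' hnet hct hkey
    haveI := hUn
    -- the preimage has one involution
    have hUinv : ∀ x : Y, π x ∈ U → (x : G) * x = 1 → π x = 1 := by
      intro x hxU hx2
      by_contra hx1
      have hw' : ∃ y : Y, π y = w ∧ (y : G) * y = 1 := by
        rcases hUall _ hxU with h | h | h | h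
        · exact absurd h hx1
        · refine ⟨lY * x * lY⁻¹, by rw [map_mul, map_mul, map_inv, h, hwdef], ?_⟩
          simp only [Subgroup.coe_mul, Subgroup.coe_inv]
          exact SymEight40.conj_sq hx2 _
        · exact ⟨x, h, hx2⟩
        · refine ⟨pY * x * pY, ?_, ?_⟩
          · rw [map_mul, map_mul, h, ← ht_def,
              show t * (t * w * t) * t = (t * t) * w * (t * t) by simp only [mul_assoc],
              ht, one_mul, mul_one]
          · simp only [Subgroup.coe_mul]
            calc p * (x : G) * p * (p * x * p) = p * x * (p * p) * x * p := by simp only [mul_assoc]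
              _ = p * ((x : G) * x) * p := by rw [hp2, mul_one]; simp only [mul_assoc]
              _ = 1 := by rw [hx2, mul_one, hp2]
      obtain ⟨y, hyw, hy2⟩ := hw'
      have hlift : π (y * (pY * y * pY)) = z := by
        rw [map_mul, map_mul, map_mul, hyw, ← ht_def, hwz]
      have hz2 : ((y * (pY * y * pY) : Y) : G) * ((y * (pY * y * pY) : Y) : G) = 1 := by
        refine hsq (lY⁻¹ * y * lY) _ ?_ ?_
        · rw [hlift, map_mul, map_mul, map_inv, hyw, hwdef, ← hl_def]; group
        · simp only [Subgroup.coe_mul, Subgroup.coe_inv]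
          rw [show (lY : G)⁻¹ * (y : G) * (lY : G) * ((lY : G)⁻¹ * (y : G) * (lY : G)) =
            (lY : G)⁻¹ * ((y : G) * y) * (lY : G) by group, hy2, mul_one, inv_mul_cancel]
      set b : G := p * (y : G) * p with hb
      have hb2 : b * b = 1 := by
        rw [hb]
        calc p * (y : G) * p * (p * y * p) = p * y * (p * p) * y * p := by simp only [mul_assoc]
          _ = p * ((y : G) * y) * p := by rw [hp2, mul_one]; simp only [mul_assoc]
          _ = 1 := by rw [hy2, mul_one, hp2]
      have hyb : (y : G) * b = b * y := by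
        have h1 : ((y : G) * b) * ((y : G) * b) = 1 := hz2
        calc (y : G) * b = ((y : G) * b)⁻¹ := (inv_eq_of_mul_eq_one_right h1).symm
          _ = b * y := by rw [mul_inv_rev, SymEight40.inv_of_sq hb2, SymEight40.inv_of_sq hy2]
      have hc : Commute ((y * (pY * y * pY) : Y) : G) p := by
        change (y : G) * b * p = p * ((y : G) * b)
        calc (y : G) * b * p = b * y * p := by rw [hyb]
          _ = p * (y * b) := by rw [hb]; simp only [mul_assoc]
      rcases hVimg _ hc with h | h <;> rw [hlift] at h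
      exacts [hz1 h, htU (h ▸ hz)]
    set U' : Subgroup Y := U.comap π with hU'
    haveI : U'.Normal := Subgroup.Normal.comap hUn π
    have hYcard : Nat.card Y = 2 * Nat.card (Y ⧸ Zv) := by
      have hvo : orderOf vY = 2 := orderOf_eq_prime (by rw [sq, hvY2])
        (fun e => ev1 (congrArg Subtype.val e))
      rw [← Zv.card_mul_index, Subgroup.index_eq_card, hZv, Nat.card_zpowers, hvo]
    have hU'8 : Nat.card U' = 8 := by
      have h1 := U'.card_mul_index
      rw [hU', Subgroup.index_comap_of_surjective _ (QuotientGroup.mk'_surjective Zv), hYcard,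
        ← U.card_mul_index, hU4, ← mul_assoc] at h1
      exact Nat.eq_of_mul_eq_mul_right (Nat.pos_of_ne_zero U.index_ne_zero_of_finite) h1
    set UG := U'.map Y.subtype with hUG
    have hUG8 : Nat.card UG = 8 := by
      rw [hUG, card_map_of_injective Y.subtype_injective, hU'8]
    have hmemUG : ∀ x : Y, (x : G) ∈ UG ↔ π x ∈ U := by
      intro x
      refine ⟨?_, fun h => ⟨x, h, rfl⟩⟩
      rintro ⟨a, ha, e⟩
      rwa [Subtype.ext e] at ha
    have hUGP : UG ≤ (P : Subgroup G) := by
      have hp' : IsPGroup 2 U' := IsPGroup.of_card (n := 3) (by rw [hU'8]; norm_num)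
      set PY := P.subtype hPY with hPYdef
      have he : (PY : Subgroup Y) ⊔ U' = PY := PY.is_maximal'
        (PY.2.to_sup_of_normal_right hp') le_sup_left
      have hle : U' ≤ (PY : Subgroup Y) := he ▸ le_sup_right
      rintro _ ⟨a, ha, rfl⟩
      exact hle ha
    have hpUG : p ∉ UG := fun h => htU ((hmemUG pY).mp h)
    obtain ⟨kP, hkP⟩ := P.2.exists_card_eq
    have hP16 : Nat.card (P : Subgroup G) = 16 := by
      have h1 : Nat.card (P : Subgroup G) ∣ Nat.card Y := Subgroup.card_dvd_of_le hPY
      have h32 : ¬ 32 ∣ Nat.card Y := fun h => h16 (by rw [hYcard] at h; omega)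
      have h2 : kP < 5 := by
        by_contra hc
        exact h32 ((pow_dvd_pow 2 (not_lt.mp hc)).trans (hkP ▸ h1))
      have h3 : 3 < kP := by
        by_contra hc
        have := Subgroup.eq_of_le_of_card_ge hUGP (by
          rw [hUG8, hkP]
          exact (Nat.pow_le_pow_right (by norm_num) (not_lt.mp hc)).trans (by norm_num))
        exact hpUG (this ▸ hVP hpV)
      rw [hkP, show kP = 4 by omega]; norm_num
    have hrel : UG.relIndex (P : Subgroup G) = 2 := by
      have h := (UG.subgroupOf (P : Subgroup G)).card_mul_index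
      rw [Nat.card_congr (Subgroup.subgroupOfEquivOfLe hUGP).toEquiv, hUG8, hP16] at h
      rw [Subgroup.relIndex]
      omega
    have hpo : orderOf p = 2 := orderOf_eq_prime (by rw [sq, hp2]) ep1
    rcases Transfer.thompsonTransferLemma P UG hUGP hrel p hpo (hVP hpV) hpUG with
      ⟨M, hMn, hM2, hpM⟩ | ⟨g, hg⟩
    swap
    · exfalso
      obtain ⟨x, hx, hxe⟩ := hg
      have hxe' : (x : G) = g * p * g⁻¹ := hxe
      have hx2 : (x : G) * x = 1 := by rw [hxe']; exact SymEight40.conj_sq hp2 g
      rcases (hπ1 x).mp (hUinv x hx hx2) with e | e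
      · exact hne1 g ep1 (hxe'.symm.trans e)
      · exact hnpv g (hxe'.symm.trans e)
    haveI := hMn
    have hvM : v ∈ M := by
      obtain ⟨x, hx⟩ := QuotientGroup.mk'_surjective Zv z
      have hx2 : π (x * x) = 1 := by rw [map_mul, hx, hU2 z hz]
      rcases (hπ1 _).mp hx2 with e | e
      · exact absurd ((hUinv x (hx ▸ hz) e).symm.trans hx).symm hz1
      · rw [← e, Subgroup.coe_mul]; exact mul_self_mem_of_index_two hM2 _
    have hmiM : mi ∉ M := fun h => hpM (by
      have := hMn.conj_mem _ h n⁻¹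
      rwa [← hn1, show n⁻¹ * (n * p * n⁻¹) * n⁻¹⁻¹ = p by group] at this)
    -- the intersection with the Sylow subgroup has one involution
    have hinv : ∀ y ∈ (P : Subgroup G), y ∈ M → y * y = 1 → y = 1 ∨ y = v := by
      intro y hyP hyM hy2
      by_contra hne
      set yY : Y := ⟨y, hPY hyP⟩ with hyY
      have hyU : π yY ∉ U := fun h => hne ((hπ1 yY).mp (hUinv yY h hy2))
      have hyp : π (yY * pY) ∈ U := by
        have hidx : (UG.subgroupOf (P : Subgroup G)).index = 2 := hrel
        have h := (Subgroup.mul_mem_iff_of_index_two hidx (a := ⟨y, hyP⟩)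
          (b := ⟨p, hVP hpV⟩)).mpr (iff_of_false
            (fun h => hyU ((hmemUG yY).mp h)) hpUG)
        exact (hmemUG (yY * pY)).mp h
      set u := π (yY * pY) with hu
      have hyu : π yY = u * t := by
        rw [hu, map_mul, ← ht_def, mul_assoc, ht, mul_one]
      have h1 : u * t * (u * t) = 1 := by
        rw [← hyu, ← map_mul, show yY * yY = 1 from Subtype.ext hy2, map_one]
      have hut : t * u * t = u⁻¹ := by
        refine (inv_eq_of_mul_eq_one_right ?_).symm
        calc u * (t * u * t) = u * t * (u * t) := by simp only [mul_assoc]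
          _ = 1 := h1
      have hconjw : ∃ c : Y, π yY = π (c * pY * c⁻¹) := by
        rcases hUall _ hyp with h | h | h | h
        · exact ⟨1, by rw [hyu, h, one_mul, one_mul, inv_one, mul_one]⟩
        · obtain ⟨c, hc⟩ := QuotientGroup.mk'_surjective Zv w
          refine ⟨c, ?_⟩
          rw [hyu, h, map_mul, map_mul, map_inv, hc, ← ht_def]
          have hwi : w⁻¹ = w := SymEight40.inv_of_sq (hU2 w hw)
          rw [hwi, ← hwz]
          simp only [mul_assoc, ht, mul_one]
        · exfalso
          rw [h, SymEight40.inv_of_sq (hU2 w hw)] at hut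
          exact hwne hut
        · exfalso
          rw [SymEight40.inv_of_sq (hU2 u hyp), h] at hut
          refine hwne ?_
          calc t * w * t = t * (t * w * t) * t := hut.symm
            _ = (t * t) * w * (t * t) := by simp only [mul_assoc]
            _ = w := by rw [ht, one_mul, mul_one]
      obtain ⟨c, hc⟩ := hconjw
      rcases hπeq _ _ hc.symm with e | e
      · refine hpM ?_
        have := hMn.conj_mem _ (e ▸ hyM : ((c * pY * c⁻¹ : Y) : G) ∈ M) (c : G)⁻¹
        simpa [mul_assoc] using this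
      · have e' : (yY : G) = (c : G) * mi * (c : G)⁻¹ := by
          rw [e, ← hpvE]
          simp only [Subgroup.coe_mul, Subgroup.coe_inv]
          have hcv : Commute ((c : G)⁻¹) v := ((hmemY c).mp c.2).inv_left
          calc (c : G) * p * (c : G)⁻¹ * v = (c : G) * p * ((c : G)⁻¹ * v) := by group
            _ = (c : G) * p * (v * (c : G)⁻¹) := by rw [hcv.eq]
            _ = _ := by group
        refine hmiM ?_
        have := hMn.conj_mem _ (e' ▸ hyM : (c : G) * mi * (c : G)⁻¹ ∈ M) (c : G)⁻¹
        simpa [mul_assoc] using this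
    -- the central involution is isolated
    have hiso : Cfsg.IsIsolated (⟨v, hvM⟩ : M) := by
      intro g hg
      set d : G := (g : G) * v * (g : G)⁻¹ with hd
      have hdv : Commute v d := congrArg Subtype.val hg.eq
      let D : Subgroup G := closure {v, d}
      have hd2 : d * d = 1 := SymEight40.conj_sq hv2 _
      have hDc : ∀ a ∈ D, ∀ b ∈ D, a * b = b * a := by
        intro a ha b hb
        have hcc : D ≤ centralizer (D : Set G) := by
          rw [closure_le]
          intro a ha
          rw [SetLike.mem_coe, mem_centralizer_iff]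
          intro c hc
          refine (Subgroup.closure_induction (p := fun c _ => Commute c a) ?_ (Commute.one_left _)
            (fun _ _ _ _ h h' => h.mul_left h') (fun _ _ h => h.inv_left) hc).eq
          intro c hc
          rcases ha with rfl | rfl <;> rcases hc with rfl | rfl
          exacts [Commute.refl _, hdv.symm, hdv, Commute.refl _]
        exact ((mem_centralizer_iff.mp (hcc ha)) b hb).symm
      have hD2 : IsPGroup 2 D := fun a => ⟨1, Subtype.ext (by
        rw [SubgroupClass.coe_pow, pow_one, OneMemClass.coe_one, sq]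
        refine Subgroup.closure_induction (p := fun c _ => c * c = 1) ?_ (one_mul 1) ?_ ?_ a.2
        · rintro c (rfl | rfl); exacts [hv2, hd2]
        · intro c c' hc hc' h h'
          rw [show c * c' * (c * c') = c * (c' * c) * c' by group, hDc c' hc' c hc,
            show c * (c * c') * c' = c * c * (c' * c') by group, h, h', one_mul]
        · intro c _ h; rw [← mul_inv_rev, h, inv_one])⟩
      obtain ⟨P', hP'⟩ := hD2.exists_le_sylow
      obtain ⟨a, ha⟩ := MulAction.exists_smul_eq G P P'
      have hback : ∀ c ∈ M, c * c = 1 → c ≠ 1 → c ∈ D → a⁻¹ * c * a = v := by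
        intro c hcM hc2 hc1 hcD
        have hc' : c ∈ ((a • P : Sylow 2 G) : Subgroup G) := ha ▸ hP' hcD
        obtain ⟨q, hq, hqc⟩ := hc'
        have hqc' : a * q * a⁻¹ = c := hqc
        have hq' : q = a⁻¹ * c * a := by rw [← hqc']; group
        rcases hinv q hq (by rw [hq']; simpa using hMn.conj_mem c hcM a⁻¹) (by
          rw [hq', show a⁻¹ * c * a * (a⁻¹ * c * a) = a⁻¹ * (c * c) * a by group, hc2]; group) with h | h
        · exact absurd (by rw [← hqc', h]; group : c = 1) hc1
        · rw [← hq', h]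
      have hdM : d ∈ M := hMn.conj_mem v hvM g
      have e1 := hback v hvM hv2 ev1 (subset_closure (Or.inl rfl))
      have e2 := hback d hdM hd2 (hne1 _ ev1) (subset_closure (Or.inr rfl))
      refine Subtype.ext ?_
      change d = v
      exact mul_left_cancel (mul_right_cancel (e2.trans e1.symm))
    have hvo : orderOf (⟨v, hvM⟩ : M) = 2 := by
      rw [Subgroup.orderOf_mk]; exact orderOf_eq_prime (by rw [sq, hv2]) ev1
    have hZ := ZStar.inZStar_of_isolated hvo hiso
    by_cases hW : Cfsg.pPrimeCore 2 G = ⊥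
    · exfalso
      have hxM : C.T xv ∈ M := by
        have hxx : Ok 1 (tr xv * tr xv).w := ok_mul 1 _ _ (hok xv) (hok xv)
        have h2 := C.X_mul hxx hxx
        rw [← hxsq] at h2
        rw [T, h2]
        exact mul_self_mem_of_index_two hM2 _
      have h1 : (C.T xv) * v * (C.T xv)⁻¹ * v⁻¹ ∈ Cfsg.pPrimeCore 2 G :=
        Constrained.map_pPrimeCore_subgroup_le (p := 2) M ⟨_, hZ ⟨_, hxM⟩, rfl⟩
      rw [hW, mem_bot, mul_inv_eq_one] at h1
      exact hxv ((C.X_commute (hok _) hv).mp (SymEight40.commute_of_conj_eq h1))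
    · refine C.normal_of_solvable (Cfsg.pPrimeCore 2 G) (Cfsg.Agent.S0205.result ?_) hW
      rw [← Nat.coprime_two_left]
      exact (Constrained.pPrimeCore_coprime (G := G) (p := 2)).symm

end Ctx

end CfsgLib.SymNine40
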