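import Cfsg.Agent.SymNine40.CaseTwoSplit

/-!
Fusion of the three-elements when only even sign changes occur.

* `Ctx.ex_invariant`: the exponent of the three-cycle is invariant under fusion in the subgroup of
  index two.
-/

set_option autoImplicit false
set_option maxRecDepth 20000

open Equiv Subgroup

namespace CfsgLib.SymNine40

open Mw

namespace Ctx

variable {G : Type*} [Group G] [Finite G] (C : Ctx G 2)

omit [Finite G] in
theorem X_pow_two {a : Mw} (ha : Ok 2 a.w) (n : ℕ) : Ok 2 (a ^ n).w ∧ C.X (a ^ n) = C.X a ^ n := by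
  induction n with
  | zero => exact ⟨ok_one 2, by rw [pow_zero, pow_zero, C.X_one]⟩
  | succ n ih => exact ⟨by rw [pow_succ]; exact ok_mul 2 _ _ ih.1 ha,
      by rw [pow_succ, pow_succ, C.X_mul ih.1 ha, ih.2]⟩

theorem okP_two {m : Mw} (h : InP m) : Ok 2 m.w := inP_ok _ h.1 2

theorem fin_val_ne_two : ∀ j : Fin 3, j ≠ 0 → (j.val : ZMod 3) ≠ 0 := by decide +kernel

theorem ex_tr_two : ∀ d i : Fin 3, CaseTwo.ex (tr (d, d, d) * lin 3 ^ i.val).w = 0 →
    tr (d, d, d) * lin 3 ^ i.val = tr (d, d, d) := by decide +kernel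

theorem not_real_two (g : G) : g * C.x * g⁻¹ ≠ C.x⁻¹ := by
  intro e
  obtain ⟨m, hm, rfl⟩ := C.mem_N.mp (C.mem_N_of_conj_x (Or.inr e))
  rw [show C.x = C.T xv from rfl, C.X_conj_T hm, ← C.T_neg] at e
  exact CaseTwo.not_real m.w hm (C.T_inj e)

/-- The centraliser of `x` and of the three-cycle. -/
noncomputable def Qs : Subgroup G :=
  centralizer ({C.x} : Set G) ⊓ centralizer ({C.X (lin 3)} : Set G)

omit [Finite G] in
theorem mem_Qs {g : G} : g ∈ C.Qs ↔ Commute g C.x ∧ Commute g (C.X (lin 3)) := by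
  rw [Qs, Subgroup.mem_inf, Subgroup.mem_centralizer_singleton_iff,
    Subgroup.mem_centralizer_singleton_iff]
  rfl

omit [Finite G] in
theorem Qs_form {g : G} (h : g ∈ C.Qs) : ∃ m, InP m ∧ m * m * m = 1 ∧ C.X m = g ∧
    ∃ c i : Fin 3, m = tr (c, c, c) * lin 3 ^ i.val := by
  obtain ⟨h1, h2⟩ := C.mem_Qs.mp h
  obtain ⟨m, hm, rfl⟩ := C.cent_x h1
  obtain ⟨ha, hb, hc⟩ := CaseTwo.cent_sigma m hm
    ((C.X_commute (ok_zero_le 2 _ hm) CaseTwo.ok_sigma).mp h2)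
  exact ⟨m, ha, hb, rfl, hc⟩

theorem Qs_small : Nat.card C.Qs ≤ 9 := by
  classical
  have hsurj : ∀ g : C.Qs, ∃ p : Fin 3 × Fin 3,
      C.X (tr (p.1, p.1, p.1) * lin 3 ^ p.2.val) = g := fun g => by
    obtain ⟨m, -, -, e, c, i, rfl⟩ := C.Qs_form g.2
    exact ⟨(c, i), e⟩
  choose f hf using hsurj
  have hinj : Function.Injective f := fun a b h => Subtype.ext (by rw [← hf a, ← hf b, h])
  exact (Nat.card_le_card_of_injective f hinj).trans (by simp)

theorem Qs_isPGroup : IsPGroup 3 C.Qs := fun g => by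
  obtain ⟨m, hm, h3, e, -⟩ := C.Qs_form g.2
  refine ⟨1, Subtype.ext ?_⟩
  rw [pow_one, Subgroup.coe_pow, Subgroup.coe_one, ← e, pow_succ, pow_two,
    ← C.X_mul (okP_two hm) (okP_two hm), ← C.X_mul (ok_mul 2 _ _ (okP_two hm) (okP_two hm)) (okP_two hm),
    h3, C.X_one]

omit [Finite G] in
/-- A conjugate of the three-cycle. -/
theorem conj_sigma {n : Mw} (hn : InP n) (he : CaseTwo.ex n.w ≠ 0) (h3 : n * n * n = 1) :
    ∃ j : G, j * C.X (lin 3) * j⁻¹ = C.X n := by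
  obtain ⟨u, ⟨-, e⟩ | ⟨-, e⟩⟩ := CaseTwo.cube_one_w n hn he h3
  · exact ⟨C.X (tr u), by rw [C.X_conj (a := tr u) (ok_one 2) CaseTwo.ok_sigma, e]⟩
  · refine ⟨C.X (tr u) * C.X piM, ?_⟩
    rw [show C.X (tr u) * C.X piM * C.X (lin 3) * (C.X (tr u) * C.X piM)⁻¹ =
      C.X (tr u) * (C.X piM * C.X (lin 3) * (C.X piM)⁻¹) * (C.X (tr u))⁻¹ by group,
      C.X_conj CaseTwo.ok_pi CaseTwo.ok_sigma, CaseTwo.ex_three.2.2.2.2.2,
      C.X_conj (a := tr u) (ok_one 2) (by decide +kernel), e]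

theorem move_two {a : G} (hs : Commute a (C.X (lin 3))) (hodd : Odd (orderOf a)) (hx : ¬ Commute a C.x)
    (hq : a * C.x * a⁻¹ ∈ C.Qs) :
    ∃ i : Fin 3, i ≠ 0 ∧ a * C.x * a⁻¹ = C.x * C.X (lin 3) ^ i.val := by
  obtain ⟨_, -, -, e, c, i, rfl⟩ := C.Qs_form hq
  have hp := C.X_pow_two CaseTwo.ok_sigma i.val
  rw [C.X_mul (a := tr _) (ok_one 2) hp.1, hp.2] at e
  change C.T (c, c, c) * _ = _ at e
  by_cases hi : i = 0
  · rw [hi, Fin.val_zero, pow_zero, mul_one] at e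
    rcases CaseTwo.xv_sigma.2.2 c with r | r | r <;> rw [r] at e
    · rw [C.T_zero, eq_comm, conj_eq_one_iff] at e
      exact absurd (e ▸ Commute.one_right a) hx
    · exact absurd (commute_of_conj_two e.symm) hx
    · rw [C.T_neg] at e
      exact absurd e.symm (C.not_real_two a)
  refine ⟨i, hi, ?_⟩
  have hconj : a * C.X (lin 3) ^ i.val * a⁻¹ = C.X (lin 3) ^ i.val :=
    conj_eq_two (hs.pow_right _)
  rcases CaseTwo.xv_sigma.2.2 c with r | r | r <;> rw [r] at e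
  · exfalso
    rw [C.T_zero, one_mul, ← hconj] at e
    have e' := mul_left_cancel (mul_right_cancel e)
    rw [← hp.2] at e'
    have hne : ∀ j : Fin 3, lin 3 ^ j.val ≠ tr xv := by decide +kernel
    exact hne i (C.X_inj hp.1 (ok_one 2) e')
  · exact e.symm
  · exfalso
    rw [C.T_neg] at e
    have hcm : Commute C.x (C.X (lin 3) ^ i.val) := by
      refine Commute.pow_right ?_ _
      exact (C.X_commute (ok_one 2) CaseTwo.ok_sigma).mpr CaseTwo.xv_sigma.1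
    have h2 : Commute (a ^ 2) C.x := by
      refine commute_of_conj_two ?_
      calc a ^ 2 * C.x * (a ^ 2)⁻¹ = a * (a * C.x * a⁻¹) * a⁻¹ := by rw [pow_two]; group
        _ = a * (C.x⁻¹ * C.X (lin 3) ^ i.val) * a⁻¹ := by rw [← e]; rfl
        _ = (a * C.x * a⁻¹)⁻¹ * (a * C.X (lin 3) ^ i.val * a⁻¹) := by group
        _ = C.x := by
          rw [← e, hconj, mul_inv_rev, show (C.T xv)⁻¹⁻¹ = C.x from inv_inv _, mul_assoc,
            hcm.eq, inv_mul_cancel_left]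
    obtain ⟨j, hj⟩ := hodd
    refine hx ?_
    have : a = (a ^ 2) ^ (j + 1) := by
      rw [← pow_mul, show 2 * (j + 1) = orderOf a + 1 by omega, pow_succ, pow_orderOf_eq_one, one_mul]
    rw [this]
    exact h2.pow_left _

theorem grow_two (H : Subgroup G) (hH : ∀ h ∈ H, Commute h (C.X (lin 3))) (hQ : C.Qs ≤ H)
    (R : Sylow 3 H) (hR : C.Qs.subgroupOf H ≤ (R : Subgroup H))
    (hne : (R : Subgroup H) ≠ C.Qs.subgroupOf H) :
    ∃ a ∈ H, ∃ i : Fin 3, i ≠ 0 ∧ a * C.x * a⁻¹ = C.x * C.X (lin 3) ^ i.val := by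
  classical
  haveI : Fact (Nat.Prime 3) := ⟨Nat.prime_three⟩
  haveI : Group.IsNilpotent (R : Subgroup H) := R.2.isNilpotent
  have hlt : (C.Qs.subgroupOf H).subgroupOf (R : Subgroup H) < ⊤ :=
    lt_top_iff_ne_top.mpr fun h => hne (le_antisymm (Subgroup.subgroupOf_eq_top.mp h) hR)
  obtain ⟨n, hn, hn'⟩ := SetLike.exists_of_lt (Group.normalizerCondition_of_isNilpotent _ hlt)
  set a : G := ((n : H) : G) with ha
  have hxs : C.x ∈ C.Qs := C.mem_Qs.mpr ⟨Commute.refl _,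
    (C.X_commute (ok_one 2) CaseTwo.ok_sigma).mpr CaseTwo.xv_sigma.1⟩
  refine ⟨a, (n : H).2, C.move_two (hH _ (n : H).2) ?_ ?_ ?_⟩
  · obtain ⟨k, hk⟩ := IsPGroup.iff_orderOf.mp R.2 n
    rw [ha, Subgroup.orderOf_coe, Subgroup.orderOf_coe, hk]
    exact Odd.pow (by decide)
  · intro hc
    refine hn' (Subgroup.mem_subgroupOf.mpr (Subgroup.mem_subgroupOf.mpr ?_))
    exact C.mem_Qs.mpr ⟨hc, hH _ (n : H).2⟩
  · have hx' : (⟨C.x, hQ hxs⟩ : H) ∈ C.Qs.subgroupOf H := Subgroup.mem_subgroupOf.mpr hxs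
    exact Subgroup.mem_subgroupOf.mp (Subgroup.mem_subgroupOf.mp
      ((Subgroup.mem_normalizer_iff.mp hn ⟨⟨C.x, hQ hxs⟩, hR hx'⟩).mp
        (Subgroup.mem_subgroupOf.mpr hx')))

theorem sigma_not_x (g : G) : g * C.x * g⁻¹ ≠ C.X (lin 3) := by
  classical
  intro hg
  haveI : Fact (Nat.Prime 3) := ⟨Nat.prime_three⟩
  set σ := C.X (lin 3) with hσ
  set H := centralizer ({σ} : Set G) with hH
  have hHc : ∀ h ∈ H, Commute h σ := fun h hh => Subgroup.mem_centralizer_singleton_iff.mp hh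
  have hQH : C.Qs ≤ H := inf_le_right
  obtain ⟨R, hR⟩ := (C.Qs_isPGroup.comap_of_injective H.subtype H.subtype_injective).exists_le_sylow
  have hPH : C.P.map (MulAut.conj g).toMonoidHom ≤ H := by
    rintro _ ⟨_, ⟨m, hm, rfl⟩, rfl⟩
    refine Subgroup.mem_centralizer_singleton_iff.mpr ?_
    rw [← hg]
    refine ((Commute.conj_iff g).mpr (?_ : Commute (C.X m) C.x)).eq
    refine (C.X_commute (okP_two hm) (ok_one 2)).mpr ?_
    have hfix : ∀ w : Fin 48, bits w = 0 → lact w xv = xv := by decide +kernel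
    rw [conj_tr, hfix m.w hm.1]
  have h81 : 81 ∣ Nat.card (R : Subgroup H) := by
    refine R.pow_dvd_card_of_pow_dvd_card (n := 4) ?_
    have := Subgroup.card_dvd_of_le hPH
    rw [Subgroup.card_map_of_injective (MulAut.conj g).injective, C.card_P] at this
    exact this
  obtain ⟨a, haH, i, hi, ha⟩ := C.grow_two H hHc hQH R hR (by
    intro e
    rw [e, Nat.card_congr (Subgroup.subgroupOfEquivOfLe hQH).toEquiv] at h81
    have := Nat.le_of_dvd Nat.card_pos h81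
    have := C.Qs_small
    omega)
  have haσ : Commute a σ := hHc a haH
  have hxσ : Commute C.x σ := (C.X_commute (ok_one 2) CaseTwo.ok_sigma).mpr CaseTwo.xv_sigma.1
  have hσ3 : σ ^ 3 = 1 := by
    rw [← (C.X_pow_two CaseTwo.ok_sigma 3).2, show lin 3 ^ 3 = 1 by decide +kernel, C.X_one]
  obtain ⟨a, haσ, ha⟩ : ∃ a, Commute a σ ∧ a * C.x * a⁻¹ = C.x * σ := by
    rcases (by decide : ∀ j : Fin 3, j ≠ 0 → j = 1 ∨ j = 2) i hi with rfl | rfl
    · exact ⟨a, haσ, by rw [ha, Fin.val_one, pow_one]⟩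
    · refine ⟨a⁻¹, haσ.inv_left, ?_⟩
      rw [Fin.val_two] at ha
      rw [inv_inv, ← mul_inv_eq_iff_eq_mul]
      calc a⁻¹ * C.x * a * σ⁻¹ = a⁻¹ * C.x * (σ⁻¹ * a) := by
            rw [mul_assoc _ a, (haσ.inv_right).eq]
        _ = a⁻¹ * (C.x * σ ^ 2) * a := by
            rw [show σ⁻¹ = σ ^ 2 from inv_eq_of_mul_eq_one_right (by rw [← pow_succ', hσ3])]
            group
        _ = C.x := by rw [← ha]; group
  obtain ⟨u, hu⟩ := CaseTwo.shift_sigma
  set b := C.X (tr u) with hb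
  have hbσ : b * σ * b⁻¹ = σ * C.x⁻¹ := by
    rw [hb, hσ, C.X_conj (a := tr u) (ok_one 2) CaseTwo.ok_sigma, hu,
      C.X_mul CaseTwo.ok_sigma (ok_one 2)]
    exact congrArg (σ * ·) (C.T_neg xv)
  have hbx : b * C.x * b⁻¹ = C.x := conj_eq_two (C.T_comm u xv)
  have haσ' := conj_eq_two haσ
  have h1 : a * b * a * C.x * (a * b * a)⁻¹ = σ := by
    calc a * b * a * C.x * (a * b * a)⁻¹ = a * (b * (a * C.x * a⁻¹) * b⁻¹) * a⁻¹ := by group
      _ = a * ((b * C.x * b⁻¹) * (b * σ * b⁻¹)) * a⁻¹ := by rw [ha]; group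
      _ = σ := by
        rw [hbx, hbσ, ← mul_assoc C.x σ, hxσ.eq, mul_inv_cancel_right, haσ']
  have h2 : a * b * a * σ * (a * b * a)⁻¹ = C.x⁻¹ := by
    calc a * b * a * σ * (a * b * a)⁻¹ = a * (b * (a * σ * a⁻¹) * b⁻¹) * a⁻¹ := by group
      _ = a * (σ * C.x⁻¹) * a⁻¹ := by rw [haσ', hbσ]
      _ = (a * σ * a⁻¹) * (a * C.x * a⁻¹)⁻¹ := by group
      _ = C.x⁻¹ := by rw [haσ', ha, mul_inv_rev, mul_inv_cancel_left]
  refine C.not_real_two (a * b * a * (a * b * a)) ?_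
  calc a * b * a * (a * b * a) * C.x * (a * b * a * (a * b * a))⁻¹
      = a * b * a * (a * b * a * C.x * (a * b * a)⁻¹) * (a * b * a)⁻¹ := by group
    _ = C.x⁻¹ := by rw [h1, h2]

theorem x_not_conj {n : Mw} (hn : InP n) (he : CaseTwo.ex n.w ≠ 0) (h3 : n * n * n = 1) (g : G) :
    g * C.x * g⁻¹ ≠ C.X n := by
  intro e
  obtain ⟨j, hj⟩ := C.conj_sigma hn he h3
  refine C.sigma_not_x (j⁻¹ * g) ?_
  rw [show j⁻¹ * g * C.x * (j⁻¹ * g)⁻¹ = j⁻¹ * (g * C.x * g⁻¹) * j by group, e, ← hj]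
  group

variable {M : Subgroup G} [M.Normal]
  (hM : ∀ m : Mw, Ok 2 m.w → (C.X m ∈ M ↔ CaseTwo.Ev m.w))

include hM

theorem sigma_not_inv {m : G} (hmM : m ∈ M) :
    m * C.X (lin 3) * m⁻¹ ≠ (C.X (lin 3))⁻¹ := by
  classical
  intro hm
  haveI : Fact (Nat.Prime 3) := ⟨Nat.prime_three⟩
  set σ := C.X (lin 3) with hσ
  set H := M ⊓ centralizer ({σ} : Set G) with hH
  have hHc : ∀ h ∈ H, Commute h σ := fun h hh => Subgroup.mem_centralizer_singleton_iff.mp hh.2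
  have hQH : C.Qs ≤ H := fun q hq => by
    refine ⟨?_, hq.2⟩
    obtain ⟨n, hn, -, rfl, -⟩ := C.Qs_form hq
    exact (hM n (okP_two hn)).mpr hn.2
  obtain ⟨R, hR⟩ := (C.Qs_isPGroup.comap_of_injective H.subtype H.subtype_injective).exists_le_sylow
  have hReq : (R : Subgroup H) = C.Qs.subgroupOf H := by
    by_contra hne
    obtain ⟨a, -, i, hi, ha⟩ := C.grow_two H hHc hQH R hR hne
    obtain ⟨h1, h2, -, -, he, -⟩ := CaseTwo.xv_three i
    refine C.x_not_conj h2 ?_ h1 a ?_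
    · rw [he]
      exact fin_val_ne_two i hi
    · rw [ha, C.X_mul (a := tr xv) (ok_one 2) (C.X_pow_two CaseTwo.ok_sigma _).1,
        (C.X_pow_two CaseTwo.ok_sigma _).2]
      rfl
  have hQ'H : C.Qs.map (MulAut.conj m).toMonoidHom ≤ H := by
    rintro _ ⟨q, hq, rfl⟩
    refine ⟨‹M.Normal›.conj_mem q (hQH hq).1 m, Subgroup.mem_centralizer_singleton_iff.mpr ?_⟩
    have h := (Commute.conj_iff m).mpr (hHc q (hQH hq))
    rw [hm] at h
    exact (inv_inv σ ▸ h.inv_right : Commute (m * q * m⁻¹) σ).eq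
  obtain ⟨R', hR'⟩ := ((C.Qs_isPGroup.map (MulAut.conj m).toMonoidHom).comap_of_injective H.subtype
    H.subtype_injective).exists_le_sylow
  obtain ⟨c, hc⟩ := MulAction.exists_smul_eq H R' R
  have hxs : C.x ∈ C.Qs := C.mem_Qs.mpr ⟨Commute.refl _,
    (C.X_commute (ok_one 2) CaseTwo.ok_sigma).mpr CaseTwo.xv_sigma.1⟩
  set n := (c : G) * m with hn
  have hnx : n * C.x * n⁻¹ ∈ C.Qs := by
    have h1 : (⟨m * C.x * m⁻¹, hQ'H ⟨_, hxs, rfl⟩⟩ : H) ∈ (R' : Subgroup H) :=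
      hR' ⟨_, hxs, rfl⟩
    have h2 : c * ⟨m * C.x * m⁻¹, hQ'H ⟨_, hxs, rfl⟩⟩ * c⁻¹ ∈ (c • R' : Sylow 3 H).toSubgroup :=
      Subgroup.smul_mem_pointwise_smul _ (MulAut.conj c) _ h1
    rw [hc, hReq, Subgroup.mem_subgroupOf, Subgroup.coe_mul, Subgroup.coe_mul,
      Subgroup.coe_inv] at h2
    rw [hn, show (c : G) * m * C.x * ((c : G) * m)⁻¹ = c * (m * C.x * m⁻¹) * (c : G)⁻¹ by group]
    exact h2
  have hnσ : n * σ * n⁻¹ = σ⁻¹ := by
    rw [hn, show (c : G) * m * σ * ((c : G) * m)⁻¹ = c * (m * σ * m⁻¹) * (c : G)⁻¹ by group, hm,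
      conj_eq_two (hHc _ c.2).inv_right]
  have hnM : n ∈ M := mul_mem c.2.1 hmM
  obtain ⟨q, hq, hq3, eq, -⟩ := C.Qs_form hnx
  by_cases hex : CaseTwo.ex q.w = 0
  · have hqv := CaseTwo.ex_zero q hq hex
    obtain ⟨_, -, -, eq', d, i, hqdi⟩ := C.Qs_form hnx
    have hcomm : Commute n C.x := by
      have hqd : ∃ d : Fin 3, q = tr (d, d, d) := by
        have h := C.X_inj (okP_two hq) (by
          rw [hqdi] at *; exact ok_mul 2 (tr (d, d, d)).w _ (ok_one 2) (C.X_pow_two CaseTwo.ok_sigma _).1)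
          (eq.trans eq'.symm)
        subst h
        rw [hqdi] at hex
        refine ⟨d, ?_⟩
        rw [hqdi]
        rw [ex_tr_two d i hex]
      obtain ⟨d, rfl⟩ := hqd
      change C.T (d, d, d) = _ at eq
      rcases CaseTwo.xv_sigma.2.2 d with r | r | r <;> rw [r] at eq
      · rw [C.T_zero, eq_comm, conj_eq_one_iff] at eq
        rw [eq]; exact Commute.one_right n
      · exact commute_of_conj_two eq.symm
      · rw [C.T_neg] at eq
        exact absurd eq.symm (C.not_real_two n)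
    obtain ⟨k, hk, ek⟩ := C.cent_x hcomm
    have hev := (hM k (ok_zero_le 2 _ hk)).mp (ek ▸ hnM)
    rw [← ek, hσ, C.X_conj (ok_zero_le 2 _ hk) CaseTwo.ok_sigma, ← C.X_inv CaseTwo.ok_sigma] at hnσ
    have := C.X_inj (ok_mul 2 _ _ (ok_mul 2 _ _ (ok_zero_le 2 _ hk) CaseTwo.ok_sigma)
      (ok_inv 2 _ (ok_zero_le 2 _ hk))) (ok_inv 2 _ CaseTwo.ok_sigma) hnσ
    exact (by decide +kernel : ∀ w : Fin 48, Ok 0 w → CaseTwo.Ev w →
      lmul (lmul w 3) (linv w) ≠ linv 3) k.w hk hev (congrArg Mw.w this)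
  · exact C.x_not_conj hq hex hq3 n eq.symm

theorem ex_invariant {a b : Mw} (ha : InP a) (hb : InP b) {g : G} (hg : g ∈ M)
    (e : g * C.X a * g⁻¹ = C.X b) : CaseTwo.ex a.w = CaseTwo.ex b.w := by
  classical
  have hoa := okP_two ha
  have hob := okP_two hb
  have hcube : g * C.X (a * a * a) * g⁻¹ = C.X (b * b * b) := by
    rw [C.X_mul (ok_mul 2 _ _ hoa hoa) hoa, C.X_mul hoa hoa,
      C.X_mul (ok_mul 2 _ _ hob hob) hob, C.X_mul hob hob, ← e]
    group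
  by_cases h3 : a * a * a = 1
  · have hb3 : b * b * b = 1 := by
      refine C.X_eq_one (ok_mul 2 _ _ (ok_mul 2 _ _ hob hob) hob) ?_
      rw [← hcube, h3, C.X_one, mul_one, mul_inv_cancel]
    have hOk : ∀ m : Mw, InP m → Ok 0 m.w := fun m h => inP_ok _ h.1 0
    have key : ∀ (p : Mw) (v : Vec) (h : G), InP p → CaseTwo.ex p.w ≠ 0 → p * p * p = 1 →
        h * C.X p * h⁻¹ = C.T v → False := by
      intro p v h hp he hp3 ev
      have hw : p.w ≠ 0 := fun e0 => he (by rw [e0, CaseTwo.ex_three.1])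
      obtain ⟨c, hc, hcv | hcv⟩ := C.xType_of_conj (hOk p hp) hp3 hw ev
      · refine C.x_not_conj hp he hp3 (h⁻¹ * C.X (lin c)) ?_
        rw [show h⁻¹ * C.X (lin c) * C.x * (h⁻¹ * C.X (lin c))⁻¹ =
          h⁻¹ * (C.X (lin c) * C.x * (C.X (lin c))⁻¹) * h by group,
          show C.x = C.T xv from rfl, C.X_conj_T (lin_mem 2 c hc)]
        change h⁻¹ * C.T (lact c xv) * h = _
        rw [hcv, ← ev]
        group
      · have hinv : InP p⁻¹ ∧ CaseTwo.ex p⁻¹.w ≠ 0 := by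
          have t : ∀ w : Fin 48, bits w = 0 → pcode w ∈ ([0, 3, 4] : List (Fin 6)) →
              CaseTwo.ex w ≠ 0 → (bits (linv w) = 0 ∧ pcode (linv w) ∈ ([0, 3, 4] : List (Fin 6))) ∧
                CaseTwo.ex (linv w) ≠ 0 := by decide +kernel
          exact t p.w hp.1 hp.2 he
        refine C.x_not_conj hinv.1 hinv.2 (by
          rw [← mul_inv_rev, ← mul_inv_rev, ← mul_assoc, hp3, inv_one]) (h⁻¹ * C.X (lin c)) ?_
        rw [show h⁻¹ * C.X (lin c) * C.x * (h⁻¹ * C.X (lin c))⁻¹ =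
          h⁻¹ * (C.X (lin c) * C.x * (C.X (lin c))⁻¹) * h by group,
          show C.x = C.T xv from rfl, C.X_conj_T (lin_mem 2 c hc)]
        change h⁻¹ * C.T (lact c xv) * h = _
        rw [hcv, C.T_neg, ← ev, C.X_inv (okP_two hp)]
        group
    by_cases hea : CaseTwo.ex a.w = 0 <;> by_cases heb : CaseTwo.ex b.w = 0
    · rw [hea, heb]
    · exfalso
      refine key b a.v g⁻¹ hb heb hb3 ?_
      rw [← e, show C.T a.v = C.X a from congrArg C.X (CaseTwo.ex_zero a ha hea).symm]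
      group
    · exfalso
      refine key a b.v g ha hea h3 ?_
      rw [e, show C.T b.v = C.X b from congrArg C.X (CaseTwo.ex_zero b hb heb).symm]
    · have hTM : ∀ u : Vec, C.X (tr u) ∈ M := fun u =>
        (hM _ (ok_one 2)).mpr ((by decide +kernel : CaseTwo.Ev 0))
      have h4 : C.X (lin 4) = (C.X (lin 3))⁻¹ := by
        rw [← C.X_inv CaseTwo.ok_sigma, CaseTwo.ex_three.2.2.2.2.1]
      have ok4 : Ok 2 (lin 4).w := by decide +kernel
      obtain ⟨u, ⟨ea, fa⟩ | ⟨ea, fa⟩⟩ := CaseTwo.cube_one_w a ha hea h3 <;>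
        obtain ⟨u', ⟨eb, fb⟩ | ⟨eb, fb⟩⟩ := CaseTwo.cube_one_w b hb heb hb3
      · rw [ea, eb]
      · exfalso
        refine C.sigma_not_inv hM (mul_mem (mul_mem (inv_mem (hTM u')) hg) (hTM u)) ?_
        rw [show (C.X (tr u'))⁻¹ * g * C.X (tr u) * C.X (lin 3) *
            ((C.X (tr u'))⁻¹ * g * C.X (tr u))⁻¹ = (C.X (tr u'))⁻¹ *
            (g * (C.X (tr u) * C.X (lin 3) * (C.X (tr u))⁻¹) * g⁻¹) * C.X (tr u') by group,
          C.X_conj (a := tr u) (ok_one 2) CaseTwo.ok_sigma, fa, e, ← fb,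
          ← C.X_conj (a := tr u') (ok_one 2) ok4, h4]
        group
      · exfalso
        refine C.sigma_not_inv hM
          (mul_mem (mul_mem (inv_mem (hTM u)) (inv_mem hg)) (hTM u')) ?_
        rw [show (C.X (tr u))⁻¹ * g⁻¹ * C.X (tr u') * C.X (lin 3) *
            ((C.X (tr u))⁻¹ * g⁻¹ * C.X (tr u'))⁻¹ = (C.X (tr u))⁻¹ *
            (g⁻¹ * (C.X (tr u') * C.X (lin 3) * (C.X (tr u'))⁻¹) * g) * C.X (tr u) by group,
          C.X_conj (a := tr u') (ok_one 2) CaseTwo.ok_sigma, fb, ← e,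
          show g⁻¹ * (g * C.X a * g⁻¹) * g = C.X a by group, ← fa,
          ← C.X_conj (a := tr u) (ok_one 2) ok4, h4]
        group
      · rw [ea, eb]
  · have hb3 : b * b * b ≠ 1 := by
      intro h
      rw [h, C.X_one, conj_eq_one_iff] at hcube
      exact h3 (C.X_eq_one (ok_mul 2 _ _ (ok_mul 2 _ _ hoa hoa) hoa) hcube)
    have hpm : ∀ p : Mw, InP p → p * p * p ≠ 1 →
        C.X (p * p * p) = C.x ∨ C.X (p * p * p) = C.x⁻¹ := by
      intro p hp h
      rcases CaseTwo.cube_ninth p hp h with r | r <;> rw [r]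
      · exact Or.inl rfl
      · exact Or.inr (C.T_neg xv)
    have hgx : g * C.x * g⁻¹ = C.x ∨ g * C.x * g⁻¹ = C.x⁻¹ := by
      rcases hpm a ha h3 with ra | ra <;> rcases hpm b hb hb3 with rb | rb <;>
        rw [ra, rb] at hcube
      · exact Or.inl hcube
      · exact Or.inr hcube
      · rw [← conj_inv] at hcube
        exact Or.inr (inv_eq_iff_eq_inv.mp hcube)
      · rw [← conj_inv] at hcube
        exact Or.inl (inv_inj.mp hcube)
    have hgN : g ∈ C.N := C.mem_N_of_conj_x hgx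
    obtain ⟨k, hk, rfl⟩ := C.mem_N.mp hgN
    have hev := (hM k hk).mp hg
    have hbits : bits k.w = 0 := by
      refine CaseTwo.fix_line k.w hk hev ?_
      rw [show C.x = C.T xv from rfl, C.X_conj_T hk, ← C.T_neg] at hgx
      exact hgx.imp (fun h => C.T_inj h) (fun h => C.T_inj h)
    rw [C.X_conj hk hoa] at e
    have e' := C.X_inj (ok_mul 2 _ _ (ok_mul 2 _ _ hk hoa) (ok_inv 2 _ hk)) hob e
    rw [← e']
    exact (by decide +kernel : ∀ w a : Fin 48, bits w = 0 → CaseTwo.Ev w → bits a = 0 →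
      CaseTwo.Ev a → CaseTwo.ex a = CaseTwo.ex (lmul (lmul w a) (linv w))) k.w a.w hbits hev ha.1 ha.2

end Ctx

end CfsgLib.SymNine40
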