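import Cfsg.Agent.SymNine40.Reflect
import Cfsg.Agent.SymNine40.Quot
import Cfsg.Agent.SymNine40.CaseTwoTables
import Cfsg.Agent.PSp43Amalgam.LocalStructure
import Cfsg.Agent.Signalizer.Hyperplane

/-!
The centraliser of the exchange of two blocks when only even sign changes occur.

* `Ctx.centPi_two`: it lies in the monomial group.
-/

set_option autoImplicit false
set_option maxRecDepth 20000

open Equiv Subgroup

namespace CfsgLib.SymNine40

open Mw

theorem commute_of_conj_two {G : Type*} [Group G] {a b : G} (h : a * b * a⁻¹ = b) : Commute a b :=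
  mul_inv_eq_iff_eq_mul.mp h

theorem conj_eq_two {G : Type*} [Group G] {a b : G} (h : Commute a b) :
    a * b * a⁻¹ = b := by rw [h.eq, mul_inv_cancel_right]

namespace Ctx

variable {G : Type*} [Group G]

theorem mem_N_commute_two {k : Fin 4} (C : Ctx G k) {g : G} {a : Mw} (hg : g ∈ C.N) (ha : Ok k a.w)
    (hc : Commute g (C.X a)) : ∃ m : Mw, Ok k m.w ∧ m * a = a * m ∧ C.X m = g := by
  obtain ⟨m, hm, rfl⟩ := C.mem_N.mp hg
  exact ⟨m, hm, (C.X_commute hm ha).mp hc, rfl⟩

theorem allLe_two [Finite G] (C : Ctx G 2) : C.AllLe :=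
  C.allLe_of fun _ => centLe_klein_two C

theorem centPi_two [Finite G] (C : Ctx G 2) {g : G} (hg : Commute g (C.X piM)) : g ∈ C.N := by
  classical
  haveI : Fact (Nat.Prime 3) := ⟨Nat.prime_three⟩
  set π := C.X piM with hπdef
  have hπ2 : π * π = 1 := by
    rw [← C.X_mul CaseTwo.ok_pi CaseTwo.ok_pi, CaseTwo.pi_basic.1, C.X_one]
  have hπ1 : π ≠ 1 := by
    rw [← C.X_one]
    exact C.X_ne CaseTwo.ok_pi (ok_one 2) CaseTwo.pi_basic.2.2.1
  set H := centralizer ({π} : Set G) with hH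
  have hmemH : ∀ {a : G}, Commute a π → a ∈ H := fun h =>
    Subgroup.mem_centralizer_singleton_iff.mpr h.eq
  have hHc : ∀ a : H, Commute (a : G) π := fun a => Subgroup.mem_centralizer_singleton_iff.mp a.2
  set pH : H := ⟨π, hmemH (Commute.refl _)⟩ with hpH
  have hpc : ∀ a : H, a * pH = pH * a := fun a => Subtype.ext (hHc a).eq
  have hpp : pH * pH = 1 := Subtype.ext hπ2
  set Z := zpowers pH with hZdef
  haveI hZn : Z.Normal := ⟨fun a ha b => by
    obtain ⟨i, rfl⟩ := mem_zpowers_iff.mp ha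
    rw [(show Commute b pH from hpc b).zpow_right i |>.eq, mul_inv_cancel_right]
    exact ha⟩
  have hZ : ∀ z ∈ Z, z = 1 ∨ z = pH := by
    intro z hz
    obtain ⟨i, rfl⟩ := mem_zpowers_iff.mp hz
    rcases Int.even_or_odd i with ⟨j, rfl⟩ | ⟨j, rfl⟩
    · left; rw [← two_mul, zpow_mul, zpow_two, hpp, one_zpow]
    · right; rw [zpow_add, zpow_mul, zpow_two, hpp, one_zpow, one_mul, zpow_one]
  set q := QuotientGroup.mk' Z with hq
  have hlift : ∀ a b : H, a * a * a = 1 → b * b * b = 1 → q a = q b → a = b := by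
    intro a b ha hb he
    rcases hZ _ (QuotientGroup.eq.mp he) with e | e
    · exact inv_mul_eq_one.mp e
    · have e' : b = a * pH := by rw [← e, mul_inv_cancel_left]
      have hc : Commute a pH := hpc a
      have h1 : (a * pH) ^ 3 = 1 := by rw [← e', pow_succ, pow_two, hb]
      rw [hc.mul_pow, show a ^ 3 = 1 by rw [pow_succ, pow_two, ha], one_mul, pow_succ, pow_two, hpp,
        one_mul] at h1
      exact absurd (congrArg Subtype.val h1) hπ1
  have hτmem : ∀ v : Vec, v.1 = v.2.1 → C.T v ∈ H := fun v hv => hmemH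
    ((C.X_commute (ok_one 2) CaseTwo.ok_pi).mpr (CaseTwo.cent_pi_plane v hv))
  let τ : {v : Vec // v.1 = v.2.1} → H := fun v => ⟨C.T v, hτmem v v.2⟩
  have hτv : ∀ v, (τ v : G) = C.T v.1 := fun _ => rfl
  have hτ3 : ∀ v, τ v * τ v * τ v = 1 := fun v => Subtype.ext (C.T_cube _)
  -- the image of the plane
  let Pq : Subgroup (H ⧸ Z) :=
    { carrier := {x | ∃ v, q (τ v) = x}
      one_mem' := ⟨⟨(0 : Vec), rfl⟩, by rw [show τ ⟨(0 : Vec), rfl⟩ = 1 from Subtype.ext C.T_zero, map_one]⟩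
      mul_mem' := by
        rintro _ _ ⟨a, rfl⟩ ⟨b, rfl⟩
        refine ⟨⟨a.1 + b.1, ?_⟩, ?_⟩
        · show a.1.1 + b.1.1 = a.1.2.1 + b.1.2.1
          rw [a.2, b.2]
        · rw [← map_mul]; exact congrArg q (Subtype.ext (C.T_add _ _))
      inv_mem' := by
        rintro _ ⟨a, rfl⟩
        refine ⟨⟨-a.1, ?_⟩, ?_⟩
        · show -a.1.1 = -a.1.2.1
          rw [a.2]
        · rw [← map_inv]; exact congrArg q (Subtype.ext (C.T_neg _)) }
  have hPq : ∀ v, q (τ v) ∈ Pq := fun v => ⟨v, rfl⟩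
  have hcard : Nat.card Pq = 9 := by
    let f : {v : Vec // v.1 = v.2.1} → Pq := fun v => ⟨q (τ v), hPq v⟩
    have hf : Function.Bijective f := by
      refine ⟨fun a b h => Subtype.ext (C.T_inj (congrArg Subtype.val
        (hlift _ _ (hτ3 a) (hτ3 b) (congrArg Subtype.val h)))), ?_⟩
      rintro ⟨_, v, rfl⟩
      exact ⟨v, rfl⟩
    rw [← Nat.card_eq_of_bijective f hf, Nat.card_eq_fintype_card]
    decide +kernel
  let fv : {v : Vec // v.1 = v.2.1} := ⟨(1, 1, 0), rfl⟩
  let ev : {v : Vec // v.1 = v.2.1} := ⟨e3, rfl⟩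
  have hfv : (τ fv : G) = C.T (1, 1, 0) := hτv fv
  have hev : (τ ev : G) = C.T e3 := hτv ev
  have hrep : ∀ h : H, h * h * h = 1 → q h ∈ Pq → ∃ v, h = τ v := by
    rintro h h3 ⟨v, hv⟩
    exact ⟨v, hlift _ _ h3 (hτ3 v) hv.symm⟩
  have hnorm : ∀ h : H, (∀ v, q h * q (τ v) * (q h)⁻¹ ∈ Pq) → (h : G) ∈ C.N := by
    intro h hh
    have key : ∀ v : {v : Vec // v.1 = v.2.1}, ∃ i j : Fin 3, (h : G) * C.T v.1 * (h : G)⁻¹ =
        C.T (i.val • ((1, 1, 0) : Vec) + j.val • e3) := by
      intro v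
      obtain ⟨w, hw⟩ := hrep (h * τ v * h⁻¹) (by
        rw [show h * τ v * h⁻¹ * (h * τ v * h⁻¹) * (h * τ v * h⁻¹) =
          h * (τ v * τ v * τ v) * h⁻¹ by group, hτ3, mul_one, mul_inv_cancel])
        (by rw [map_mul, map_mul, map_inv]; exact hh v)
      obtain ⟨i, j, e⟩ := CaseTwo.plane_coords w.1 w.2
      exact ⟨i, j, by rw [e]; exact congrArg Subtype.val hw⟩
    exact C.norm_plane CaseTwo.plane_indep (key fv) (key ev)
  have hsplit : ∀ h : H, (h : G) ∈ C.N → ∃ v, q h = q (τ v) ∨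
      q h * q ⟨C.X (lin 18), hmemH ((C.X_commute CaseTwo.ok_n12 CaseTwo.ok_pi).mpr
        CaseTwo.pi_basic.2.2.2.2.1.symm)⟩ = q (τ v) := by
    intro h hh
    obtain ⟨m, hm, hc, e⟩ := C.mem_N_commute_two hh CaseTwo.ok_pi (hHc h)
    refine ⟨⟨m.v, (CaseTwo.cent_pi m hm hc).1⟩, ?_⟩
    have hqπ : q pH = 1 := (QuotientGroup.eq_one_iff _).mpr (mem_zpowers _)
    have hT : (C.X (tr m.v) : G) = C.T m.v := rfl
    rcases CaseTwo.cent_pi_split m hm hc with r | r | r | r
    · left; exact congrArg q (Subtype.ext (e.symm.trans (congrArg C.X r)))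
    · left
      rw [← mul_one (q (τ _)), ← hqπ, ← map_mul]
      refine congrArg q (Subtype.ext (e.symm.trans ((congrArg C.X r).trans ?_)))
      exact C.X_mul (ok_one 2) CaseTwo.ok_pi
    · right
      rw [← map_mul]
      refine congrArg q (Subtype.ext ?_)
      show (h : G) * _ = _
      rw [← e, ← C.X_mul hm CaseTwo.ok_n12]
      exact congrArg C.X r
    · right
      rw [← map_mul, ← mul_one (q (τ _)), ← hqπ, ← map_mul]
      refine congrArg q (Subtype.ext ?_)
      show (h : G) * _ = _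
      rw [← e, ← C.X_mul hm CaseTwo.ok_n12, r]
      exact C.X_mul (ok_one 2) CaseTwo.ok_pi
  set tn : H := ⟨C.X (lin 18), hmemH ((C.X_commute CaseTwo.ok_n12 CaseTwo.ok_pi).mpr
        CaseTwo.pi_basic.2.2.2.2.1.symm)⟩ with htn
  have htn2 : tn * tn = 1 := Subtype.ext (by
    show C.X (lin 18) * C.X (lin 18) = 1
    rw [← C.X_mul CaseTwo.ok_n12 CaseTwo.ok_n12, CaseTwo.pi_basic.2.1, C.X_one])
  have htq : q tn ≠ 1 := by
    intro e
    rcases hZ _ ((QuotientGroup.eq_one_iff _).mp e) with r | r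
    · exact C.X_ne CaseTwo.ok_n12 (ok_one 2) (by decide +kernel)
        ((congrArg Subtype.val r).trans C.X_one.symm)
    · exact C.X_ne CaseTwo.ok_pi CaseTwo.ok_n12 CaseTwo.pi_basic.2.2.2.1
        (congrArg Subtype.val r).symm
  obtain ⟨Q, hPQ⟩ := (IsPGroup.of_card (p := 3) (n := 2) (hcard.trans (by norm_num))).exists_le_sylow
  have hQ : (Q : Subgroup (H ⧸ Z)) = Pq := by
    refine le_antisymm ?_ hPQ
    by_contra hle
    haveI : Group.IsNilpotent (Q : Subgroup (H ⧸ Z)) := Q.2.isNilpotent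
    have hlt : Pq.subgroupOf (Q : Subgroup (H ⧸ Z)) < ⊤ :=
      lt_top_iff_ne_top.mpr fun h => hle (Subgroup.subgroupOf_eq_top.mp h)
    obtain ⟨n, hn, hn'⟩ := SetLike.exists_of_lt (Group.normalizerCondition_of_isNilpotent _ hlt)
    obtain ⟨h, hh⟩ := QuotientGroup.mk'_surjective Z (n : H ⧸ Z)
    have hN : (h : G) ∈ C.N := hnorm h fun v => by
      rw [hh]
      exact (Subgroup.mem_normalizer_iff.mp hn ⟨q (τ v), hPQ (hPq v)⟩).mp
        (Subgroup.mem_subgroupOf.mpr (hPq v))
    obtain ⟨v, r | r⟩ := hsplit h hN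
    · exact hn' (Subgroup.mem_subgroupOf.mpr (hh ▸ r ▸ hPq v))
    · have hm : q tn ∈ (Q : Subgroup (H ⧸ Z)) := by
        have := mul_mem (inv_mem n.2) (hPQ (r ▸ hPq v : q h * q tn ∈ Pq))
        rwa [hh, inv_mul_cancel_left] at this
      obtain ⟨k, hk⟩ := IsPGroup.iff_orderOf.mp Q.2 ⟨_, hm⟩
      rw [Subgroup.orderOf_mk] at hk
      have h2 : orderOf (q tn) ∣ 2 := orderOf_dvd_of_pow_eq_one (by
        rw [pow_two, ← map_mul, htn2, map_one])
      rw [hk] at h2
      have := Nat.eq_one_of_dvd_coprimes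
        (((Nat.coprime_primes Nat.prime_three Nat.prime_two).2 (by norm_num)).pow_left k) dvd_rfl h2
      rw [← hk] at this
      exact htq (orderOf_eq_one_iff.mp this)
  have hmemQ : ∀ {x}, x ∈ (Q : Subgroup (H ⧸ Z)) ↔ ∃ v, q (τ v) = x := by
    intro x; rw [hQ]; exact Iff.rfl
  have hq3 : ∀ v, q (τ v) ^ 3 = 1 := fun v => by
    rw [pow_succ, pow_two, ← map_mul, ← map_mul, hτ3, map_one]
  have hqcomm : ∀ v w, q (τ v) * q (τ w) = q (τ w) * q (τ v) := fun v w => by
    rw [← map_mul, ← map_mul]; exact congrArg q (Subtype.ext (C.T_comm _ _).eq)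
  have hunit : ∀ (h : H) (v : {v : Vec // v.1 = v.2.1}), q h * q (τ v) = q (τ v) * q h →
      Commute (h : G) (C.T v) := by
    intro h v hc
    refine commute_of_conj_two (congrArg Subtype.val (hlift (h * τ v * h⁻¹) (τ v) ?_ (hτ3 v) ?_))
    · rw [show h * τ v * h⁻¹ * (h * τ v * h⁻¹) * (h * τ v * h⁻¹) =
        h * (τ v * τ v * τ v) * h⁻¹ by group, hτ3, mul_one, mul_inv_cancel]
    · rw [map_mul, map_mul, map_inv, hc, mul_inv_cancel_right]
  have hcoprime_one : ∀ {W : Subgroup (H ⧸ Z)}, (Nat.card W).Coprime 3 → ∀ x ∈ W, x ^ 3 = 1 →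
      x = 1 := by
    intro W hW x hx h3
    have h1 := Nat.dvd_gcd (Subgroup.orderOf_dvd_natCard W hx) (orderOf_dvd_of_pow_eq_one h3)
    rw [hW.gcd_eq_one] at h1
    exact orderOf_eq_one_iff.mp (Nat.dvd_one.mp h1)
  have main := PSp43Amalgam.local_structure Q (zpowers (q (τ ev)))
    (by rw [zpowers_le]; exact hmemQ.mpr ⟨ev, rfl⟩)
    (fun a ha b hb => by
      obtain ⟨v, rfl⟩ := hmemQ.mp ha
      obtain ⟨w, rfl⟩ := hmemQ.mp hb
      exact hqcomm v w)
    (fun a ha => by obtain ⟨v, rfl⟩ := hmemQ.mp ha; exact hq3 v)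
    (fun n hn d hd => by
      obtain ⟨i, rfl⟩ := mem_zpowers_iff.mp hd
      obtain ⟨h, rfl⟩ := QuotientGroup.mk'_surjective Z n
      have hN : (h : G) ∈ C.N := hnorm h fun v => by
        rw [← hQ] at *
        exact (Subgroup.mem_normalizer_iff.mp hn _).mp (hmemQ.mpr ⟨v, rfl⟩)
      obtain ⟨m, hm, hc, e⟩ := C.mem_N_commute_two hN CaseTwo.ok_pi (hHc h)
      have hce : Commute h (τ ev) := by
        refine Subtype.ext (commute_of_conj_two (a := (h : G)) (b := (τ ev : G)) ?_).eq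
        rw [hev, ← e, C.X_conj_T hm, CaseTwo.cent_pi_e3 m hm hc]
      exact ((hce.map q).zpow_right i).eq)
    (r := q (τ fv)) (t := q tn) (hmemQ.mpr ⟨fv, rfl⟩)
    (fun e => by
      have := hlift (τ fv) 1 (hτ3 fv) (by simp) (e.trans (map_one q).symm)
      exact absurd (C.T_inj ((congrArg Subtype.val this).trans C.T_zero.symm)) (by decide +kernel))
    (by rw [← map_mul, htn2, map_one])
    (by
      rw [← map_mul, ← map_mul, ← map_inv]
      refine congrArg q (Subtype.ext ?_)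
      rw [Subgroup.coe_mul, Subgroup.coe_mul, Subgroup.coe_inv, hfv, htn]
      show C.X (lin 18) * C.X (tr (1, 1, 0)) * C.X (lin 18) = (C.T (1, 1, 0))⁻¹
      rw [← C.X_mul CaseTwo.ok_n12 (ok_one 2),
        ← C.X_mul (ok_mul 2 _ _ CaseTwo.ok_n12 (ok_one 2)) CaseTwo.ok_n12,
        CaseTwo.pi_basic.2.2.2.2.2.1, ← C.T_neg]
      rfl)
    (fun d hd => by
      obtain ⟨i, rfl⟩ := mem_zpowers_iff.mp hd
      refine (((show Commute tn (τ ev) from ?_).map q).zpow_right i).eq
      refine Subtype.ext ?_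
      rw [Subgroup.coe_mul, Subgroup.coe_mul, hev, htn]
      exact ((C.X_commute CaseTwo.ok_n12 (ok_one 2)).mpr CaseTwo.cent_n12_e3).eq)
    (fun x hx => by
      obtain ⟨v, rfl⟩ := hmemQ.mp hx
      obtain ⟨i, j, e⟩ := CaseTwo.plane_coords v.1 v.2
      refine ⟨q (τ ev) ^ (j.val : ℤ), zpow_mem (mem_zpowers _) _, i.val, ?_⟩
      rw [zpow_natCast, zpow_natCast, ← map_pow, ← map_pow, ← map_mul]
      refine congrArg q (Subtype.ext ?_)
      rw [Subgroup.coe_mul, Subgroup.coe_pow, Subgroup.coe_pow, hev, hfv, hτv, ← C.T_nsmul, ← C.T_nsmul, ← C.T_add, add_comm, e])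
    (fun x hx => by
      obtain ⟨h, rfl⟩ := QuotientGroup.mk'_surjective Z x
      have hc := hunit h fv hx
      have hN := C.allLe_two fv.1 (by decide +kernel) (fun e => absurd e (by decide)) _ hc
      obtain ⟨m, hm, hcp, e⟩ := C.mem_N_commute_two hN CaseTwo.ok_pi (hHc h)
      rw [← e] at hc
      have hf : lact m.w (1, 1, 0) = (1, 1, 0) := by
        refine C.T_inj ?_
        rw [← C.X_conj_T hm]
        exact conj_eq_two hc
      refine hmemQ.mpr ⟨⟨m.v, (CaseTwo.cent_pi m hm hcp).1⟩, ?_⟩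
      rcases CaseTwo.cent_pi_f m hm hcp hf with r | r
      · exact congrArg q (Subtype.ext ((congrArg C.X r).symm.trans e))
      · refine QuotientGroup.eq.mpr ?_
        have : h = τ ⟨m.v, (CaseTwo.cent_pi m hm hcp).1⟩ * pH := Subtype.ext (by
          rw [← e, Subgroup.coe_mul, hτv]
          exact (congrArg C.X r).trans (C.X_mul (ok_one 2) CaseTwo.ok_pi))
        rw [this, inv_mul_cancel_left]
        exact mem_zpowers _)
    (fun x hx => by
      obtain ⟨h, rfl⟩ := QuotientGroup.mk'_surjective Z x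
      have hc := hunit h ev (hx _ (mem_zpowers _))
      have hN := C.allLe_two ev.1 (by decide +kernel) (fun e => absurd e (by decide)) _ hc
      obtain ⟨v, r | r⟩ := hsplit h hN
      · exact Or.inl (hmemQ.mpr ⟨v, r.symm⟩)
      · exact Or.inr (hmemQ.mpr ⟨v, r.symm⟩))
    (fun W hW hQW => by
      set W' := (W.comap q).map H.subtype with hW'def
      have hW'3 : ¬ 3 ∣ Nat.card W' := by
        intro hd
        obtain ⟨a, ha⟩ := exists_prime_orderOf_dvd_card' (G := W') 3 hd
        obtain ⟨⟨b, hbW, hb⟩⟩ : Nonempty {b : H // q b ∈ W ∧ (b : G) = (a : G)} := by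
          obtain ⟨b, hb, hb'⟩ := Subgroup.mem_map.mp a.2
          exact ⟨⟨b, hb, hb'⟩⟩
        have hb3 : b * b * b = 1 := Subtype.ext (by
          have := pow_orderOf_eq_one a
          rw [ha, pow_succ, pow_two] at this
          show (b : G) * b * b = 1
          rw [hb]
          exact congrArg Subtype.val this)
        have hq1 := hcoprime_one hW _ hbW (by
          rw [pow_succ, pow_two, ← map_mul, ← map_mul, hb3, map_one])
        have := hlift b 1 hb3 (by simp) (hq1.trans (map_one q).symm)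
        have : a = 1 := Subtype.ext (hb.symm.trans (congrArg Subtype.val this))
        rw [this, orderOf_one] at ha
        norm_num at ha
      let A : Subgroup G :=
        { carrier := {x | ∃ v : Vec, v.1 = v.2.1 ∧ C.T v = x}
          one_mem' := ⟨0, rfl, C.T_zero⟩
          mul_mem' := by
            rintro _ _ ⟨a, ha, rfl⟩ ⟨b, hb, rfl⟩
            exact ⟨a + b, by show a.1 + b.1 = a.2.1 + b.2.1; rw [ha, hb], C.T_add _ _⟩
          inv_mem' := by
            rintro _ ⟨a, ha, rfl⟩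
            exact ⟨-a, by show -a.1 = -a.2.1; rw [ha], C.T_neg _⟩ }
      have hAel : Cfsg.IsElementaryAbelian 3 A := by
        refine ⟨⟨⟨?_⟩⟩, ?_⟩
        · rintro ⟨_, a, _, rfl⟩ ⟨_, b, _, rfl⟩
          exact Subtype.ext (C.T_comm a b).eq
        · rintro _ ⟨a, _, rfl⟩
          rw [pow_succ, pow_two, C.T_cube]
      have hconjW : ∀ (v : {v : Vec // v.1 = v.2.1}) (b : G), b ∈ W' →
          C.T v * b * (C.T v)⁻¹ ∈ W' := by
        rintro v _ ⟨b, hb, rfl⟩
        refine ⟨τ v * b * (τ v)⁻¹, ?_, rfl⟩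
        show q (τ v * b * (τ v)⁻¹) ∈ W
        rw [map_mul, map_mul, map_inv]
        exact (Subgroup.mem_normalizer_iff.mp (hQW (hmemQ.mpr ⟨v, rfl⟩)) _).mp hb
      have hAW : A ≤ normalizer (W' : Set G) := by
        rintro _ ⟨v, hv, rfl⟩
        exact Subgroup.mem_normalizer_fintype fun b hb => hconjW ⟨v, hv⟩ b hb
      have hcardA : Nat.card A = 9 := by
        let f : {v : Vec // v.1 = v.2.1} → A := fun v => ⟨C.T v, v.1, v.2, rfl⟩
        have hf : Function.Bijective f := by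
          refine ⟨fun a b h => Subtype.ext (C.T_inj (congrArg Subtype.val h)), ?_⟩
          rintro ⟨_, v, hv, rfl⟩
          exact ⟨⟨v, hv⟩, rfl⟩
        rw [← Nat.card_eq_of_bijective f hf, Nat.card_eq_fintype_card]
        decide +kernel
      have hW'N : W' ≤ C.N := by
        refine (Hyperplane.le_iSup_centralizer hAel hW'3 hAW).trans (iSup_le fun B => ?_)
        obtain ⟨b, hbB, hb1⟩ : ∃ b ∈ (B : Subgroup G), b ≠ 1 := by
          by_contra hno
          push_neg at hno
          have hB : (B : Subgroup G) = ⊥ := (Subgroup.eq_bot_iff_forall _).mpr hno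
          have := B.2.2
          rw [hB, Subgroup.relIndex_bot_left, hcardA] at this
          norm_num at this
        obtain ⟨v, -, rfl⟩ := B.2.1 hbB
        have hv0 : v ≠ 0 := fun e => hb1 (by rw [e, C.T_zero])
        exact fun x hx => C.allLe_two v hv0 (fun e => absurd e (by decide)) x
          (Subgroup.mem_centralizer_iff.mp hx.2 _ hbB).symm
      refine (Subgroup.eq_bot_iff_forall _).mpr fun x hx => ?_
      obtain ⟨h, rfl⟩ := QuotientGroup.mk'_surjective Z x
      have hhW : (h : G) ∈ W' := ⟨h, hx, rfl⟩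
      obtain ⟨m, hm, hcp, e⟩ := C.mem_N_commute_two (hW'N hhW) CaseTwo.ok_pi (hHc h)
      have hfix : lact m.w (1, 1, 0) = (1, 1, 0) := by
        refine C.T_inj ?_
        have h1 : (h : G) * C.T (1, 1, 0) * (h : G)⁻¹ * (C.T (1, 1, 0))⁻¹ ∈ W' := by
          have := mul_mem hhW (hconjW fv _ (inv_mem hhW))
          simpa [mul_assoc] using this
        rw [← e, C.X_conj_T hm, ← C.T_neg, ← C.T_add] at h1
        by_contra hne
        have h3 : orderOf (C.T (lact m.w (1, 1, 0) + -(1, 1, 0))) = 3 := by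
          refine orderOf_eq_prime (by rw [pow_succ, pow_two, C.T_cube]) fun e1 => hne ?_
          have e2 := C.T_inj (e1.trans C.T_zero.symm)
          rw [← sub_eq_add_neg, sub_eq_zero] at e2
          rw [e2]
        exact hW'3 (h3 ▸ Subgroup.orderOf_dvd_natCard W' h1)
      have hhv : ∃ v, q h = q (τ v) := by
        refine ⟨⟨m.v, (CaseTwo.cent_pi m hm hcp).1⟩, ?_⟩
        rcases CaseTwo.cent_pi_f m hm hcp hfix with r | r
        · exact congrArg q (Subtype.ext (e.symm.trans (congrArg C.X r)))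
        · symm
          refine QuotientGroup.eq.mpr ?_
          have : h = τ ⟨m.v, (CaseTwo.cent_pi m hm hcp).1⟩ * pH := Subtype.ext (by
            rw [← e, Subgroup.coe_mul, hτv]
            exact (congrArg C.X r).trans (C.X_mul (ok_one 2) CaseTwo.ok_pi))
          rw [this, inv_mul_cancel_left]
          exact mem_zpowers _
      obtain ⟨v, hv⟩ := hhv
      exact hcoprime_one hW _ hx (by rw [hv]; exact hq3 v))
  rcases main (q ⟨g, hmemH hg⟩) with h | h
  · obtain ⟨v, hv⟩ := hmemQ.mp h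
    rcases hZ _ (QuotientGroup.eq.mp hv) with e | e
    · have := congrArg Subtype.val (inv_mul_eq_one.mp e)
      exact (show C.T v.1 = g from this) ▸ C.X_mem_N _
    · have : (⟨g, hmemH hg⟩ : H) = τ v * pH := by rw [← e, mul_inv_cancel_left]
      have e' : g = C.T v.1 * π := by
        have := congrArg Subtype.val this
        rwa [Subgroup.coe_mul, hτv] at this
      rw [e']
      exact mul_mem (C.X_mem_N _) (C.X_mem_N _)
  · obtain ⟨v, hv⟩ := hmemQ.mp h
    rw [← map_mul] at hv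
    have hn : g * C.X (lin 18) ∈ C.N := by
      rcases hZ _ (QuotientGroup.eq.mp hv) with e | e
      · have := congrArg Subtype.val (inv_mul_eq_one.mp e)
        exact (show C.T v.1 = g * C.X (lin 18) from this) ▸ C.X_mem_N _
      · have : (⟨g, hmemH hg⟩ : H) * tn = τ v * pH := by rw [← e, mul_inv_cancel_left]
        have e' : g * C.X (lin 18) = C.T v.1 * π := by
          have := congrArg Subtype.val this
          rwa [Subgroup.coe_mul, Subgroup.coe_mul, hτv, htn] at this
        rw [e']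
        exact mul_mem (C.X_mem_N _) (C.X_mem_N _)
    simpa using mul_mem hn (inv_mem (C.X_mem_N (lin 18)))

end Ctx

end CfsgLib.SymNine40
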