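import Cfsg.Agent.SymNine40.CaseTwoPi
import Cfsg.Agent.Transfer.ThompsonTransfer

/-!
The subgroup of index two when only even sign changes occur.

* `Ctx.exists_even_two`: a normal subgroup of index two meeting the monomial group in the even
  permutations.
-/

set_option autoImplicit false
set_option maxRecDepth 20000

open Equiv Subgroup

namespace CfsgLib.SymNine40

open Mw

namespace Ctx

variable {G : Type*} [Group G] [Finite G] (C : Ctx G 2)

theorem pi_not_n12 (g : G) : g * C.X (lin 18) * g⁻¹ ≠ C.X piM := by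
  intro e
  have ho := CaseTwo.root_n12
  set a := g * C.X (piM * lin 30) * g⁻¹ with ha
  have haa : a * a = C.X piM := by
    rw [ha, show g * C.X (piM * lin 30) * g⁻¹ * (g * C.X (piM * lin 30) * g⁻¹) =
      g * (C.X (piM * lin 30) * C.X (piM * lin 30)) * g⁻¹ by group, ← C.X_mul ho.1 ho.1, ho.2, e]
  have hc : Commute a (C.X piM) := by
    rw [← haa]
    exact (Commute.refl a).mul_right (Commute.refl a)
  obtain ⟨m, hm, hcm, em⟩ := C.mem_N_commute_two (C.centPi_two hc) CaseTwo.ok_pi hc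
  refine CaseTwo.no_root_pi m hm hcm (C.X_inj (ok_mul 2 _ _ hm hm) CaseTwo.ok_pi ?_)
  rw [C.X_mul hm hm, em, haa]

theorem n12_not_pi (g : G) : g * C.X piM * g⁻¹ ≠ C.X (lin 18) := fun e =>
  C.pi_not_n12 g⁻¹ (by rw [← e]; group)

/-- The Sylow two-subgroup of the monomial group. -/
noncomputable def D2 : Subgroup G where
  carrier := {g | ∃ m, CaseTwo.InD m ∧ C.X m = g}
  one_mem' := ⟨1, CaseTwo.inD_n12.2.2.2, C.X_one⟩
  mul_mem' := by
    rintro _ _ ⟨⟨va, a⟩, ha, rfl⟩ ⟨⟨vb, b⟩, hb, rfl⟩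
    obtain rfl : va = 0 := ha.1
    obtain rfl : vb = 0 := hb.1
    exact ⟨_, CaseTwo.inD_mul a b ha hb, C.X_mul ha.2.1 hb.2.1⟩
  inv_mem' := by
    rintro _ ⟨⟨va, a⟩, ha, rfl⟩
    obtain rfl : va = 0 := ha.1
    exact ⟨_, CaseTwo.inD_inv a ha, C.X_inv ha.2.1⟩

omit [Finite G] in
theorem card_D2 : Nat.card C.D2 = 8 := by
  let f : {m : Mw // CaseTwo.InD m} → C.D2 := fun m => ⟨C.X m, m.1, m.2, rfl⟩
  have hf : Function.Bijective f := ⟨fun a b h => Subtype.ext
    (C.X_inj a.2.2.1 b.2.2.1 (congrArg Subtype.val h)), fun ⟨g, m, hm, e⟩ =>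
      ⟨⟨m, hm⟩, Subtype.ext e⟩⟩
  rw [← Nat.card_eq_of_bijective f hf, Nat.card_eq_fintype_card, CaseTwo.card_inD]

theorem sylow_two : ∃ S : Sylow 2 G, (S : Subgroup G) = C.D2 := by
  classical
  haveI : Fact (Nat.Prime 2) := ⟨Nat.prime_two⟩
  obtain ⟨S, hS⟩ := (IsPGroup.of_card (p := 2) (n := 3)
    (C.card_D2.trans (by norm_num))).exists_le_sylow
  refine ⟨S, le_antisymm ?_ hS⟩
  by_contra hle
  haveI : Group.IsNilpotent (S : Subgroup G) := S.2.isNilpotent
  have hlt : C.D2.subgroupOf (S : Subgroup G) < ⊤ :=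
    lt_top_iff_ne_top.mpr fun h => hle (Subgroup.subgroupOf_eq_top.mp h)
  obtain ⟨n, hn, hn'⟩ := SetLike.exists_of_lt (Group.normalizerCondition_of_isNilpotent _ hlt)
  have hnD : ∀ d ∈ C.D2, (n : G) * d * (n : G)⁻¹ ∈ C.D2 ∧ (n : G)⁻¹ * d * (n : G) ∈ C.D2 := by
    intro d hd
    have h1 := fun d' : (S : Subgroup G) => Subgroup.mem_normalizer_iff.mp hn d'
    refine ⟨Subgroup.mem_subgroupOf.mp ((h1 ⟨d, hS hd⟩).mp (Subgroup.mem_subgroupOf.mpr hd)), ?_⟩
    refine Subgroup.mem_subgroupOf.mp ((h1 (n⁻¹ * ⟨d, hS hd⟩ * n)).mpr ?_)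
    rw [show n * (n⁻¹ * ⟨d, hS hd⟩ * n) * n⁻¹ = (⟨d, hS hd⟩ : (S : Subgroup G)) by group]
    exact Subgroup.mem_subgroupOf.mpr hd
  set v := C.X (lin 18) with hv
  set t := C.X piM with ht
  have hn12 := CaseTwo.inD_n12.1
  have hvD : v ∈ C.D2 := ⟨_, hn12, rfl⟩
  -- `n` centralises `v`
  have hnv : Commute (n : G) v := by
    obtain ⟨m, hm, em⟩ := (hnD v hvD).1
    suffices m = lin 18 by rw [this] at em; exact commute_of_conj_two em.symm
    refine CaseTwo.inD_center m hm (fun e => ?_) fun k hk => ?_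
    · rw [e, C.X_one, eq_comm, conj_eq_one_iff, hv, ← C.X_one] at em
      exact C.X_ne CaseTwo.ok_n12 (ok_one 2) (by decide +kernel) em
    · refine (C.X_commute hm.2.1 hk.2.1).mp ?_
      obtain ⟨k', hk', ek⟩ := (hnD _ ⟨_, hk, rfl⟩).2
      have hc : Commute v (C.X k') :=
        (C.X_commute CaseTwo.ok_n12 hk'.2.1).mpr (CaseTwo.inD_cent k' hk').symm
      have h2 := (Commute.conj_iff (n : G)).mpr hc
      rw [em, show C.X (lin k) = (n : G) * C.X k' * (n : G)⁻¹ by rw [ek]; group]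
      exact h2
  set H := centralizer ({v} : Set G) with hH
  have hmemH : ∀ {a : G}, Commute a v → a ∈ H := fun h =>
    Subgroup.mem_centralizer_singleton_iff.mpr h.eq
  have hHc : ∀ a : H, Commute (a : G) v := fun a => Subgroup.mem_centralizer_singleton_iff.mp a.2
  have hpi := CaseTwo.pi_basic
  have htv : Commute t v := (C.X_commute CaseTwo.ok_pi CaseTwo.ok_n12).mpr hpi.2.2.2.2.1
  have ht2 : t * t = 1 := by rw [← C.X_mul CaseTwo.ok_pi CaseTwo.ok_pi, hpi.1, C.X_one]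
  have hv2 : v * v = 1 := by rw [← C.X_mul CaseTwo.ok_n12 CaseTwo.ok_n12, hpi.2.1, C.X_one]
  set s := C.X (lin 36) with hs
  have hsv : Commute s v := (C.X_commute CaseTwo.ok_n23 CaseTwo.ok_n12).mpr hpi.2.2.2.2.2.2.2.1
  have hs2 : s * s = 1 := by rw [← C.X_mul CaseTwo.ok_n23 CaseTwo.ok_n23, hpi.2.2.2.2.2.2.2.2, C.X_one]
  have hst : s * t * s⁻¹ = v * t := by
    rw [C.X_conj CaseTwo.ok_n23 CaseTwo.ok_pi, hpi.2.2.2.2.2.2.1,
      C.X_mul CaseTwo.ok_n12 CaseTwo.ok_pi]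
  have hst' : s * (v * t) * s⁻¹ = t := by
    rw [← hst, show s * (s * t * s⁻¹) * s⁻¹ = (s * s) * t * (s * s)⁻¹ by group, hs2]
    group
  have htoN : ∀ {a : G}, s * a ∈ C.N → a ∈ C.N := fun {a} h => by
    have := mul_mem (inv_mem (C.X_mem_N (lin 36))) h
    rwa [← hs, inv_mul_cancel_left] at this
  obtain ⟨W, hWn, hWodd, hW⟩ := SymEight40.exists_core (G := H) ⟨t, hmemH htv⟩ ⟨v, hmemH (Commute.refl v)⟩
    (Subtype.ext ht2) (Subtype.ext hv2) (fun a => Subtype.ext (hHc a).eq)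
    (fun e => C.X_ne CaseTwo.ok_pi CaseTwo.ok_n12 hpi.2.2.2.1 (congrArg Subtype.val e))
    (fun e => C.X_ne CaseTwo.ok_pi (ok_one 2) hpi.2.2.1
      ((congrArg Subtype.val e).trans C.X_one.symm))
    (by
      intro g h
      set d := (g : G) * t * (g : G)⁻¹ with hd
      have hd2 : d * d = 1 := SymEight40.conj_sq ht2 _
      have hdv : Commute d v := by
        have := (Commute.conj_iff (g : G)).mpr htv
        rwa [conj_eq_two (hHc g), ← hd] at this
      have h' : d * t * d * t = 1 ∨ d * t * d * t = v :=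
        h.imp (congrArg Subtype.val) (congrArg Subtype.val)
      rcases h' with h' | h'
      · have hc : Commute d t := by
          refine commute_of_conj_two ?_
          rw [SymEight40.inv_of_sq hd2]
          calc d * t * d = d * t * d * (t * t) := by rw [ht2, mul_one]
            _ = t := by rw [← mul_assoc, h', one_mul]
        obtain ⟨m, hm, hcm, em⟩ := C.mem_N_commute_two (C.centPi_two hc) CaseTwo.ok_pi hc
        have hm2 : m * m = 1 := C.X_eq_one (ok_mul 2 _ _ hm hm) (by rw [C.X_mul hm hm, em, hd2])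
        have hm18 : m * lin 18 = lin 18 * m := (C.X_commute hm CaseTwo.ok_n12).mp (em ▸ hdv)
        rcases CaseTwo.iso_one m hm hm18 hm2 hcm with r | r | r | r
        · refine absurd ?_ (C.X_ne CaseTwo.ok_pi (ok_one 2) hpi.2.2.1)
          rw [r, C.X_one, eq_comm, hd, conj_eq_one_iff] at em
          exact em.trans C.X_one.symm
        · exact absurd (em.symm.trans (congrArg C.X r)) (C.n12_not_pi _)
        · exact Or.inl (Subtype.ext (em.symm.trans (congrArg C.X r)))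
        · exact Or.inr (Subtype.ext ((em.symm.trans (congrArg C.X r)).trans
            (C.X_mul CaseTwo.ok_pi CaseTwo.ok_n12)))
      · have hdtd : d * t * d⁻¹ = v * t := by
          rw [SymEight40.inv_of_sq hd2, ← h', mul_assoc (d * t * d), ht2, mul_one]
        have hc : Commute (s * d) t := by
          refine commute_of_conj_two ?_
          rw [show s * d * t * (s * d)⁻¹ = s * (d * t * d⁻¹) * s⁻¹ by group, hdtd, hst']
        obtain ⟨m, hm, em⟩ := C.mem_N.mp (htoN (C.centPi_two hc))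
        have hm2 : m * m = 1 := C.X_eq_one (ok_mul 2 _ _ hm hm) (by rw [C.X_mul hm hm, em, hd2])
        have hm18 : m * lin 18 = lin 18 * m := (C.X_commute hm CaseTwo.ok_n12).mp (em ▸ hdv)
        have hmm : m * piM * m * piM = lin 18 := by
          refine C.X_inj (ok_mul 2 _ _ (ok_mul 2 _ _ (ok_mul 2 _ _ hm CaseTwo.ok_pi) hm)
            CaseTwo.ok_pi) CaseTwo.ok_n12 ?_
          rw [C.X_mul (ok_mul 2 _ _ (ok_mul 2 _ _ hm CaseTwo.ok_pi) hm) CaseTwo.ok_pi,
            C.X_mul (ok_mul 2 _ _ hm CaseTwo.ok_pi) hm, C.X_mul hm CaseTwo.ok_pi, em, h']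
        obtain ⟨a, ha, ea⟩ := CaseTwo.iso_two m hm hm18 hm2 hmm
        refine absurd ?_ (C.pi_not_n12 ((g : G)⁻¹ * C.X a))
        calc (g : G)⁻¹ * C.X a * C.X (lin 18) * ((g : G)⁻¹ * C.X a)⁻¹
            = (g : G)⁻¹ * (C.X a * C.X (lin 18) * (C.X a)⁻¹) * (g : G) := by group
          _ = (g : G)⁻¹ * d * (g : G) := by rw [C.X_conj ha CaseTwo.ok_n12, ea, em]
          _ = t := by rw [hd]; group)
  set NH := C.N.subgroupOf H with hNH
  have hcard : Nat.card NH = 24 := by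
    let f : {m : Mw // Ok 2 m.w ∧ m * lin 18 = lin 18 * m} → NH := fun m =>
      ⟨⟨C.X m, hmemH ((C.X_commute m.2.1 CaseTwo.ok_n12).mpr m.2.2)⟩,
        Subgroup.mem_subgroupOf.mpr (C.X_mem_N _)⟩
    have hf : Function.Bijective f := by
      refine ⟨fun a b h => Subtype.ext (C.X_inj a.2.1 b.2.1
        (congrArg (fun z : NH => ((z : H) : G)) h)), fun z => ?_⟩
      obtain ⟨m, hm, hc, em⟩ := C.mem_N_commute_two (Subgroup.mem_subgroupOf.mp z.2) CaseTwo.ok_n12
        (hHc z.1)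
      exact ⟨⟨m, hm, hc⟩, Subtype.ext (Subtype.ext em)⟩
    rw [← Nat.card_eq_of_bijective f hf, Nat.card_eq_fintype_card, CaseTwo.cent_n12_card]
  haveI := hWn
  set p := QuotientGroup.mk' W with hp
  have hall : ∀ a : H, ∃ b ∈ NH, p b = p a := by
    intro a
    obtain ⟨x, hx, h⟩ := hW a
    refine ⟨x * a, Subgroup.mem_subgroupOf.mpr ?_, ?_⟩
    · rcases h with h | h
      · exact C.centPi_two (commute_of_conj_two (congrArg Subtype.val h))
      · refine htoN (C.centPi_two (commute_of_conj_two ?_))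
        have h' : ((x * a : H) : G) * t * ((x * a : H) : G)⁻¹ = v * t :=
          (congrArg Subtype.val h).trans htv.eq
        rw [show s * ((x * a : H) : G) * C.X piM * (s * ((x * a : H) : G))⁻¹ =
          s * (((x * a : H) : G) * t * ((x * a : H) : G)⁻¹) * s⁻¹ by rw [ht]; group, h', hst']
    · rw [map_mul, show p x = 1 from (QuotientGroup.eq_one_iff x).mpr hx, one_mul]
  set R := ((S : Subgroup G) ⊓ H).subgroupOf H with hR
  have hR2 : IsPGroup 2 R :=
    (S.2.to_le inf_le_left).of_equiv (Subgroup.subgroupOfEquivOfLe inf_le_right).symm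
  have hinj : Function.Injective (p.comp R.subtype) := by
    rw [injective_iff_map_eq_one]
    intro r hr
    have hrW : (r : H) ∈ W := (QuotientGroup.eq_one_iff _).mp hr
    obtain ⟨k, hk⟩ := IsPGroup.iff_orderOf.mp hR2 r
    rw [← Subgroup.orderOf_coe] at hk
    have h1 := Subgroup.orderOf_dvd_natCard W hrW
    rw [hk] at h1
    have := Nat.eq_one_of_dvd_coprimes ((Nat.coprime_two_left.mpr hWodd).pow_left k) dvd_rfl h1
    rw [← hk] at this
    exact Subtype.ext (orderOf_eq_one_iff.mp this)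
  have hdvd : Nat.card R ∣ 24 := by
    rw [Nat.card_congr (MonoidHom.ofInjective hinj).toEquiv, ← hcard]
    refine (Subgroup.card_dvd_of_le ?_).trans (Subgroup.card_map_dvd NH p)
    rintro _ ⟨r, rfl⟩
    obtain ⟨b, hb, e⟩ := hall r
    exact ⟨b, hb, e⟩
  have hDR : C.D2 ≤ (S : Subgroup G) ⊓ H := fun d hd => ⟨hS hd, by
    obtain ⟨m, hm, rfl⟩ := hd
    exact hmemH ((C.X_commute hm.2.1 CaseTwo.ok_n12).mpr (CaseTwo.inD_cent m hm))⟩
  have hcR : Nat.card R = Nat.card ((S : Subgroup G) ⊓ H : Subgroup G) :=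
    Nat.card_congr (Subgroup.subgroupOfEquivOfLe inf_le_right).toEquiv
  obtain ⟨k, hk⟩ := IsPGroup.iff_card.mp hR2
  rw [hk] at hdvd
  have hk3 : k ≤ 3 := by
    by_contra hk4
    have := (Nat.pow_dvd_pow 2 (not_le.mp hk4)).trans hdvd
    norm_num at this
  have heq : C.D2 = (S : Subgroup G) ⊓ H := Subgroup.eq_of_le_of_card_ge hDR (by
    rw [C.card_D2, ← hcR, hk]
    exact Nat.pow_le_pow_right (by norm_num) hk3)
  exact hn' (Subgroup.mem_subgroupOf.mpr (heq.symm ▸ ⟨n.2, hmemH hnv⟩))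

theorem exists_even_two : ∃ M : Subgroup G, M.Normal ∧ M.index = 2 ∧
    ∀ m : Mw, Ok 2 m.w → (C.X m ∈ M ↔ CaseTwo.Ev m.w) := by
  classical
  obtain ⟨S, hS⟩ := C.sylow_two
  let V : Subgroup G :=
    { carrier := {g | ∃ m, (CaseTwo.InD m ∧ pcode m.w = 0) ∧ C.X m = g}
      one_mem' := ⟨1, ⟨CaseTwo.inD_n12.2.2.2, rfl⟩, C.X_one⟩
      mul_mem' := by
        rintro _ _ ⟨⟨va, a⟩, ha, rfl⟩ ⟨⟨vb, b⟩, hb, rfl⟩
        obtain rfl : va = 0 := ha.1.1
        obtain rfl : vb = 0 := hb.1.1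
        refine ⟨_, ⟨CaseTwo.inD_mul a b ha.1 hb.1, ?_⟩, C.X_mul ha.1.2.1 hb.1.2.1⟩
        exact (by decide +kernel : ∀ a b : Fin 48, pcode a = 0 → pcode b = 0 →
          pcode (lmul a b) = 0) a b ha.2 hb.2
      inv_mem' := by
        rintro _ ⟨⟨va, a⟩, ha, rfl⟩
        obtain rfl : va = 0 := ha.1.1
        refine ⟨_, ⟨CaseTwo.inD_inv a ha.1, ?_⟩, C.X_inv ha.1.2.1⟩
        exact (by decide +kernel : ∀ a : Fin 48, pcode a = 0 → pcode (linv a) = 0) a ha.2 }
  have hVS : V ≤ (S : Subgroup G) := by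
    rintro _ ⟨m, hm, rfl⟩
    rw [hS]
    exact ⟨m, hm.1, rfl⟩
  have hcV : Nat.card V = 4 := by
    let f : {m : Mw // CaseTwo.InD m ∧ pcode m.w = 0} → V := fun m => ⟨C.X m, m.1, m.2, rfl⟩
    have hf : Function.Bijective f := ⟨fun a b h => Subtype.ext
      (C.X_inj a.2.1.2.1 b.2.1.2.1 (congrArg Subtype.val h)), fun ⟨g, m, hm, e⟩ =>
        ⟨⟨m, hm⟩, Subtype.ext e⟩⟩
    rw [← Nat.card_eq_of_bijective f hf, Nat.card_eq_fintype_card, CaseTwo.card_inD_sign]
  have hidx : V.relIndex (S : Subgroup G) = 2 := by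
    have := (V.subgroupOf (S : Subgroup G)).card_mul_index
    rw [Nat.card_congr (Subgroup.subgroupOfEquivOfLe hVS).toEquiv, hcV,
      show Nat.card (S : Subgroup G) = 8 by rw [hS]; exact C.card_D2] at this
    unfold Subgroup.relIndex
    omega
  have hpi := CaseTwo.pi_basic
  have hord : orderOf (C.X piM) = 2 := orderOf_eq_prime
    (by rw [pow_two, ← C.X_mul CaseTwo.ok_pi CaseTwo.ok_pi, hpi.1, C.X_one])
    (fun e => C.X_ne CaseTwo.ok_pi (ok_one 2) hpi.2.2.1 (e.trans C.X_one.symm))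
  rcases Transfer.thompsonTransferLemma S V hVS hidx _ hord (hS ▸ ⟨_, CaseTwo.inD_n12.2.1, rfl⟩)
    (by
      rintro ⟨m, hm, e⟩
      rw [C.X_inj hm.1.2.1 CaseTwo.ok_pi e] at hm
      exact absurd hm.2 (by decide +kernel)) with ⟨M, hMn, hM2, hπM⟩ | ⟨g, m, hm, e⟩
  · refine ⟨M, hMn, hM2, ?_⟩
    have hev : ∀ m : Mw, Ok 2 m.w → CaseTwo.Ev m.w → C.X m ∈ M := by
      intro m hm he
      obtain ⟨a, b, ha, hb, e⟩ := CaseTwo.even_squares m.w hm he
      have h1 : m = tr (-m.v) * tr (-m.v) * (lin a * lin a * (lin b * lin b)) := by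
        rw [← CaseTwo.translation_root]
        obtain ⟨v, w⟩ := m
        subst e
        simp only [Mw.lin, Mw.tr, Mw.mul_def, lact_zero, add_zero,
          (lmul_zero _).2.1, (by decide +kernel : ∀ a, lact a 0 = 0)]
      rw [h1, C.X_mul (ok_mul 2 _ _ (ok_one 2) (ok_one 2))
        (ok_mul 2 _ _ (ok_mul 2 _ _ ha ha) (ok_mul 2 _ _ hb hb)),
        C.X_mul (ok_one 2) (ok_one 2), C.X_mul (ok_mul 2 _ _ ha ha) (ok_mul 2 _ _ hb hb),
        C.X_mul ha ha, C.X_mul hb hb]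
      exact mul_mem (Subgroup.mul_self_mem_of_index_two hM2 _)
        (mul_mem (Subgroup.mul_self_mem_of_index_two hM2 _)
          (Subgroup.mul_self_mem_of_index_two hM2 _))
    intro m hm
    refine ⟨fun h => ?_, hev m hm⟩
    by_contra he
    have h1 := hev (m * piM) (ok_mul 2 _ _ hm CaseTwo.ok_pi) (CaseTwo.odd_pi m.w hm he)
    rw [C.X_mul hm CaseTwo.ok_pi] at h1
    exact hπM ((mul_mem_cancel_left h).mp h1)
  · exfalso
    by_cases h1 : m = 1
    · rw [h1, C.X_one, eq_comm, conj_eq_one_iff] at e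
      rw [e, orderOf_one] at hord
      norm_num at hord
    · obtain ⟨a, ha, ea⟩ := CaseTwo.inD_sign m hm.1 hm.2 h1
      refine C.pi_not_n12 (g⁻¹ * C.X a) ?_
      calc g⁻¹ * C.X a * C.X (lin 18) * (g⁻¹ * C.X a)⁻¹
          = g⁻¹ * (C.X a * C.X (lin 18) * (C.X a)⁻¹) * g := by group
        _ = g⁻¹ * (g * C.X piM * g⁻¹) * g := by rw [C.X_conj ha CaseTwo.ok_n12, ea, e]
        _ = C.X piM := by group

end Ctx

end CfsgLib.SymNine40
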