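import Cfsg.Agent.SymNine40.Interface
import Cfsg.Agent.SymNine40.Reflect
import Cfsg.Agent.SymNine40.Quot

/-!
Preparations for the centraliser of the exchange of two blocks.

* `not_conj`: the sign change of the last block is conjugate to none of four other involutions.
* `recognise`: its conjugates among the involutions commuting with it.
* `blockGroup`: the subgroup in the statement.
-/

set_option autoImplicit false
set_option maxRecDepth 20000

open Equiv Subgroup

namespace CfsgLib.SymNine40.PiCent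

open Mw

/-- The rotation of the first two blocks. -/
def qSix : Perm (Fin 6) := swap 0 1 * swap 1 2 * (swap 3 4 * swap 4 5)

theorem ok3 : ∀ a, Ok 3 a := by decide +kernel

theorem piSix_sq : piSix * piSix = 1 := by decide +kernel

theorem classify6 : ∀ p : Perm (Fin 6), p * piSix = piSix * p → p * p = 1 →
    p = 1 ∨ p = swap 0 3 ∨ p = swap 1 4 ∨ p = swap 2 5 ∨
      ∃ q : Perm (Fin 6), q * p * q⁻¹ = swap 1 2 * swap 4 5 ∨ q * p * q⁻¹ = piSix := by
  decide +kernel

theorem swaps_conj : ∀ p : Perm (Fin 6), p = swap 0 3 ∨ p = swap 1 4 ∨ p = swap 2 5 →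
    ∃ q : Perm (Fin 6), q * p * q⁻¹ = swap 1 2 := by decide +kernel

theorem mono24 : ∀ a : Fin 48, ∀ b ∈ ([18, 2, 26, 42] : List (Fin 48)),
    lmul (lmul a 24) (linv a) ≠ b := by decide +kernel

variable {G : Type*} [Group G] {C : Ctx G 3}

theorem allLe3 [Finite G] (C : Ctx G 3) : C.AllLe :=
  C.allLe_of fun _ => C.centLe_klein_three

/-- The sign change of the last block. -/
noncomputable abbrev sgn (C : Ctx G 3) : G := C.X (lin 24)

theorem sgn_sq : sgn C * sgn C = 1 := by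
  rw [← C.X_mul (ok3 _) (ok3 _), (by decide +kernel : lin 24 * lin 24 = 1), C.X_one]

theorem sgn_ne : sgn C ≠ 1 := fun h =>
  (by decide +kernel : lin 24 ≠ 1) (C.X_eq_one (ok3 _) h)

theorem not_mono {g : G} (hg : g ∈ C.N) {b : Fin 48}
    (hb : b ∈ ([18, 2, 26, 42] : List (Fin 48))) : g * sgn C * g⁻¹ ≠ C.X (lin b) := by
  obtain ⟨m, hm, rfl⟩ := C.mem_N.mp hg
  rw [C.X_conj hm (ok3 _)]
  exact fun e => mono24 m.w b hb (congrArg Mw.w (C.X_inj (ok3 _) (ok3 _) e))

theorem T_nsmul (v : Vec) (n : ℕ) : C.T (n • v) = C.T v ^ n := by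
  induction n with
  | zero => rw [zero_smul, C.T_zero, pow_zero]
  | succ n ih => rw [succ_nsmul, C.T_add, ih, pow_succ]

/-- Translations along the first two blocks. -/
noncomputable def planeGroup (C : Ctx G 3) : Subgroup G where
  carrier := {g | ∃ a b, g = C.T (a, b, 0)}
  one_mem' := ⟨0, 0, C.T_zero.symm⟩
  mul_mem' := by
    rintro _ _ ⟨a, b, rfl⟩ ⟨c, d, rfl⟩
    exact ⟨a + c, b + d, by rw [← C.T_add]; rfl⟩
  inv_mem' := by
    rintro _ ⟨a, b, rfl⟩
    exact ⟨-a, -b, by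
      rw [← C.T_neg, (by decide : ∀ a b : Fin 3, -((a, b, 0) : Vec) = (-a, -b, 0)) a b]⟩

theorem sgn_comm_plane (a b : Fin 3) : Commute (C.T (a, b, 0)) (sgn C) :=
  (C.X_commute (ok_one 3) (ok3 _)).mpr
    ((by decide +kernel : ∀ a b : Fin 3, tr (a, b, 0) * lin 24 = lin 24 * tr (a, b, 0)) a b)

/-- The four short translations of the plane. -/
def short4 : List Vec := [(1, 0, 0), (-1, 0, 0), (0, 1, 0), (0, -1, 0)]

theorem short4_centLe : ∀ a b : Fin 3, (a, b, (0 : Fin 3)) ≠ (0 : Vec) →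
    (a, b, (0 : Fin 3)) ∉ short4 → ¬ Wt1 (a, b, 0) ∧
      ∀ w : Fin 48, lact w (a, b, 0) ∉ short4 ∧ lact w (a, b, 0) ≠ e3 := by
  decide +kernel

theorem plane_three [Finite G] {g : G} (hu : Commute g (sgn C)) {k : ℕ} (hk : g ^ 3 ^ k = 1)
    (hn : ∀ a b, ∃ a' b', g * C.T (a, b, 0) * g⁻¹ = C.T (a', b', 0)) : g ∈ planeGroup C := by
  have himg : ∀ a b : Fin 3, (a, b, (0 : Fin 3)) ∈ short4 →
      ∃ w ∈ short4, g * C.T (a, b, 0) * g⁻¹ = C.T w := by
    intro a b hab
    obtain ⟨a', b', e⟩ := hn a b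
    refine ⟨_, ?_, e⟩
    by_contra hw
    have h0 : (a', b', (0 : Fin 3)) ≠ (0 : Vec) := fun h0 => by
      rw [h0, C.T_zero, conj_eq_one_iff, ← C.T_zero] at e
      exact (by decide : ∀ a b : Fin 3, (a, b, (0 : Fin 3)) ∈ short4 → (a, b, (0 : Fin 3)) ≠ (0 : Vec))
        a b hab (C.T_inj e)
    obtain ⟨hwt, hno⟩ := short4_centLe a' b' h0 hw
    have e' : g⁻¹ * C.T (a', b', 0) * g⁻¹⁻¹ = C.T (a, b, 0) := by rw [← e]; group
    obtain ⟨m, hm, he⟩ := C.mem_N.mp
      (C.mem_N_of_conj_T (allLe3 C _ h0 fun _ => hwt) e')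
    rw [← he, C.X_conj_T hm] at e'
    exact (hno m.w).1 (C.T_inj e' ▸ hab)
  obtain ⟨w1, hw1, i1⟩ := himg 1 0 (by decide)
  obtain ⟨w2, hw2, i2⟩ := himg 0 1 (by decide)
  have hne : w2 ≠ w1 ∧ w2 ≠ -w1 := by
    constructor
    · rintro rfl
      exact (by decide : ((0, 1, 0) : Vec) ≠ (1, 0, 0))
        (C.T_inj (mul_left_cancel (mul_right_cancel (i2.trans i1.symm))))
    · rintro rfl
      have : g * C.T (-(1, 0, 0)) * g⁻¹ = C.T (-w1) := by
        rw [C.T_neg, C.T_neg, ← i1]; group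
      exact (by decide : ((0, 1, 0) : Vec) ≠ -(1, 0, 0))
        (C.T_inj (mul_left_cancel (mul_right_cancel (i2.trans this.symm))))
  let L : Vec → Vec := fun v => v.1.val • w1 + v.2.1.val • w2
  have hL : ∀ a b : Fin 3, g * C.T (a, b, 0) * g⁻¹ = C.T (L (a, b, 0)) := by
    intro a b
    have hv : ((a, b, 0) : Vec) = a.val • ((1, 0, 0) : Vec) + b.val • ((0, 1, 0) : Vec) :=
      (by decide +kernel : ∀ a b : Fin 3,
        ((a, b, 0) : Vec) = a.val • ((1, 0, 0) : Vec) + b.val • ((0, 1, 0) : Vec)) a b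
    conv_lhs => rw [hv, C.T_add, T_nsmul, T_nsmul, ← conj_mul, ← conj_pow, ← conj_pow, i1, i2]
    rw [C.T_add, T_nsmul, T_nsmul]
  have hplane : ∀ v : Vec, v.2.2 = 0 → g * C.T v * g⁻¹ = C.T (L v) := by
    rintro ⟨a, b, c⟩ (rfl : c = 0)
    exact hL a b
  have hfour : ∀ w ∈ short4, ∀ w' ∈ short4, w' ≠ w → w' ≠ -w →
      let M : Vec → Vec := fun v => v.1.val • w + v.2.1.val • w'
      (∀ v : Vec, v.2.2 = 0 → (M v).2.2 = 0) ∧
      M (M (M (M (1, 0, 0)))) = (1, 0, 0) ∧ M (M (M (M (0, 1, 0)))) = (0, 1, 0) := by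
    decide +kernel
  obtain ⟨hp0, hf1, hf2⟩ := hfour w1 hw1 w2 hw2 hne.1 hne.2
  have h4 : ∀ v : Vec, v.2.2 = 0 → g ^ 4 * C.T v * (g ^ 4)⁻¹ = C.T (L (L (L (L v)))) := by
    intro v hv
    calc g ^ 4 * C.T v * (g ^ 4)⁻¹ = g * (g * (g * (g * C.T v * g⁻¹) * g⁻¹) * g⁻¹) * g⁻¹ := by
          rw [pow_succ, pow_succ, pow_succ, pow_one]
          group
      _ = _ := by
        rw [hplane v hv, hplane _ (hp0 v hv), hplane _ (hp0 _ (hp0 v hv)),
          hplane _ (hp0 _ (hp0 _ (hp0 v hv)))]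
  obtain ⟨j, hj⟩ : ∃ j : ℕ, (g ^ 4) ^ j = g := exists_pow_eq_self_of_coprime (by
    refine Nat.Coprime.coprime_dvd_right (orderOf_dvd_of_pow_eq_one hk) ?_
    exact Nat.Coprime.pow_right k (by norm_num))
  have hc : ∀ v : Vec, v.2.2 = 0 → L (L (L (L v))) = v → Commute g (C.T v) := by
    intro v hv hLv
    rw [← hj]
    refine Commute.pow_left ?_ j
    have := h4 v hv
    rw [hLv] at this
    exact mul_inv_eq_iff_eq_mul.mp this
  have hc1 := hc _ rfl hf1
  have hc2 := hc _ rfl hf2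
  have hN : g ∈ C.N := allLe3 C (1, 1, 0) (by decide) (fun _ => by decide) g (by
    rw [(by decide : ((1, 1, 0) : Vec) = (1, 0, 0) + (0, 1, 0)), C.T_add]
    exact hc1.mul_right hc2)
  obtain ⟨m, hm, rfl⟩ := C.mem_N.mp hN
  have hd := (by decide +kernel : ∀ m : Mw, m * tr (1, 0, 0) = tr (1, 0, 0) * m →
      m * tr (0, 1, 0) = tr (0, 1, 0) * m → m * lin 24 = lin 24 * m →
      ∃ a b, m = tr (a, b, 0) ∨ m = tr (a, b, 0) * lin 24) m
    ((C.X_commute hm (ok_one 3)).mp hc1) ((C.X_commute hm (ok_one 3)).mp hc2)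
    ((C.X_commute hm (ok3 _)).mp hu)
  obtain ⟨a, b, rfl | rfl⟩ := hd
  · exact ⟨a, b, rfl⟩
  · exfalso
    rw [C.X_mul (ok_one 3) (ok3 _)] at hk
    change (C.T (a, b, 0) * sgn C) ^ 3 ^ k = 1 at hk
    obtain ⟨i, hi⟩ : ∃ i, 3 ^ k = 2 * i + 1 := (Odd.pow (by decide : Odd 3) : Odd (3 ^ k))
    rw [(sgn_comm_plane a b).mul_pow, show (sgn C) ^ 3 ^ k = sgn C by
      rw [hi, pow_succ, pow_mul, sq, sgn_sq, one_pow, one_mul], ← T_nsmul] at hk
    have he := eq_inv_of_mul_eq_one_right hk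
    rw [← C.T_neg] at he
    exact (by decide +kernel : ∀ v : Vec, lin 24 ≠ tr v) _ (C.X_inj (ok3 _) (ok_one 3) he)

/-- An element of order three commuting with a conjugate of the sign change comes from the
plane. -/
theorem transport [Finite G] {g y s : G} (hy : g * sgn C * g⁻¹ = y) (hs : Commute s y)
    (hs3 : s * s * s = 1) (hs1 : s ≠ 1) :
    ∃ h a b, h * sgn C * h⁻¹ = y ∧ (a, b, (0 : Fin 3)) ≠ (0 : Vec) ∧
      h * C.T (a, b, 0) * h⁻¹ = s := by
  classical
  haveI := Fact.mk Nat.prime_three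
  set U := centralizer ({sgn C} : Set G) with hU
  have hle : planeGroup C ≤ U := by
    rintro _ ⟨a, b, rfl⟩
    exact mem_centralizer_singleton_iff.mpr (sgn_comm_plane a b).eq
  have hP0 : IsPGroup 3 ((planeGroup C).subgroupOf U) := by
    rintro ⟨⟨x, hxU⟩, hx⟩
    obtain ⟨a, b, rfl⟩ := mem_subgroupOf.mp hx
    refine ⟨1, Subtype.ext (Subtype.ext ?_)⟩
    simp only [pow_one, pow_succ, pow_zero, one_mul, Subgroup.coe_mul, OneMemClass.coe_one]
    exact C.T_cube _
  obtain ⟨P, hP⟩ := hP0.exists_le_sylow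
  have hPeq : ∀ x : U, x ∈ (P : Subgroup U) → (x : G) ∈ planeGroup C := by
    by_contra hcon
    push Not at hcon
    obtain ⟨x, hxP, hx⟩ := hcon
    set A := ((planeGroup C).subgroupOf U).subgroupOf (P : Subgroup U) with hA
    haveI : Group.IsNilpotent (P : Subgroup U) := P.2.isNilpotent
    have hlt : A < ⊤ := lt_top_iff_ne_top.mpr fun h =>
      hx (mem_subgroupOf.mp (mem_subgroupOf.mp (h ▸ mem_top (⟨x, hxP⟩ : (P : Subgroup U)))))
    obtain ⟨n, hn, hnA⟩ := SetLike.exists_of_lt (Group.normalizerCondition_of_isNilpotent _ hlt)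
    obtain ⟨k, hk⟩ := P.2 n
    refine hnA (mem_subgroupOf.mpr (mem_subgroupOf.mpr (plane_three (g := ((n : U) : G))
      (mem_centralizer_singleton_iff.mp (n : U).2) (k := k) ?_ ?_)))
    · exact congrArg (fun z : (P : Subgroup U) => ((z : U) : G)) hk
    · intro a b
      have hmem : (⟨⟨_, hle ⟨a, b, rfl⟩⟩, hP (mem_subgroupOf.mpr ⟨a, b, rfl⟩)⟩ : (P : Subgroup U))
          ∈ A := mem_subgroupOf.mpr (mem_subgroupOf.mpr ⟨a, b, rfl⟩)
      exact mem_subgroupOf.mp (mem_subgroupOf.mp ((mem_normalizer_iff.mp hn _).mp hmem))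
  have hsU : g⁻¹ * s * g ∈ U := mem_centralizer_singleton_iff.mpr (by
    rw [← show g⁻¹ * y * g = sgn C by rw [← hy]; group]
    rw [show g⁻¹ * s * g * (g⁻¹ * y * g) = g⁻¹ * (s * y) * g by group, hs.eq]
    group)
  set s' : U := ⟨_, hsU⟩
  have hs' : IsPGroup 3 (zpowers s') := by
    have h3 : s' ^ 3 = 1 := Subtype.ext (by
      simp only [pow_succ, pow_zero, one_mul, Subgroup.coe_mul, OneMemClass.coe_one, s']
      rw [show g⁻¹ * s * g * (g⁻¹ * s * g) * (g⁻¹ * s * g) = g⁻¹ * (s * s * s) * g by group, hs3,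
        mul_one, inv_mul_cancel])
    rintro ⟨x, hx⟩
    obtain ⟨i, rfl⟩ := mem_zpowers_iff.mp hx
    refine ⟨1, Subtype.ext ?_⟩
    change (s' ^ i) ^ (3 ^ 1) = 1
    rw [pow_one, ← zpow_natCast, ← zpow_mul, mul_comm, zpow_mul, zpow_natCast, h3, one_zpow]
  obtain ⟨Q, hQ⟩ := hs'.exists_le_sylow
  obtain ⟨c, hc⟩ := MulAction.exists_smul_eq U Q P
  have hcs : c * s' * c⁻¹ ∈ (P : Subgroup U) := by
    rw [← hc, Sylow.coe_subgroup_smul]
    exact smul_mem_pointwise_smul _ _ _ (hQ (mem_zpowers s'))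
  obtain ⟨a, b, hab⟩ := hPeq _ hcs
  have hcu : Commute (c : G) (sgn C) := mem_centralizer_singleton_iff.mp c.2
  have hs'' : g * (c : G)⁻¹ * C.T (a, b, 0) * (g * (c : G)⁻¹)⁻¹ = s := by
    rw [← hab]
    simp only [Subgroup.coe_mul, Subgroup.coe_inv, s']
    group
  refine ⟨g * (c : G)⁻¹, a, b, ?_, fun h0 => hs1 ?_, hs''⟩
  · calc g * (c : G)⁻¹ * sgn C * (g * (c : G)⁻¹)⁻¹
        = g * ((c : G)⁻¹ * sgn C * c) * g⁻¹ := by group
      _ = y := by rw [mul_assoc (c : G)⁻¹, hcu.symm.eq, inv_mul_cancel_left, hy]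
  · rw [← hs'', h0, C.T_zero, mul_one, mul_inv_cancel]

variable (S : C.Split)

theorem kappa_pi : S.κ piSix = C.X piM :=
  S.compat _ _ (by decide +kernel) (by decide +kernel)

theorem kappa_six : S.κ (swap 1 2) = C.X (lin 6) :=
  S.compat _ _ (by decide +kernel) (by decide +kernel)

theorem kappa_twelve : S.κ (swap 4 5) = C.X (lin 12) :=
  S.compat _ _ (by decide +kernel) (by decide +kernel)

theorem kappa_double : S.κ (swap 1 2 * swap 4 5) = C.X (lin 18) :=
  S.compat _ _ (by decide +kernel) (by decide +kernel)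

theorem kappa_rot : S.κ qSix = C.T (1, 1, 0) :=
  S.compat _ _ (by decide +kernel) (by decide +kernel)

include S in
theorem not_conj [Finite G] (g : G) {b : Fin 48} (hb : b ∈ ([18, 2, 26, 42] : List (Fin 48))) :
    g * sgn C * g⁻¹ ≠ C.X (lin b) := by
  intro e
  have key : ∀ s : Mw, s * lin b = lin b * s → s * s * s = 1 → s ≠ 1 →
      ∃ h a c, h * sgn C * h⁻¹ = C.X (lin b) ∧ (a, c, (0 : Fin 3)) ≠ (0 : Vec) ∧
        h * C.T (a, c, 0) * h⁻¹ = C.X s := fun s h1 h2 h3 =>
    transport e ((C.X_commute (ok3 _) (ok3 _)).mpr h1)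
      (by rw [← C.X_mul (ok3 _) (ok3 _), ← C.X_mul (ok3 _) (ok3 _), h2, C.X_one])
      (fun hh => h3 (C.X_eq_one (ok3 _) hh))
  have vecCase : ∀ v : Vec, v ≠ 0 → ¬ Wt1 v → tr v * lin b = lin b * tr v → False := by
    intro v h0 hwt hv
    obtain ⟨h, a, c, hu, -, hs⟩ := key (tr v) hv
      ((by decide +kernel : ∀ v : Vec, tr v * tr v * tr v = 1) v)
      (fun hh => h0 (congrArg Mw.v hh))
    have e' : h⁻¹ * C.T v * h⁻¹⁻¹ = C.T (a, c, 0) := by
      change h * C.T (a, c, 0) * h⁻¹ = C.T v at hs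
      rw [← hs]; group
    have hN := inv_mem (C.mem_N_of_conj_T (allLe3 C _ h0 fun _ => hwt) e')
    rw [inv_inv] at hN
    exact not_mono hN hb hu
  simp only [List.mem_cons, List.not_mem_nil, or_false] at hb
  rcases hb with rfl | rfl | rfl | rfl
  · obtain ⟨h, a, c, hu, h0, hs⟩ := key (tr e3) (by decide +kernel) (by decide +kernel)
      (by decide +kernel)
    change h * C.T (a, c, 0) * h⁻¹ = C.T e3 at hs
    by_cases hw : (a, c, (0 : Fin 3)) ∈ short4
    · obtain ⟨r, hr, hj⟩ := (by decide +kernel : ∀ v ∈ short4, ∃ r : Fin 48, lact r e3 = v ∧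
          ((lin r)⁻¹ * lin 24 * lin r = lin 6 ∨ (lin r)⁻¹ * lin 24 * lin r = lin 12)) _ hw
      have hk : Commute (h * C.X (lin r)) (C.T e3) := by
        refine mul_inv_eq_iff_eq_mul.mp ?_
        rw [show h * C.X (lin r) * C.T e3 * (h * C.X (lin r))⁻¹ =
          h * (C.X (lin r) * C.T e3 * (C.X (lin r))⁻¹) * h⁻¹ by group, C.X_conj_T (ok3 _)]
        rw [show (lin r).w = r from rfl, hr, hs]
      obtain ⟨i, p, hp⟩ := S.decomp _ hk
      have hconj : ∀ t : Perm (Fin 6), S.κ t = C.X ((lin r)⁻¹ * lin 24 * lin r) →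
          p * t * p⁻¹ = swap 1 2 * swap 4 5 := by
        intro t ht
        refine S.inj ?_
        rw [kappa_double, ← hu, map_mul, map_mul, map_inv]
        have h1 : C.T (unit 2 i) * (S.κ p * S.κ t * (S.κ p)⁻¹) * (C.T (unit 2 i))⁻¹ =
            S.κ p * S.κ t * (S.κ p)⁻¹ := by
          rw [← map_inv, ← map_mul, ← map_mul, mul_inv_eq_iff_eq_mul]
          have hu2 : unit 2 i = i.val • e3 :=
            (by decide +kernel : ∀ i : Fin 3, unit 2 i = i.val • e3) i
          rw [hu2, T_nsmul]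
          exact ((S.comm _).pow_right _).eq.symm
        rw [← h1, ht, C.X_mul (ok3 _) (ok3 _), C.X_mul (ok3 _) (ok3 _), C.X_inv (ok3 _)]
        calc C.T (unit 2 i) * (S.κ p * ((C.X (lin r))⁻¹ * sgn C * C.X (lin r)) * (S.κ p)⁻¹) *
              (C.T (unit 2 i))⁻¹
            = C.T (unit 2 i) * S.κ p * ((C.X (lin r))⁻¹ * sgn C * C.X (lin r)) *
              (C.T (unit 2 i) * S.κ p)⁻¹ := by group
          _ = h * sgn C * h⁻¹ := by rw [← hp]; group
      rcases hj with hj | hj <;> rw [hj] at hconj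
      · have := congrArg Perm.sign (hconj _ (kappa_six S))
        simp at this
      · have := congrArg Perm.sign (hconj _ (kappa_twelve S))
        simp at this
    · obtain ⟨hwt, hno⟩ := short4_centLe a c h0 hw
      exact not_mono (C.mem_N_of_conj_T (allLe3 C _ h0 fun _ => hwt) hs) (by decide) hu
  · exact vecCase (1, 1, 1) (by decide) (by decide) (by decide +kernel)
  · exact vecCase (1, 1, 0) (by decide) (by decide) (by decide +kernel)
  · obtain ⟨h, a, c, -, -, hs⟩ := key (lin 3) (by decide +kernel) (by decide +kernel)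
      (by decide +kernel)
    have e' : h⁻¹ * C.X (lin 3) * h⁻¹⁻¹ = C.T (a, c, 0) := by rw [← hs]; group
    exact (by decide +kernel : ∀ a c : Fin 3, ¬ XType 3 (a, c, 0)) a c
      (C.xType_of_conj (m := lin 3) (by decide +kernel) (by decide +kernel) (by decide +kernel) e')

theorem sgn_ne_kappa (p : Perm (Fin 6)) : sgn C ≠ S.κ p := by
  intro h
  have h1 := S.comm p
  rw [← h] at h1
  exact (by decide +kernel : lin 24 * tr e3 ≠ tr e3 * lin 24)
    ((C.X_commute (ok3 _) (ok_one 3)).mp h1)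

/-- The conjugates of the sign change commuting with it and with `π`. -/
theorem recognise [Finite G] {p : Perm (Fin 6)} {e : Bool} (hp : p * piSix = piSix * p) {g : G}
    (hg : g * sgn C * g⁻¹ = S.κ p * (if e then sgn C else 1)) :
    (e = true ∧ p = 1) ∨ (e = false ∧ (p = swap 0 3 ∨ p = swap 1 4 ∨ p = swap 2 5)) := by
  have hsq : p * p = 1 := by
    have h2 : S.κ p * (if e then sgn C else 1) * (S.κ p * (if e then sgn C else 1)) = 1 := by
      rw [← hg, show g * sgn C * g⁻¹ * (g * sgn C * g⁻¹) = g * (sgn C * sgn C) * g⁻¹ by group,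
        sgn_sq, mul_one, mul_inv_cancel]
    refine S.inj ?_
    rw [map_mul, map_one]
    rcases e with _ | _
    · simpa using h2
    · rw [if_pos rfl, mul_assoc, ← mul_assoc (sgn C), ← (S.comm_t p).eq, mul_assoc (S.κ p) (sgn C),
        sgn_sq, mul_one] at h2
      exact h2
  have hconj : ∀ q : Perm (Fin 6), ∃ g', g' * sgn C * g'⁻¹ =
      S.κ (q * p * q⁻¹) * (if e then sgn C else 1) := by
    intro q
    refine ⟨S.κ q * g, ?_⟩
    have hu : Commute (S.κ q) (if e then sgn C else 1) := by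
      rcases e with _ | _
      · exact Commute.one_right _
      · exact S.comm_t q
    calc S.κ q * g * sgn C * (S.κ q * g)⁻¹ = S.κ q * (g * sgn C * g⁻¹) * (S.κ q)⁻¹ := by group
      _ = S.κ q * S.κ p * ((if e then sgn C else 1) * (S.κ q)⁻¹) := by rw [hg]; group
      _ = _ := by rw [hu.inv_left.symm.eq, map_mul, map_mul, map_inv]; group
  have hswap : (p = swap 0 3 ∨ p = swap 1 4 ∨ p = swap 2 5) →
      (e = true ∧ p = 1) ∨ (e = false ∧ (p = swap 0 3 ∨ p = swap 1 4 ∨ p = swap 2 5)) := by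
    intro h
    rcases e with _ | _
    · exact Or.inr ⟨rfl, h⟩
    · exfalso
      obtain ⟨q, hq⟩ := swaps_conj p h
      obtain ⟨g', hg'⟩ := hconj q
      rw [hq, kappa_six, if_pos rfl, ← C.X_mul (ok3 _) (ok3 _)] at hg'
      refine not_conj S (C.X (lin 1) * g') (b := 18) (by decide) ?_
      rw [← (by decide +kernel : lin 1 * (lin 6 * lin 24) * (lin 1)⁻¹ = lin 18),
        ← C.X_conj (ok3 _) (ok3 _), ← hg']
      group
  rcases classify6 p hp hsq with h | h | h | h | ⟨q, hq⟩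
  · rcases e with _ | _
    · rw [h, map_one, if_neg Bool.false_ne_true, mul_one, conj_eq_one_iff] at hg
      exact absurd hg sgn_ne
    · exact Or.inl ⟨rfl, h⟩
  · exact hswap (Or.inl h)
  · exact hswap (Or.inr (Or.inl h))
  · exact hswap (Or.inr (Or.inr h))
  · exfalso
    obtain ⟨g', hg'⟩ := hconj q
    rcases hq with hq | hq <;> rw [hq] at hg' <;> rcases e with _ | _
    · rw [kappa_double, if_neg Bool.false_ne_true, mul_one] at hg'
      exact not_conj S g' (by decide) hg'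
    · rw [kappa_double, if_pos rfl, ← C.X_mul (ok3 _) (ok3 _),
        (by decide +kernel : lin 18 * lin 24 = lin 42)] at hg'
      exact not_conj S g' (by decide) hg'
    · rw [kappa_pi, if_neg Bool.false_ne_true, mul_one] at hg'
      exact not_conj S g' (by decide) hg'
    · rw [kappa_pi, if_pos rfl, ← C.X_mul (ok3 _) (ok3 _),
        (by decide +kernel : piM * lin 24 = lin 26)] at hg'
      exact not_conj S g' (by decide) hg'

/-- The translations and sign change of the last block. -/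
def lastM (i : Fin 3) (e : Bool) : Mw := ⟨unit 2 i, if e then 24 else 0⟩

theorem lastM_eq : ∀ i e, lastM i e = tr (unit 2 i) * (if e then lin 24 else 1) := by decide +kernel

theorem lastM_mul : ∀ i e j e', ∃ k e'', lastM i e * lastM j e' = lastM k e'' := by decide +kernel

theorem lastM_inv : ∀ i e, ∃ k e'', (lastM i e)⁻¹ = lastM k e'' := by decide +kernel

theorem unit2_pow (i : Fin 3) : C.T (unit 2 i) = C.T e3 ^ i.val := by
  rw [← T_nsmul, (by decide +kernel : ∀ i : Fin 3, unit 2 i = i.val • e3) i]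

theorem commute_last (p : Perm (Fin 6)) (i : Fin 3) (e : Bool) :
    Commute (S.κ p) (C.X (lastM i e)) := by
  rw [lastM_eq, C.X_mul (ok_one 3) (ok3 _)]
  refine Commute.mul_right ?_ ?_
  · change Commute (S.κ p) (C.T _)
    rw [unit2_pow]
    exact (S.comm p).pow_right _
  · rcases e with _ | _
    · rw [if_neg Bool.false_ne_true, C.X_one]; exact Commute.one_right _
    · exact S.comm_t p

/-- The subgroup described in the statement. -/
noncomputable def blockGroup : Subgroup G where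
  carrier := {g | ∃ p i, ∃ e : Bool, p * piSix = piSix * p ∧ g = S.κ p * C.X (lastM i e)}
  one_mem' := ⟨1, 0, false, by simp, by
    rw [map_one, one_mul, (by decide +kernel : lastM 0 false = 1), C.X_one]⟩
  mul_mem' := by
    rintro _ _ ⟨p, i, e, hp, rfl⟩ ⟨q, j, e', hq, rfl⟩
    obtain ⟨k, e'', hk⟩ := lastM_mul i e j e'
    refine ⟨p * q, k, e'', by rw [mul_assoc, hq, ← mul_assoc, hp, mul_assoc], ?_⟩
    rw [← hk, C.X_mul (ok3 _) (ok3 _), map_mul]
    calc S.κ p * C.X (lastM i e) * (S.κ q * C.X (lastM j e'))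
        = S.κ p * (C.X (lastM i e) * S.κ q) * C.X (lastM j e') := by group
      _ = _ := by rw [← (commute_last S q i e).eq]; group
  inv_mem' := by
    rintro _ ⟨p, i, e, hp, rfl⟩
    obtain ⟨k, e'', hk⟩ := lastM_inv i e
    refine ⟨p⁻¹, k, e'', (Commute.inv_left hp).eq, ?_⟩
    rw [mul_inv_rev, ← hk, C.X_inv (ok3 _), map_inv]
    exact ((commute_last S p i e).inv_left.inv_right).eq.symm

theorem mem_blockGroup {g : G} : g ∈ blockGroup S ↔
    ∃ p i, ∃ e : Bool, p * piSix = piSix * p ∧ g = S.κ p * C.X (lastM i e) := Iff.rfl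

theorem fix_table : ∀ m : Mw, m * piM = piM * m → ∃ i e, ∀ j : Fin 9, 6 ≤ j.val →
    toPerm (m * lastM i e) j = j := by decide +kernel

theorem monomial_mem {m : Mw} (h : m * piM = piM * m) : C.X m ∈ blockGroup S := by
  obtain ⟨i, e, hfix⟩ := fix_table m h
  set n := m * lastM i e with hn
  have hlow : ∀ j : Fin 6, ((toPerm n) (j.castLE (by norm_num))).val < 6 := by
    intro j
    by_contra hlt
    push Not at hlt
    have h1 := hfix _ hlt
    have h2 := (toPerm n).injective h1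
    rw [h2] at hlt
    exact absurd (j.2 : j.val < 6) (not_lt.mpr hlt)
  let f : Fin 6 → Fin 6 := fun j => ⟨_, hlow j⟩
  have hf : Function.Bijective f := Finite.injective_iff_bijective.mp fun a b hab =>
    Fin.castLE_injective _ ((toPerm n).injective (Fin.ext (congrArg Fin.val hab :)))
  have hκ : S.κ (Equiv.ofBijective f hf) = C.X n :=
    S.compat n _ (fun j => Fin.ext rfl) hfix
  have hpn : n * piM = piM * n := by
    rw [hn, mul_assoc, (by decide +kernel : ∀ i e, lastM i e * piM = piM * lastM i e) i e,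
      ← mul_assoc, h, mul_assoc]
  obtain ⟨k, e'', hk⟩ := lastM_inv i e
  refine ⟨Equiv.ofBijective f hf, k, e'', S.inj ?_, ?_⟩
  · rw [map_mul, map_mul, hκ, kappa_pi, ← C.X_mul (ok3 _) (ok3 _), hpn,
      C.X_mul (ok3 _) (ok3 _)]
  · rw [hκ, ← hk, ← C.X_mul (ok3 _) (ok3 _), hn, mul_inv_cancel_right]

end CfsgLib.SymNine40.PiCent
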