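import Cfsg.Agent.SymNine40.CentPiSwaps
import Cfsg.Agent.Transfer.ThompsonTransfer
import Cfsg.Agent.Transfer.NilpotentHall

/-!
The centraliser of the sign change in the centraliser of the exchange of two blocks.

* `perm_block`: an element permuting the three swaps.
* `two_group_le`: two-subgroups over the swaps normalised by the rotation.
* `centre_cent`: the centraliser lies in the block group.
-/

set_option autoImplicit false
set_option maxRecDepth 20000
set_option synthInstance.maxHeartbeats 400000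
set_option synthInstance.maxSize 4000

open Equiv Subgroup

namespace CfsgLib.SymNine40.PiCent

open Mw

variable {G : Type*} [Group G] {C : Ctx G 3} (S : C.Split)

/-- A power of the sign change. -/
noncomputable abbrev sg (C : Ctx G 3) (e : Bool) : G := if e then sgn C else 1

theorem sg_mul (e e' : Bool) : sg C e * sg C e' = sg C (xor e e') := by
  rcases e with _ | _ <;> rcases e' with _ | _ <;> simp [sg, sgn_sq]

theorem sg_inv (e : Bool) : (sg C e)⁻¹ = sg C e :=
  inv_eq_of_mul_eq_one_right (by rw [sg_mul, Bool.xor_self]; rfl)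

theorem commute_sg (p : Perm (Fin 6)) (e : Bool) : Commute (S.κ p) (sg C e) := by
  rcases e with _ | _
  · exact Commute.one_right _
  · exact S.comm_t p

theorem kappa_sg_mul (p q : Perm (Fin 6)) (e e' : Bool) :
    S.κ p * sg C e * (S.κ q * sg C e') = S.κ (p * q) * sg C (xor e e') := by
  rw [← sg_mul, map_mul]
  calc S.κ p * sg C e * (S.κ q * sg C e') = S.κ p * (sg C e * S.κ q) * sg C e' := by group
    _ = _ := by rw [← (commute_sg S q e).eq]; group

theorem kappa_sg_conj (n : G) (hn : Commute n (sgn C)) (p : Perm (Fin 6)) (e : Bool) :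
    n * (S.κ p * sg C e) * n⁻¹ = n * S.κ p * n⁻¹ * sg C e := by
  have h : Commute n (sg C e) := by
    rcases e with _ | _
    · exact Commute.one_right _
    · exact hn
  calc n * (S.κ p * sg C e) * n⁻¹ = n * S.κ p * (sg C e * n⁻¹) := by group
    _ = _ := by rw [← h.inv_left.eq]; group

theorem kappa_sg_inj {p q : Perm (Fin 6)} {e e' : Bool}
    (h : S.κ p * sg C e = S.κ q * sg C e') : p = q ∧ e = e' := by
  rcases e with _ | _ <;> rcases e' with _ | _
  · exact ⟨S.inj (by simpa [sg] using h), rfl⟩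
  · exact absurd (show sgn C = S.κ (q⁻¹ * p) by
      rw [map_mul, map_inv, eq_inv_mul_iff_mul_eq]; simpa [sg] using h.symm) (sgn_ne_kappa S _)
  · exact absurd (show sgn C = S.κ (p⁻¹ * q) by
      rw [map_mul, map_inv, eq_inv_mul_iff_mul_eq]; simpa [sg] using h) (sgn_ne_kappa S _)
  · exact ⟨S.inj (by simpa [sg] using h), rfl⟩

/-- An element of the block group commuting with the sign change. -/
theorem block_cent {g : G} (hg : g ∈ blockGroup S) (hu : Commute g (sgn C)) :
    ∃ p, ∃ e : Bool, p * piSix = piSix * p ∧ g = S.κ p * sg C e := by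
  obtain ⟨p, i, e, hp, rfl⟩ := hg
  have h := ((S.comm_t p).inv_left).mul_left hu
  rw [inv_mul_cancel_left] at h
  have hl := (by decide +kernel : ∀ i e, lastM i e * lin 24 = lin 24 * lastM i e →
    lastM i e = if e then lin 24 else 1) i e ((C.X_commute (ok3 _) (ok3 _)).mp h)
  refine ⟨p, e, hp, ?_⟩
  rw [hl]
  rcases e with _ | _ <;> simp [sg, C.X_one]

theorem kappa_sg_mem_block {p : Perm (Fin 6)} (hp : p * piSix = piSix * p) (e : Bool) :
    S.κ p * sg C e ∈ blockGroup S := by
  refine ⟨p, 0, e, hp, ?_⟩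
  rcases e with _ | _
  · rw [(by decide +kernel : lastM 0 false = 1), C.X_one]; rfl
  · rw [(by decide +kernel : lastM 0 true = lin 24)]; rfl

theorem kappa_mem_piCent {p : Perm (Fin 6)} (hp : p * piSix = piSix * p) :
    S.κ p ∈ piCent C := by
  rw [mem_piCent, ← kappa_pi S, Commute, SemiconjBy, ← map_mul, ← map_mul, hp]

theorem sgn_mem_piCent : sgn C ∈ piCent C := mem_piCent.mpr
  ((C.X_commute (ok3 _) (ok3 _)).mpr (by decide +kernel))

theorem swap_conj_sgn (j : Fin 3) : ∃ g : G, g * sgn C * g⁻¹ = S.κ (swapP j) := by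
  obtain ⟨q, hq⟩ := swaps_conj (swapP j)
    ((by decide +kernel : ∀ j, swapP j = swap 0 3 ∨ swapP j = swap 1 4 ∨ swapP j = swap 2 5) j)
  obtain ⟨b, hb⟩ := (by decide +kernel : ∃ b : Fin 48, lin b * lin 24 * (lin b)⁻¹ = lin 6)
  refine ⟨(S.κ q)⁻¹ * C.X (lin b), ?_⟩
  calc (S.κ q)⁻¹ * C.X (lin b) * sgn C * ((S.κ q)⁻¹ * C.X (lin b))⁻¹
      = (S.κ q)⁻¹ * (C.X (lin b) * sgn C * (C.X (lin b))⁻¹) * S.κ q := by group
    _ = (S.κ q)⁻¹ * (S.κ q * S.κ (swapP j) * (S.κ q)⁻¹) * S.κ q := by
        rw [C.X_conj (ok3 _) (ok3 _), hb, ← kappa_six S, ← hq, map_mul, map_mul, map_inv]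
    _ = _ := by group

theorem swap_perm : ∀ σ : Fin 3 → Fin 3, Function.Injective σ →
    ∃ p ∈ ([1, swap 0 1 * swap 3 4, swap 0 2 * swap 3 5, swap 1 2 * swap 4 5, qSix,
      qSix * qSix] : List (Perm (Fin 6))),
      p * piSix = piSix * p ∧ ∀ j, p * swapP j * p⁻¹ = swapP (σ j) := by decide +kernel

/-- An element commuting with the sign change and permuting the three swaps. -/
theorem perm_block [Finite G] {n : G} (hu : Commute n (sgn C))
    (h : ∀ j, ∃ q, ∃ e : Bool, InV q ∧ n * S.κ (swapP j) * n⁻¹ = S.κ q * sg C e) :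
    n ∈ blockGroup S := by
  have hσ : ∀ j, ∃ j', n * S.κ (swapP j) * n⁻¹ = S.κ (swapP j') := by
    intro j
    obtain ⟨q, e, hq, he⟩ := h j
    obtain ⟨g, hg⟩ := swap_conj_sgn S j
    have h1 : n * g * sgn C * (n * g)⁻¹ = S.κ q * sg C e := by rw [← he, ← hg]; group
    rcases recognise S (inV_facts q hq).2.1 h1 with ⟨rfl, rfl⟩ | ⟨rfl, hs⟩
    · exfalso
      rw [map_one, one_mul] at he
      refine sgn_ne_kappa S (swapP j) ?_
      have h2 : n * S.κ (swapP j) * n⁻¹ = n * sgn C * n⁻¹ := by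
        rw [hu.eq, mul_inv_cancel_right]; exact he
      exact (mul_left_cancel (mul_right_cancel h2)).symm
    · obtain ⟨j', hj'⟩ := (by decide +kernel : ∀ p : Perm (Fin 6),
        (p = swap 0 3 ∨ p = swap 1 4 ∨ p = swap 2 5) → ∃ j, p = swapP j) q hs
      exact ⟨j', by rw [he, hj']; exact mul_one _⟩
  choose σ hσ using hσ
  have hinj : Function.Injective σ := by
    intro a b hab
    have h1 := hσ a
    rw [hab, ← hσ b] at h1
    exact (by decide +kernel : ∀ a b, swapP a = swapP b → a = b) a b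
      (S.inj (mul_left_cancel (mul_right_cancel h1)))
  obtain ⟨p, -, hp, hpj⟩ := swap_perm σ hinj
  have hy : (S.κ p)⁻¹ * n ∈ swapCent S := by
    refine (mem_swapCent S).mpr fun j => mul_inv_eq_iff_eq_mul.mp ?_
    calc (S.κ p)⁻¹ * n * S.κ (swapP j) * ((S.κ p)⁻¹ * n)⁻¹
        = (S.κ p)⁻¹ * (n * S.κ (swapP j) * n⁻¹) * S.κ p := by group
      _ = (S.κ p)⁻¹ * (S.κ p * S.κ (swapP j) * (S.κ p)⁻¹) * S.κ p := by
          rw [hσ, ← hpj, map_mul, map_mul, map_inv]
      _ = S.κ (swapP j) := by group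
  have := mul_mem (kappa_sg_mem_block S hp false) (swapCent_le S hy)
  simpa [sg] using this

/-- The group generated by the three swaps. -/
def vSix : Subgroup (Perm (Fin 6)) where
  carrier := {p | InV p}
  one_mem' := by show InV 1; decide +kernel
  mul_mem' := fun {a b} ha hb => inV_mul a b ha hb
  inv_mem' := fun {a} ha => by
    show InV a⁻¹
    rw [inv_eq_of_mul_eq_one_right (inV_facts a ha).1]
    exact ha

/-- The group generated by the exchange. -/
def piGrp : Subgroup (Perm (Fin 6)) where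
  carrier := {p | p = 1 ∨ p = piSix}
  one_mem' := Or.inl rfl
  mul_mem' := by
    rintro a b (rfl | rfl) (rfl | rfl) <;> simp [piSix_sq]
  inv_mem' := by
    rintro a (rfl | rfl)
    · exact Or.inl inv_one
    · exact Or.inr (inv_eq_of_mul_eq_one_right piSix_sq)

theorem piGrp_le : piGrp ≤ vSix := by
  rintro p (rfl | rfl)
  · exact one_mem _
  · exact (by decide +kernel : InV piSix)

/-- The image of a group of permutations together with the sign change. -/
noncomputable def withSgn (V : Subgroup (Perm (Fin 6))) : Subgroup G where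
  carrier := {g | ∃ p ∈ V, ∃ e : Bool, g = S.κ p * sg C e}
  one_mem' := ⟨1, one_mem V, false, by simp [sg]⟩
  mul_mem' := by
    rintro _ _ ⟨p, hp, e, rfl⟩ ⟨q, hq, e', rfl⟩
    exact ⟨p * q, mul_mem hp hq, xor e e', kappa_sg_mul S p q e e'⟩
  inv_mem' := by
    rintro _ ⟨p, hp, e, rfl⟩
    refine ⟨p⁻¹, inv_mem hp, e, ?_⟩
    rw [mul_inv_rev, sg_inv, map_inv]
    exact (commute_sg S p e).inv_left.eq.symm

theorem kappa_mem_withSgn {V : Subgroup (Perm (Fin 6))} {p : Perm (Fin 6)} :
    S.κ p ∈ withSgn S V ↔ p ∈ V := by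
  constructor
  · rintro ⟨q, hq, e, he⟩
    obtain ⟨rfl, -⟩ := kappa_sg_inj S (e := false) (by simpa [sg] using he : S.κ p * sg C false = _)
    exact hq
  · exact fun h => ⟨p, h, false, by simp [sg]⟩

theorem sgn_mem_withSgn (V : Subgroup (Perm (Fin 6))) : sgn C ∈ withSgn S V :=
  ⟨1, one_mem V, true, by simp [sg]⟩

theorem withSgn_sq {g : G} (hg : g ∈ withSgn S vSix) : g * g = 1 := by
  obtain ⟨p, hp, e, rfl⟩ := hg
  rw [kappa_sg_mul, (inV_facts p hp).1, Bool.xor_self]
  simp [sg]

/-- The centraliser of the sign change and the exchange. -/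
noncomputable abbrev zeroCent (C : Ctx G 3) : Subgroup G :=
  piCent C ⊓ centralizer ({sgn C} : Set G)

theorem comm_u {g : G} (hg : g ∈ zeroCent C) : Commute g (sgn C) :=
  mem_centralizer_singleton_iff.mp hg.2

include S in
theorem kappa_mem_zero {p : Perm (Fin 6)} (hp : p * piSix = piSix * p) : S.κ p ∈ zeroCent C :=
  ⟨kappa_mem_piCent S hp, mem_centralizer_singleton_iff.mpr (S.comm_t p).eq⟩

theorem withSgn_le_zero : withSgn S vSix ≤ zeroCent C := by
  rintro _ ⟨p, hp, e, rfl⟩
  refine mul_mem (kappa_mem_zero S (inV_facts p hp).2.1) ?_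
  rcases e with _ | _
  · exact one_mem _
  · exact ⟨sgn_mem_piCent, mem_centralizer_singleton_iff.mpr rfl⟩

theorem withSgn_pi_central {w n : G} (hw : w ∈ withSgn S piGrp) (hn : n ∈ zeroCent C) :
    Commute n w := by
  obtain ⟨p, hp, e, rfl⟩ := hw
  refine Commute.mul_right ?_ ?_
  · rcases hp with rfl | rfl
    · rw [map_one]; exact Commute.one_right _
    · rw [kappa_pi]; exact mem_piCent.mp hn.1
  · rcases e with _ | _
    · exact Commute.one_right _
    · exact comm_u hn

theorem rot_conj_inV : ∀ p ∈ ([1, swap 0 3, swap 1 4, swap 2 5, swap 0 3 * swap 1 4,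
    swap 0 3 * swap 2 5, swap 1 4 * swap 2 5, piSix] : List (Perm (Fin 6))),
    InV (qSix * p * qSix⁻¹) := by decide +kernel

theorem two_table : ∀ p : Perm (Fin 6), p * piSix = piSix * p → p ^ 16 = 1 →
    (p⁻¹ * (qSix * p * qSix⁻¹)) ^ 16 = 1 → InV p := by decide +kernel

theorem pow_sixteen {x : Perm (Fin 6)} {k : ℕ} (hk : x ^ 2 ^ k = 1) : x ^ 16 = 1 := by
  obtain ⟨j, -, hj⟩ := (Nat.dvd_prime_pow Nat.prime_two).mp (orderOf_dvd_of_pow_eq_one hk)
  have h720 : orderOf x ∣ 720 := by
    have := orderOf_dvd_natCard x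
    rwa [Nat.card_perm, Nat.card_fin] at this
  rw [hj] at h720
  have hj4 : j ≤ 4 := by
    by_contra hlt
    push Not at hlt
    exact absurd ((Nat.pow_dvd_pow 2 hlt).trans h720) (by decide)
  refine orderOf_dvd_iff_pow_eq_one.mp ?_
  rw [hj]
  exact Nat.pow_dvd_pow 2 hj4

/-- A two-group over the swaps normalised by the rotation. -/
theorem two_group_le [Finite G] {P : Subgroup G} (hP : P ≤ zeroCent C) (hp : IsPGroup 2 P)
    (hle : withSgn S vSix ≤ P) (hrot : ∀ x ∈ P, S.κ qSix * x * (S.κ qSix)⁻¹ ∈ P) :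
    P ≤ withSgn S vSix := by
  haveI := Fact.mk Nat.prime_two
  by_contra hcon
  set A := (withSgn S vSix).subgroupOf P with hA
  have hlt : A < ⊤ := lt_top_iff_ne_top.mpr fun h =>
    hcon fun x hx => mem_subgroupOf.mp (h ▸ mem_top (⟨x, hx⟩ : P))
  haveI : Group.IsNilpotent P := hp.isNilpotent
  obtain ⟨n, hn, hnA⟩ := SetLike.exists_of_lt (Group.normalizerCondition_of_isNilpotent _ hlt)
  have hnu : Commute (n : G) (sgn C) := comm_u (hP n.2)
  have hblock : (n : G) ∈ blockGroup S := perm_block S hnu fun j => by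
    have hj : S.κ (swapP j) ∈ withSgn S vSix := (kappa_mem_withSgn S).mpr (inV_swap j)
    obtain ⟨q, hq, e, he⟩ := mem_subgroupOf.mp
      ((mem_normalizer_iff.mp hn ⟨_, hle hj⟩).mp (mem_subgroupOf.mpr hj))
    exact ⟨q, e, hq, he⟩
  obtain ⟨p, e, hpc, hpe⟩ := block_cent S hblock hnu
  have hsg : sg C e ∈ P := by
    rcases e with _ | _
    · exact one_mem _
    · exact hle (sgn_mem_withSgn S _)
  have hκ : S.κ p ∈ P := by
    have := mul_mem n.2 (inv_mem hsg)
    rwa [hpe, mul_inv_cancel_right] at this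
  have h16 : ∀ q, S.κ q ∈ P → q ^ 16 = 1 := by
    intro q hq
    obtain ⟨k, hk⟩ := hp ⟨_, hq⟩
    refine pow_sixteen (k := k) (S.inj ?_)
    rw [map_pow, map_one]
    exact congrArg Subtype.val hk
  have hV := two_table p hpc (h16 p hκ) (h16 _ (by
    rw [map_mul, map_inv, map_mul, map_mul, map_inv]
    exact mul_mem (inv_mem hκ) (hrot _ hκ)))
  exact hnA (mem_subgroupOf.mpr (hpe ▸ ⟨p, hV, e, rfl⟩))

/-- A normal two-group of the centraliser containing the swaps suffices. -/
theorem zero_le_of_two [Finite G] {K : Subgroup G} (hK : K ≤ zeroCent C) (hp : IsPGroup 2 K)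
    (hn : ∀ n ∈ zeroCent C, ∀ x ∈ K, n * x * n⁻¹ ∈ K) (hs : ∀ j, S.κ (swapP j) ∈ K) :
    zeroCent C ≤ blockGroup S := by
  haveI := Fact.mk Nat.prime_two
  have hE : IsPGroup 2 (withSgn S vSix) := fun x => ⟨1, Subtype.ext (by
    rw [pow_one, sq, Subgroup.coe_mul, OneMemClass.coe_one]; exact withSgn_sq S x.2)⟩
  have hnor : withSgn S vSix ≤ normalizer (K : Set G) :=
    Hyperplane.le_normalizer_of_conj_mem fun a ha x hx => hn a (withSgn_le_zero S ha) x hx
  have hq : S.κ qSix ∈ zeroCent C := kappa_mem_zero S (by decide +kernel)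
  have hP : K ≤ withSgn S vSix := by
    refine le_sup_right.trans (two_group_le S (sup_le (withSgn_le_zero S) hK)
      (hE.to_sup_of_normal_right' hp hnor) le_sup_left ?_)
    have hle : withSgn S vSix ⊔ K ≤
        (withSgn S vSix ⊔ K).comap (MulAut.conj (S.κ qSix)).toMonoidHom := by
      refine sup_le ?_ ?_
      · rintro _ ⟨p, hp, e, rfl⟩
        refine mem_comap.mpr (mem_sup_left ⟨qSix * p * qSix⁻¹, rot_conj_inV p hp, e, ?_⟩)
        show S.κ qSix * (S.κ p * sg C e) * (S.κ qSix)⁻¹ = _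
        rw [kappa_sg_conj S _ (S.comm_t _), map_mul, map_mul, map_inv]
      · intro x hx
        exact mem_comap.mpr (mem_sup_right (hn _ hq x hx))
    exact fun x hx => hle hx
  intro n hnz
  refine perm_block S (comm_u hnz) fun j => ?_
  obtain ⟨q, hq', e, he⟩ := hP (hn n hnz _ (hs j))
  exact ⟨q, e, hq', he⟩

theorem four_table : ∀ p ∈ ([1, swap 0 3, swap 1 4, swap 2 5, swap 0 3 * swap 1 4,
    swap 0 3 * swap 2 5, swap 1 4 * swap 2 5, piSix] : List (Perm (Fin 6))),
    p ≠ 1 → p ≠ piSix → ∀ j, ∃ k : Fin 3,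
      swapP j = qSix ^ k.val * p * (qSix ^ k.val)⁻¹ ∨
      swapP j = qSix ^ k.val * p * (qSix ^ k.val)⁻¹ * piSix := by decide +kernel

/-- The group of order sixteen. -/
def lSix : Subgroup (Perm (Fin 6)) where
  carrier := {p | InV p ∨ InV (p * (swap 0 1 * swap 3 4))}
  one_mem' := Or.inl (by decide +kernel)
  mul_mem' := by
    set w : Perm (Fin 6) := swap 0 1 * swap 3 4 with hw
    have hw2 : w * w = 1 := by rw [hw]; decide +kernel
    have hc : ∀ a : Perm (Fin 6), InV a → InV (w * a * w) := by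
      intro a ha
      rw [hw]
      exact (by decide +kernel : ∀ a ∈ ([1, swap 0 3, swap 1 4, swap 2 5, swap 0 3 * swap 1 4,
        swap 0 3 * swap 2 5, swap 1 4 * swap 2 5, piSix] : List (Perm (Fin 6))),
        InV (swap 0 1 * swap 3 4 * a * (swap 0 1 * swap 3 4))) a ha
    intro a b ha hb
    rcases ha with ha | ha <;> rcases hb with hb | hb
    · exact Or.inl (inV_mul a b ha hb)
    · exact Or.inr (by rw [mul_assoc]; exact inV_mul a _ ha hb)
    · refine Or.inr ?_
      rw [show a * b * w = a * w * (w * b * w) by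
        calc a * b * w = a * (w * w) * b * w := by rw [hw2, mul_one]
          _ = _ := by simp only [mul_assoc]]
      exact inV_mul _ _ ha (hc b hb)
    · refine Or.inl ?_
      rw [show a * b = a * w * (w * (b * w) * w) by
        calc a * b = a * (w * w) * b * (w * w) := by rw [hw2, mul_one, mul_one]
          _ = _ := by simp only [mul_assoc]]
      exact inV_mul _ _ ha (hc _ hb)
  inv_mem' := by
    intro a ha
    rcases ha with ha | ha
    · exact Or.inl (inv_mem (show a ∈ vSix from ha))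
    · refine Or.inr ?_
      have h := inv_mem (show a * (swap 0 1 * swap 3 4) ∈ vSix from ha)
      exact (by decide +kernel : ∀ a : Perm (Fin 6), InV (a * (swap 0 1 * swap 3 4))⁻¹ →
        InV (a⁻¹ * (swap 0 1 * swap 3 4))) a h

instance : DecidablePred (· ∈ vSix) := fun p => inferInstanceAs (Decidable (InV p))

instance : DecidablePred (· ∈ lSix) := fun p =>
  inferInstanceAs (Decidable (InV p ∨ InV (p * (swap 0 1 * swap 3 4))))

instance : DecidablePred (· ∈ piGrp) := fun p =>
  inferInstanceAs (Decidable (p = 1 ∨ p = piSix))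

theorem small_cards : Nat.card lSix = 16 ∧ Nat.card vSix = 8 ∧ Nat.card piGrp = 2 := by
  simp only [Nat.card_eq_fintype_card, Fintype.card_subtype]
  decide +kernel

/-- The centraliser of the sign change in the centraliser of the exchange. -/
theorem centre_cent [Finite G] : zeroCent C ≤ blockGroup S := by
  classical
  haveI := Fact.mk Nat.prime_two
  set Y := zeroCent C with hY
  have hWle : withSgn S piGrp ≤ Y := fun x hx => withSgn_le_zero S (by
    obtain ⟨p, hp, e, rfl⟩ := hx
    exact ⟨p, piGrp_le hp, e, rfl⟩)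
  set Z := (withSgn S piGrp).subgroupOf Y with hZ
  haveI hZn : Z.Normal := ⟨fun z hz g => mem_subgroupOf.mpr (by
    have := withSgn_pi_central S (mem_subgroupOf.mp hz) g.2
    rw [Subgroup.coe_mul, Subgroup.coe_mul, Subgroup.coe_inv, this.eq, mul_inv_cancel_right]
    exact mem_subgroupOf.mp hz)⟩
  let π := QuotientGroup.mk' Z
  have hπ : ∀ y : Y, π y = 1 ↔ (y : G) ∈ withSgn S piGrp := fun y =>
    (QuotientGroup.eq_one_iff y).trans mem_subgroupOf
  have hW2 : ∀ w ∈ withSgn S piGrp, w * w = 1 := fun w hw => withSgn_sq S (by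
    obtain ⟨p, hp, e, rfl⟩ := hw
    exact ⟨p, piGrp_le hp, e, rfl⟩)
  let F : Y := ⟨S.κ qSix, kappa_mem_zero S (by decide +kernel)⟩
  have hF3 : F ^ 3 = 1 := Subtype.ext (by
    rw [SubmonoidClass.coe_pow, OneMemClass.coe_one]
    show S.κ qSix ^ 3 = 1
    rw [← map_pow, (by decide +kernel : qSix ^ 3 = 1), map_one])
  have hF1 : π F ≠ 1 := fun h =>
    (by decide +kernel : ¬ (qSix = 1 ∨ qSix = piSix)) ((kappa_mem_withSgn S).mp ((hπ F).mp h))
  have hord : orderOf (π F) = 3 := by
    haveI := Fact.mk Nat.prime_three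
    exact orderOf_eq_prime (by rw [← map_pow, hF3, map_one]) hF1
  have hsc : SelfCentPrime.SelfCent (Y ⧸ Z) 3 (π F) := by
    refine ⟨Nat.prime_three, hord, le_antisymm ?_ ?_⟩
    · intro q hq
      obtain ⟨y, rfl⟩ := QuotientGroup.mk'_surjective Z q
      have hq' : π y * π F = π F * π y := mem_centralizer_singleton_iff.mp hq
      have hz : ((F⁻¹ * (y * F * y⁻¹) : Y) : G) ∈ withSgn S piGrp := (hπ _).mp (by
        rw [map_mul, map_mul, map_mul, map_inv, map_inv, hq']; group)
      set z := F⁻¹ * (y * F * y⁻¹) with hzdef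
      have hze : Commute z F := Subtype.ext (withSgn_pi_central S hz F.2).eq.symm
      have hz3 : z ^ 3 = 1 := by
        have h1 : (F * z) ^ 3 = 1 := by
          rw [hzdef, mul_inv_cancel_left, conj_pow, hF3, mul_one, mul_inv_cancel]
        rwa [hze.symm.mul_pow, hF3, one_mul] at h1
      have hz1 : z = 1 := by
        have hz2 : z * z = 1 := Subtype.ext (hW2 _ hz)
        rw [pow_succ, pow_two, hz2, one_mul] at hz3
        exact hz3
      have hyF : Commute (y : G) (S.κ qSix) := by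
        rw [hzdef, inv_mul_eq_one] at hz1
        exact congrArg Subtype.val (mul_inv_eq_iff_eq_mul.mp hz1.symm)
      obtain ⟨p, e, hp, hpy⟩ := block_cent S (cent_le_block S (v := (1, 1, 0)) (by decide) rfl
        y.2.1 (by rw [← kappa_rot S]; exact hyF)) (comm_u y.2)
      have hpq : p * qSix = qSix * p := by
        refine S.inj ?_
        rw [map_mul, map_mul]
        have h := hyF.mul_left (commute_sg S qSix e).symm.inv_left
        rw [hpy, mul_inv_cancel_right] at h
        exact h.eq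
      obtain ⟨i, hi⟩ := (by decide +kernel : ∀ p : Perm (Fin 6), p * piSix = piSix * p →
        p * qSix = qSix * p → ∃ i : Fin 3, (qSix ^ i.val)⁻¹ * p = 1 ∨
          (qSix ^ i.val)⁻¹ * p = piSix) p hp hpq
      refine ⟨(i.val : ℤ), ?_⟩
      show π F ^ (i.val : ℤ) = _
      rw [zpow_natCast, ← map_pow]
      refine inv_mul_eq_one.mp ?_
      rw [← map_inv, ← map_mul, hπ, Subgroup.coe_mul, Subgroup.coe_inv, SubmonoidClass.coe_pow,
        hpy]
      exact ⟨_, hi, e, by rw [map_mul, map_inv, map_pow, mul_assoc]⟩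
    · rw [zpowers_le]; exact mem_centralizer_singleton_iff.mpr rfl
  -- preimages of normal subgroups
  let pre : Subgroup (Y ⧸ Z) → Subgroup G := fun N => (N.comap π).map Y.subtype
  have hpren : ∀ N : Subgroup (Y ⧸ Z), N.Normal →
      ∀ n ∈ Y, ∀ x ∈ pre N, n * x * n⁻¹ ∈ pre N := by
    rintro N hN n hn _ ⟨x, hx, rfl⟩
    exact ⟨⟨n, hn⟩ * x * ⟨n, hn⟩⁻¹, (hN.comap π).conj_mem x hx _, rfl⟩
  have hmem : ∀ (N : Subgroup (Y ⧸ Z)) (x : G) (hx : x ∈ Y), π ⟨x, hx⟩ ∈ N → x ∈ pre N :=
    fun N x hx h => ⟨⟨x, hx⟩, h, rfl⟩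
  have ha : ∀ j, S.κ (swapP j) ∈ Y := fun j => kappa_mem_zero S (inV_facts _ (inV_swap j)).2.1
  have hcase : ∀ N : Subgroup (Y ⧸ Z), N.Normal → IsPGroup 2 (pre N) →
      (∀ j, π ⟨_, ha j⟩ ∈ N) → Y ≤ blockGroup S := fun N hN h2 hj =>
    zero_le_of_two S (map_subtype_le _) h2 (hpren N hN) fun j => hmem N _ _ (hj j)
  have hsimple : ¬ (Nonempty (Y ⧸ Z ≃* alternatingGroup (Fin 5)) ∨
      Nonempty (Y ⧸ Z ≃* Matrix.ProjectiveSpecialLinearGroup (Fin 2) (ZMod 7))) := by
    intro hiso
    have hl6 : lSix ≤ centralizer ({piSix} : Set (Perm (Fin 6))) := fun p hp =>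
      mem_centralizer_singleton_iff.mpr ((by decide +kernel : ∀ p : Perm (Fin 6),
        (InV p ∨ InV (p * (swap 0 1 * swap 3 4))) → p * piSix = piSix * p) p hp)
    let ρ : lSix →* Y ⧸ Z := π.comp ((S.κ.comp lSix.subtype).codRestrict Y fun p =>
      kappa_mem_zero S (mem_centralizer_singleton_iff.mp (hl6 p.2)))
    have hρ1 : ∀ p : lSix, ρ p = 1 ↔ (p : Perm (Fin 6)) ∈ piGrp := fun p =>
      (hπ _).trans (kappa_mem_withSgn S)
    have hcard : ∀ H : Subgroup (Perm (Fin 6)), H ≤ lSix → piGrp ≤ H →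
        Nat.card ((H.subgroupOf lSix).map ρ) * 2 = Nat.card H := by
      intro H hH hπH
      rw [show (H.subgroupOf lSix).map ρ = (ρ.comp (H.subgroupOf lSix).subtype).range by
          rw [MonoidHom.range_comp, range_subtype], ← Nat.card_congr (subgroupOfEquivOfLe hH).toEquiv,
        ← (ρ.comp (H.subgroupOf lSix).subtype).ker.card_mul_index, Subgroup.index_ker, mul_comm]
      congr 1
      rw [← small_cards.2.2]
      exact Nat.card_congr
        { toFun := fun x => ⟨⟨⟨x.1, hH (hπH x.2)⟩, hπH x.2⟩, (hρ1 _).mpr x.2⟩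
          invFun := fun x => ⟨x.1.1.1, (hρ1 _).mp x.2⟩
          left_inv := fun x => rfl
          right_inv := fun x => rfl }
    set w : Perm (Fin 6) := swap 0 1 * swap 3 4 with hwdef
    have hV : vSix ≤ lSix := fun p hp => Or.inl hp
    have hπl : piGrp ≤ lSix := piGrp_le.trans hV
    have h8 : Nat.card ((⊤ : Subgroup lSix).map ρ) = 8 := by
      have h := hcard lSix le_rfl hπl
      rw [subgroupOf_self, small_cards.1] at h
      omega
    have h4 : Nat.card ((vSix.subgroupOf lSix).map ρ) = 4 := by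
      have h := hcard vSix hV piGrp_le
      rw [small_cards.2.1] at h
      omega
    have hdvd : 8 ∣ Nat.card (Y ⧸ Z) := h8 ▸ card_subgroup_dvd_card _
    rcases hiso with ⟨⟨e⟩⟩ | ⟨⟨e⟩⟩
    · rw [Nat.card_congr e.toEquiv, nat_card_alternatingGroup, Nat.card_fin] at hdvd
      exact absurd hdvd (by decide)
    haveI : Fact (Nat.Prime 7) := ⟨by norm_num⟩
    haveI hsimp : IsSimpleGroup (Matrix.ProjectiveSpecialLinearGroup (Fin 2) (ZMod 7)) :=
      CfsgLib.Classical.Linear.isSimpleGroup_psl_fin le_rfl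
        (fun _ => by rw [Nat.card_zmod]; norm_num)
    haveI : Nontrivial (Y ⧸ Z) := e.toEquiv.nontrivial
    haveI : IsSimpleGroup (Y ⧸ Z) := IsSimpleGroup.isSimpleGroup_of_surjective e.symm.toMonoidHom
      e.symm.surjective
    have h168 : Nat.card (Y ⧸ Z) = 168 := by
      rw [Nat.card_congr e.toEquiv]
      have hc := CfsgLib.SL2.card_PSL_odd (F := ZMod 7) (by rw [ZMod.card]; decide)
      rw [ZMod.card] at hc
      omega
    set T0 := (⊤ : Subgroup lSix).map ρ with hT0
    obtain ⟨P, hP⟩ := (IsPGroup.of_card (p := 2) (n := 3) (by rw [h8]; rfl) : IsPGroup 2 T0).exists_le_sylow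
    have hPT : T0 = (P : Subgroup (Y ⧸ Z)) := by
      refine Subgroup.eq_of_le_of_card_ge hP ?_
      obtain ⟨k, hk⟩ := IsPGroup.iff_card.mp P.2
      have hd := card_subgroup_dvd_card (P : Subgroup (Y ⧸ Z))
      rw [h168, hk] at hd
      rw [h8, hk]
      have hk3 : k ≤ 3 := by
        by_contra hlt
        push Not at hlt
        exact absurd ((Nat.pow_dvd_pow 2 hlt).trans hd) (by decide)
      exact (Nat.pow_le_pow_right (by norm_num) hk3).trans le_rfl
    set Q0 := (vSix.subgroupOf lSix).map ρ with hQ0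
    have hQP : Q0 ≤ (P : Subgroup (Y ⧸ Z)) := hPT ▸ map_mono le_top
    have hidx : Q0.relIndex (P : Subgroup (Y ⧸ Z)) = 2 := by
      have h := (Q0.subgroupOf (P : Subgroup (Y ⧸ Z))).card_mul_index
      rw [Nat.card_congr (subgroupOfEquivOfLe hQP).toEquiv, h4, ← hPT, h8] at h
      rw [Subgroup.relIndex, ← hPT]
      omega
    let wl : lSix := ⟨w, Or.inr (by rw [hwdef]; decide +kernel)⟩
    have hw1 : ρ wl ≠ 1 := fun h => (by decide +kernel :
      ¬ ((swap 0 1 * swap 3 4 : Perm (Fin 6)) = 1 ∨ swap 0 1 * swap 3 4 = piSix))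
      ((hρ1 wl).mp h)
    have hwo : orderOf (ρ wl) = 2 := orderOf_eq_prime (by
      rw [← map_pow, show wl ^ 2 = 1 from Subtype.ext (by
        show w ^ 2 = 1; rw [hwdef]; decide +kernel), map_one]) hw1
    have hwQ : ρ wl ∉ Q0 := by
      rintro ⟨v, hv, he⟩
      have h1 := (hρ1 (v⁻¹ * wl)).mp (by rw [map_mul, map_inv, he, inv_mul_cancel])
      have h2 : w ∈ vSix := by
        have := mul_mem (mem_subgroupOf.mp hv) (piGrp_le h1)
        simpa using this
      exact (by decide +kernel : ¬ InV (swap 0 1 * swap 3 4)) h2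
    rcases Transfer.thompsonTransferLemma P Q0 hQP hidx (ρ wl) hwo (hPT ▸ ⟨wl, trivial, rfl⟩) hwQ with
      ⟨M, hM, hMi, -⟩ | ⟨g, v, hv, hg⟩
    · rcases hM.eq_bot_or_eq_top with h | h
      · rw [h, index_bot, h168] at hMi; norm_num at hMi
      · rw [h, index_top] at hMi; norm_num at hMi
    obtain ⟨n, rfl⟩ := QuotientGroup.mk'_surjective Z g
    set v' : Perm (Fin 6) := (v : Perm (Fin 6)) with hv'def
    have hvV : InV v' := mem_subgroupOf.mp hv
    have hv1 : ¬ (v' = 1 ∨ v' = piSix) := fun h => by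
      refine hw1 ?_
      rw [(hρ1 v).mpr h, eq_comm, conj_eq_one_iff] at hg
      exact hg
    have hrel : (S.κ v')⁻¹ * ((n : G) * S.κ w * (n : G)⁻¹) ∈ withSgn S piGrp := by
      have h1 : π ((n * ⟨S.κ w, kappa_mem_zero S (mem_centralizer_singleton_iff.mp (hl6 wl.2))⟩ *
          n⁻¹)) = ρ v := by
        rw [map_mul, map_mul, map_inv, hg]
        rfl
      have h2 : π (⟨S.κ v', kappa_mem_zero S (mem_centralizer_singleton_iff.mp (hl6 v.2))⟩⁻¹ *
          (n * ⟨S.κ w, kappa_mem_zero S (mem_centralizer_singleton_iff.mp (hl6 wl.2))⟩ *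
          n⁻¹)) = 1 := by
        rw [map_mul, h1, map_inv]
        exact inv_mul_cancel _
      exact (hπ _).mp h2
    obtain ⟨z, hz, e', he'⟩ := hrel
    rw [inv_mul_eq_iff_eq_mul, ← mul_assoc, ← map_mul] at he'
    obtain ⟨b, hb⟩ : ∃ b : Bool, ∃ j, v' * z * (if b then piSix else 1) = swapP j := by
      rcases hz with rfl | rfl
      all_goals
        first
        | exact (by decide +kernel : ∀ p ∈ ([1, swap 0 3, swap 1 4, swap 2 5, swap 0 3 * swap 1 4,
            swap 0 3 * swap 2 5, swap 1 4 * swap 2 5, piSix] : List (Perm (Fin 6))),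
            ¬ (p = 1 ∨ p = piSix) →
            ∃ b : Bool, ∃ j, p * 1 * (if b then piSix else 1) = swapP j) v' hvV hv1
        | exact (by decide +kernel : ∀ p ∈ ([1, swap 0 3, swap 1 4, swap 2 5, swap 0 3 * swap 1 4,
            swap 0 3 * swap 2 5, swap 1 4 * swap 2 5, piSix] : List (Perm (Fin 6))),
            ¬ (p = 1 ∨ p = piSix) →
            ∃ b : Bool, ∃ j, p * piSix * (if b then piSix else 1) = swapP j) v' hvV hv1
    obtain ⟨j, hj⟩ := hb
    set w' := w * (if b then piSix else 1) with hw'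
    have hconj : (n : G) * (S.κ w' * sg C e') * (n : G)⁻¹ = S.κ (swapP j) := by
      have hb' : Commute (n : G) (S.κ (if b then piSix else 1)) := by
        rcases b with _ | _
        · rw [if_neg Bool.false_ne_true, map_one]; exact Commute.one_right _
        · rw [if_pos rfl, kappa_pi]; exact mem_piCent.mp n.2.1
      rw [kappa_sg_conj S _ (comm_u n.2), hw', map_mul]
      rw [show (n : G) * (S.κ w * S.κ (if b then piSix else 1)) * (n : G)⁻¹ =
        ((n : G) * S.κ w * (n : G)⁻¹) * ((n : G) * S.κ (if b then piSix else 1) * (n : G)⁻¹) by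
        group, hb'.eq, mul_inv_cancel_right, he', ← hj, map_mul S.κ (v' * z)]
      rw [mul_assoc, mul_assoc, ← mul_assoc (sg C e'), ← (commute_sg S _ e').eq, mul_assoc,
        sg_mul, Bool.xor_self]
      simp [sg]
    obtain ⟨g₁, hg₁⟩ := swap_conj_sgn S j
    have hrec : (n : G)⁻¹ * g₁ * sgn C * ((n : G)⁻¹ * g₁)⁻¹ = S.κ w' * sg C e' := by
      rw [show (n : G)⁻¹ * g₁ * sgn C * ((n : G)⁻¹ * g₁)⁻¹ =
        (n : G)⁻¹ * (g₁ * sgn C * g₁⁻¹) * n by group, hg₁, ← hconj]
      group
    have hfact := (by decide +kernel : ∀ b : Bool,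
      (swap 0 1 * swap 3 4 * (if b then piSix else 1) : Perm (Fin 6)) * piSix =
        piSix * (swap 0 1 * swap 3 4 * (if b then piSix else 1)) ∧
      ¬ ((swap 0 1 * swap 3 4 * (if b then piSix else 1) : Perm (Fin 6)) = 1) ∧
      ¬ ((swap 0 1 * swap 3 4 * (if b then piSix else 1) : Perm (Fin 6)) = swap 0 3 ∨
        (swap 0 1 * swap 3 4 * (if b then piSix else 1) : Perm (Fin 6)) = swap 1 4 ∨
        (swap 0 1 * swap 3 4 * (if b then piSix else 1) : Perm (Fin 6)) = swap 2 5)) b
    rw [hwdef] at hw'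
    rw [hw'] at hrec
    rcases recognise S hfact.1 hrec with ⟨-, h⟩ | ⟨-, h⟩
    · exact hfact.2.1 h
    · exact hfact.2.2 h
  have hXc : centralizer ((zpowers (π F) : Subgroup (Y ⧸ Z)) : Set (Y ⧸ Z)) = zpowers (π F) := by
    rw [zpowers_eq_closure, centralizer_closure, ← zpowers_eq_closure]
    exact hsc.cent
  have hX3 : Nat.card (zpowers (π F)) = 3 := by rw [Nat.card_zpowers, hord]
  rcases Cfsg.Agent.S3331.result (zpowers (π F)) hX3 hXc with
    ⟨N, hN, hnil, hcop, hq⟩ | ⟨N, hN, -, hsq, ⟨e5⟩⟩ | hL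
  · haveI := hN
    have hN3 : ¬ 3 ∣ Nat.card N := Nat.prime_three.coprime_iff_not_dvd.mp hcop.symm
    have hqsc := SelfCentPrime.quotient N hsc hN3
    have hj : ∀ j, π ⟨_, ha j⟩ ∈ N := by
      intro j
      refine (QuotientGroup.eq_one_iff _).mp ?_
      set r := (QuotientGroup.mk (π ⟨_, ha j⟩) : (Y ⧸ Z) ⧸ N) with hr
      set f := (QuotientGroup.mk (π F) : (Y ⧸ Z) ⧸ N) with hf
      have hr2 : r * r = 1 := by
        rw [hr, ← QuotientGroup.mk_mul, ← map_mul, show (⟨_, ha j⟩ : Y) * ⟨_, ha j⟩ = 1 from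
          Subtype.ext (by
            rw [Subgroup.coe_mul, OneMemClass.coe_one, ← map_mul, (inV_facts _ (inV_swap j)).1,
              map_one]), map_one, QuotientGroup.mk_one]
      have hs2 : f * r * f⁻¹ * (f * r * f⁻¹) = 1 := by
        rw [show f * r * f⁻¹ * (f * r * f⁻¹) = f * (r * r) * f⁻¹ by group, hr2, mul_one,
          mul_inv_cancel]
      have hrs : r * (f * r * f⁻¹) = f * r * f⁻¹ * r := by
        have hc : (⟨_, ha j⟩ : Y) * (F * ⟨_, ha j⟩ * F⁻¹) = F * ⟨_, ha j⟩ * F⁻¹ * ⟨_, ha j⟩ := by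
          refine Subtype.ext ?_
          simp only [Subgroup.coe_mul, Subgroup.coe_inv, F]
          rw [← map_inv, ← map_mul, ← map_mul, ← map_mul, ← map_mul,
            (by decide +kernel : ∀ j, swapP j * (qSix * swapP j * qSix⁻¹) =
              qSix * swapP j * qSix⁻¹ * swapP j) j]
        have := congrArg (fun y => (QuotientGroup.mk (π y) : (Y ⧸ Z) ⧸ N)) hc
        simpa [hr, hf] using this
      have key : r = 1 ∨ f * r * f⁻¹ = 1 ∨ r = f * r * f⁻¹ := by
        rcases hq with h | ⟨⟨e⟩⟩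
        · left
          have h3 : r ^ 3 = 1 := by rw [← h]; exact pow_card_eq_one'
          rwa [pow_succ, pow_two, hr2, one_mul] at h3
        · rcases (by decide +kernel : ∀ a b : Perm (Fin 3), a * a = 1 → b * b = 1 →
            a * b = b * a → a = 1 ∨ b = 1 ∨ a = b) (e r) (e (f * r * f⁻¹))
            (by rw [← map_mul, hr2, map_one]) (by rw [← map_mul, hs2, map_one])
            (by rw [← map_mul, hrs, map_mul]) with h | h | h
          · exact Or.inl (e.map_eq_one_iff.mp h)
          · exact Or.inr (Or.inl (e.map_eq_one_iff.mp h))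
          · exact Or.inr (Or.inr (e.injective h))
      rcases key with h | h | h
      · exact h
      · exact conj_eq_one_iff.mp h
      · have hm := SelfCentPrime.mem_of_commute hqsc (mul_inv_eq_iff_eq_mul.mp h.symm).symm
        have hd1 := Subgroup.orderOf_dvd_natCard _ hm
        rw [SelfCentPrime.card_zpowers' hqsc] at hd1
        have hd2 : orderOf r ∣ 2 := orderOf_dvd_of_pow_eq_one (by rw [sq, hr2])
        exact orderOf_eq_one_iff.mp (Nat.dvd_one.mp
          ((by norm_num : Nat.Coprime 3 2).gcd_eq_one ▸ Nat.dvd_gcd hd1 hd2))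
    refine hcase N hN ?_ hj
    refine IsPGroup.of_card
      (Nat.eq_prime_pow_of_unique_prime_dvd Nat.card_pos.ne' fun {q} hq' hqd => ?_)
    by_contra hne
    haveI := Fact.mk hq'
    obtain ⟨⟨x, hx⟩, ho⟩ := exists_prime_orderOf_dvd_card' q hqd
    rw [Subgroup.orderOf_mk] at ho
    obtain ⟨y, hy, rfl⟩ := hx
    have hoy : orderOf y = q := by rw [← ho]; exact (Subgroup.orderOf_coe y).symm
    have hyq : (y : G) ^ q = 1 := by rw [← ho]; exact pow_orderOf_eq_one _
    have hodd : Odd q := hq'.odd_of_ne_two hne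
    have hcj : ∀ j, Commute (y : G) (S.κ (swapP j)) := by
      intro j
      have hrj : π (⟨_, ha j⟩ : Y) ^ 2 = 1 := by
        rw [← map_pow, sq, show (⟨_, ha j⟩ : Y) * ⟨_, ha j⟩ = 1 from Subtype.ext (by
          rw [Subgroup.coe_mul, OneMemClass.coe_one, ← map_mul, (inV_facts _ (inV_swap j)).1,
            map_one]), map_one]
      have hcomm : π y * π ⟨_, ha j⟩ = π ⟨_, ha j⟩ * π y := by
        haveI := hnil
        refine congrArg Subtype.val (Transfer.commute_of_coprime_of_isNilpotent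
          (x := (⟨π y, hy⟩ : N)) (y := ⟨_, hj j⟩) ?_).eq
        have hord' : ∀ (a : Y ⧸ Z) (h : a ∈ N), orderOf (⟨a, h⟩ : N) = orderOf a :=
          fun a h => Subgroup.orderOf_mk a h
        rw [hord' _ hy, hord']
        refine Nat.Coprime.coprime_dvd_left ((orderOf_map_dvd π y).trans hoy.dvd)
          (Nat.Coprime.coprime_dvd_right (orderOf_dvd_of_pow_eq_one hrj) ?_)
        exact (Nat.coprime_primes hq' Nat.prime_two).mpr hne
      set z := ⟨_, ha j⟩ * y * (⟨_, ha j⟩ : Y)⁻¹ * y⁻¹ with hzdef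
      have hzW : (z : G) ∈ withSgn S piGrp := (hπ z).mp (by
        rw [hzdef, map_mul, map_mul, map_mul, map_inv, map_inv, ← hcomm]; group)
      have hzc : Commute (z : G) (y : G) := (withSgn_pi_central S hzW y.2).symm
      have hzy : (z : G) * y = S.κ (swapP j) * y * (S.κ (swapP j))⁻¹ := by
        simp only [hzdef, Subgroup.coe_mul, Subgroup.coe_inv]
        group
      have hzq : (z : G) ^ q = 1 := by
        have h := hzc.mul_pow q
        rw [hyq, mul_one, hzy, conj_pow, hyq, mul_one, mul_inv_cancel] at h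
        exact h.symm
      have hz1 : (z : G) = 1 := by
        obtain ⟨m, hm⟩ := hodd
        rw [hm, pow_succ, pow_mul, sq, hW2 _ hzW, one_pow, one_mul] at hzq
        exact hzq
      rw [hz1, one_mul] at hzy
      exact (mul_inv_eq_iff_eq_mul.mp hzy.symm).symm
    obtain ⟨p, e, hp, hpy⟩ := block_cent S (swapCent_le S ((mem_swapCent S).mpr hcj)) (comm_u y.2)
    have hy2 : (y : G) * y = 1 := withSgn_sq S ⟨p, inV_of_comm p fun j => S.inj (by
      rw [map_mul, map_mul]
      have h := (hcj j).mul_left (commute_sg S (swapP j) e).symm.inv_left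
      rw [hpy, mul_inv_cancel_right] at h
      exact h.eq), e, hpy⟩
    have hq2 : q ∣ 2 := ho ▸ orderOf_dvd_of_pow_eq_one (by rw [sq]; exact hy2)
    exact hne ((Nat.prime_dvd_prime_iff_eq hq' Nat.prime_two).mp hq2)
  · haveI := hN
    have h2 : IsPGroup 2 (pre N) := by
      rintro ⟨_, y, hy, rfl⟩
      refine ⟨2, Subtype.ext ?_⟩
      have hy2 := (hπ (y * y)).mp (by rw [map_mul, ← sq, hsq _ hy])
      rw [SubmonoidClass.coe_pow, OneMemClass.coe_one, show (2 ^ 2 : ℕ) = 2 * 2 from rfl, pow_mul,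
        sq, sq]
      simpa using hW2 _ hy2
    by_cases hex : ∀ y : Y, π y ∈ N → (y : G) ∈ withSgn S piGrp
    · have hbot : N = ⊥ := (Subgroup.eq_bot_iff_forall N).mpr fun q hq => by
        obtain ⟨y, rfl⟩ := QuotientGroup.mk'_surjective Z q
        exact (hπ y).mpr (hex y hq)
      subst hbot
      exact absurd (Or.inl ⟨QuotientGroup.quotientBot.symm.trans e5⟩) hsimple
    push Not at hex
    obtain ⟨y, hy, hyW⟩ := hex
    -- the sum with the swaps is a two-group
    have hE : IsPGroup 2 (withSgn S vSix) := fun x => ⟨1, Subtype.ext (by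
      rw [pow_one, sq, Subgroup.coe_mul, OneMemClass.coe_one]; exact withSgn_sq S x.2)⟩
    have hnor : withSgn S vSix ≤ normalizer (pre N : Set G) :=
      Hyperplane.le_normalizer_of_conj_mem fun a ha x hx =>
        hpren N hN a (withSgn_le_zero S ha) x hx
    have hK : pre N ≤ withSgn S vSix := by
      refine le_sup_right.trans (two_group_le S
        (sup_le (withSgn_le_zero S) (map_subtype_le _))
        (hE.to_sup_of_normal_right' h2 hnor) le_sup_left ?_)
      have hle : withSgn S vSix ⊔ pre N ≤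
          (withSgn S vSix ⊔ pre N).comap (MulAut.conj (S.κ qSix)).toMonoidHom := by
        refine sup_le ?_ ?_
        · rintro _ ⟨p, hp, e, rfl⟩
          refine mem_comap.mpr (mem_sup_left ⟨qSix * p * qSix⁻¹, rot_conj_inV p hp, e, ?_⟩)
          show S.κ qSix * (S.κ p * sg C e) * (S.κ qSix)⁻¹ = _
          rw [kappa_sg_conj S _ (S.comm_t _), map_mul, map_mul, map_inv]
        · intro x hx
          exact mem_comap.mpr (mem_sup_right (hpren N hN _ F.2 x hx))
      exact fun x hx => hle hx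
    obtain ⟨p, hp, e, hpe⟩ := hK ⟨y, hy, rfl⟩
    change (y : G) = _ at hpe
    have hpp : ¬ (p = 1 ∨ p = piSix) := fun h => hyW (hpe ▸ ⟨p, h, e, rfl⟩)
    have hWN : ∀ x ∈ withSgn S piGrp, x ∈ pre N := fun x hx =>
      hmem N x (hWle hx) (by rw [(hπ ⟨x, hWle hx⟩).mpr hx]; exact one_mem N)
    have hκp : S.κ p ∈ pre N := by
      have h := mul_mem (⟨y, hy, rfl⟩ : (y : G) ∈ pre N) (hWN (sg C e) ⟨1, one_mem _, e, by simp⟩)
      rwa [hpe, mul_assoc, sg_mul, Bool.xor_self, show sg C false = 1 from rfl, mul_one] at h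
    refine hcase N hN h2 fun j => ?_
    have hin : S.κ (swapP j) ∈ pre N := by
      obtain ⟨k, hk⟩ := four_table p hp (fun h => hpp (Or.inl h)) (fun h => hpp (Or.inr h)) j
      have hq : S.κ (qSix ^ k.val * p * (qSix ^ k.val)⁻¹) ∈ pre N := by
        rw [map_mul, map_mul, map_inv, map_pow]
        exact hpren N hN _ (pow_mem F.2 _) _ hκp
      rcases hk with hk | hk
      · rw [hk]; exact hq
      · rw [hk, map_mul]
        exact mul_mem hq (hWN _ ((kappa_mem_withSgn S).mpr (Or.inr rfl)))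
    obtain ⟨y', hy', he'⟩ := hin
    rwa [← (Subtype.ext he' : y' = ⟨_, ha j⟩)]
  · exact absurd (Or.inr hL) hsimple

end CfsgLib.SymNine40.PiCent
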