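import Cfsg.Agent.SymNine40.CentPiBase
import Cfsg.Agent.PSp43Amalgam.SelfCent
import Cfsg.Agent.Signalizer.Hyperplane

/-!
The centraliser of the three transpositions with product `π`.

* `gen_le`: subgroups of order prime to three normalised by the translations fixed by `π`.
* `swapCent_le`: the centraliser of the three transpositions lies in the block group.
-/

set_option autoImplicit false
set_option maxRecDepth 20000
set_option synthInstance.maxHeartbeats 400000

open Equiv Subgroup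

namespace CfsgLib.SymNine40.PiCent

open Mw

variable {G : Type*} [Group G] {C : Ctx G 3} (S : C.Split)

/-- The centraliser of the exchange of two blocks. -/
noncomputable abbrev piCent (C : Ctx G 3) : Subgroup G := centralizer ({C.X piM} : Set G)

theorem mem_piCent {g : G} : g ∈ piCent C ↔ Commute g (C.X piM) := mem_centralizer_singleton_iff

theorem unit_kappa {i : Fin 3} {p : Perm (Fin 6)} (h : C.T (unit 2 i) = S.κ p) : i = 0 := by
  have h1 := S.comm_t p
  rw [← h] at h1
  exact (by decide +kernel : ∀ i : Fin 3, tr (unit 2 i) * lin 24 = lin 24 * tr (unit 2 i) → i = 0) i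
    ((C.X_commute (ok_one 3) (ok3 _)).mp h1)

theorem last_kappa {i : Fin 3} {e : Bool} {p : Perm (Fin 6)} (h : C.X (lastM i e) = S.κ p) :
    i = 0 ∧ e = false := by
  rw [lastM_eq, C.X_mul (ok_one 3) (ok3 _)] at h
  rcases e with _ | _
  · rw [if_neg Bool.false_ne_true, C.X_one, mul_one] at h
    exact ⟨unit_kappa S h, rfl⟩
  · exfalso
    rw [if_pos rfl] at h
    have hi : i = 0 := (by decide +kernel : ∀ i : Fin 3,
      (tr (unit 2 i) * lin 24) * lin 24 = lin 24 * (tr (unit 2 i) * lin 24) → i = 0) i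
      ((C.X_commute (ok3 _) (ok3 _)).mp (by
        rw [C.X_mul (ok_one 3) (ok3 _), h]; exact S.comm_t p))
    subst hi
    rw [(by decide +kernel : tr (unit 2 0) = 1), C.X_one, one_mul] at h
    exact sgn_ne_kappa S p h

theorem centPi_of_e3 {g : G} (hg : g ∈ piCent C) (he : Commute g (C.T e3)) :
    ∃ p i, p * piSix = piSix * p ∧ g = S.κ p * C.X (lastM i false) := by
  obtain ⟨i, p, rfl⟩ := S.decomp g he
  have hT : C.T (unit 2 i) = C.X (lastM i false) := rfl
  refine ⟨p, i, S.inj ?_, by rw [hT, (commute_last S p i false).eq]⟩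
  have h := mem_piCent.mp hg
  rw [hT, ← (commute_last S p i false).eq, ← kappa_pi S] at h
  have h2 := h.eq
  rw [mul_assoc, ← (commute_last S piSix i false).eq, ← mul_assoc, ← mul_assoc] at h2
  rw [map_mul, map_mul]
  exact mul_right_cancel h2

theorem cent_le_block [Finite G] {v : Vec} (hv : v ≠ 0) (hs : v.1 = v.2.1) {g : G}
    (hg : g ∈ piCent C) (hc : Commute g (C.T v)) : g ∈ blockGroup S := by
  by_cases h1 : Wt1 v
  · have he : Commute g (C.T e3) := by
      rcases (by decide +kernel : ∀ v : Vec, v.1 = v.2.1 → Wt1 v → v = e3 ∨ v = -e3) v hs h1 with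
        rfl | rfl
      · exact hc
      · rw [C.T_neg] at hc; simpa using hc.inv_right
    obtain ⟨p, i, hp, rfl⟩ := centPi_of_e3 S hg he
    exact ⟨p, i, false, hp, rfl⟩
  · obtain ⟨m, hm, rfl⟩ := C.mem_N.mp (allLe3 C v hv (fun _ => h1) g hc)
    exact monomial_mem S ((C.X_commute hm (ok3 _)).mp (mem_piCent.mp hg))

/-- The translations fixed by `π`. -/
noncomputable def axisGroup (C : Ctx G 3) : Subgroup G where
  carrier := {g | ∃ a c, g = C.T (a, a, c)}
  one_mem' := ⟨0, 0, C.T_zero.symm⟩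
  mul_mem' := by
    rintro _ _ ⟨a, b, rfl⟩ ⟨c, d, rfl⟩
    exact ⟨a + c, b + d, by rw [← C.T_add]; rfl⟩
  inv_mem' := by
    rintro _ ⟨a, b, rfl⟩
    exact ⟨-a, -b, by rw [← C.T_neg]; rfl⟩

theorem axis_le_piCent : axisGroup C ≤ piCent C := by
  rintro _ ⟨a, c, rfl⟩
  exact mem_piCent.mpr ((C.X_commute (ok_one 3) (ok3 _)).mpr
    ((by decide +kernel : ∀ a c : Fin 3, tr (a, a, c) * piM = piM * tr (a, a, c)) a c))

theorem card_axis : Nat.card (axisGroup C) = 9 := by
  have hf : Function.Bijective (fun p : Fin 3 × Fin 3 =>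
      (⟨C.T (p.1, p.1, p.2), p.1, p.2, rfl⟩ : axisGroup C)) := by
    refine ⟨fun p q h => ?_, fun ⟨g, a, c, h⟩ => ⟨(a, c), Subtype.ext h.symm⟩⟩
    have := C.T_inj (congrArg Subtype.val h)
    exact Prod.ext (congrArg (fun v : Vec => v.1) this) (congrArg (fun v : Vec => v.2.2) this)
  rw [← Nat.card_eq_of_bijective _ hf, Nat.card_eq_fintype_card]
  rfl

include S in
/-- A subgroup of order prime to three normalised by the translations fixed by `π`. -/
theorem gen_le [Finite G] {K L : Subgroup G} (hK : K ≤ piCent C) (h3 : ¬ 3 ∣ Nat.card K)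
    (hn : ∀ a c, ∀ x ∈ K, C.T (a, a, c) * x * (C.T (a, a, c))⁻¹ ∈ K)
    (hL : ∀ x ∈ K, x ∈ blockGroup S → x ∈ L) : K ≤ L := by
  haveI := Fact.mk Nat.prime_three
  have hA : Cfsg.IsElementaryAbelian 3 (axisGroup C) := by
    refine ⟨IsMulCommutative.of_comm fun ⟨a, x, y, ha⟩ ⟨b, z, w, hb⟩ => Subtype.ext ?_, ?_⟩
    · subst ha; subst hb
      exact (C.T_comm _ _).eq
    · rintro _ ⟨a, c, rfl⟩
      rw [pow_succ, pow_two]
      exact C.T_cube _
  refine (Hyperplane.le_iSup_centralizer hA h3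
    (Hyperplane.le_normalizer_of_conj_mem fun t ht x hx => ?_)).trans (iSup_le ?_)
  · obtain ⟨a, c, rfl⟩ := ht
    exact hn a c x hx
  · rintro ⟨H, hH, hi⟩ x ⟨hx, hxc⟩
    obtain ⟨s, hs, hs1⟩ : ∃ s ∈ H, s ≠ 1 := by
      by_contra hcon
      push Not at hcon
      rw [(Subgroup.eq_bot_iff_forall H).mpr hcon, relIndex_bot_left, card_axis] at hi
      exact absurd (Nat.le_of_dvd (by norm_num) hi) (by norm_num)
    obtain ⟨a, c, rfl⟩ := hH hs
    refine hL x hx (cent_le_block S (v := (a, a, c)) ?_ rfl (hK hx) ?_)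
    · intro h0
      exact hs1 (by rw [h0, C.T_zero])
    · exact ((mem_centralizer_iff.mp hxc) _ hs).symm

/-- The three swaps. -/
def swapP (j : Fin 3) : Perm (Fin 6) :=
  if j = 0 then swap 0 3 else if j = 1 then swap 1 4 else swap 2 5

/-- Membership in the group generated by the three swaps. -/
def InV (p : Perm (Fin 6)) : Prop :=
  p ∈ ([1, swap 0 3, swap 1 4, swap 2 5, swap 0 3 * swap 1 4, swap 0 3 * swap 2 5,
    swap 1 4 * swap 2 5, piSix] : List (Perm (Fin 6)))

instance : DecidablePred InV := fun p => by unfold InV; infer_instance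

theorem inV_swap : ∀ j, InV (swapP j) := by decide +kernel

theorem inV_mul : ∀ p q, InV p → InV q → InV (p * q) := by
  intro p q hp hq
  have h : ∀ a ∈ ([1, swap 0 3, swap 1 4, swap 2 5, swap 0 3 * swap 1 4, swap 0 3 * swap 2 5,
    swap 1 4 * swap 2 5, piSix] : List (Perm (Fin 6))), ∀ b ∈ ([1, swap 0 3, swap 1 4, swap 2 5,
    swap 0 3 * swap 1 4, swap 0 3 * swap 2 5, swap 1 4 * swap 2 5, piSix] : List (Perm (Fin 6))),
    InV (a * b) := by decide +kernel
  exact h p hp q hq

theorem inV_facts : ∀ p ∈ ([1, swap 0 3, swap 1 4, swap 2 5, swap 0 3 * swap 1 4,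
    swap 0 3 * swap 2 5, swap 1 4 * swap 2 5, piSix] : List (Perm (Fin 6))),
    p * p = 1 ∧ p * piSix = piSix * p ∧ (∀ j, p * swapP j = swapP j * p) ∧
    (p * (qSix * p * qSix⁻¹) * (qSix * qSix * p * (qSix * qSix)⁻¹) = 1 →
      ∃ w, InV w ∧ p * (qSix * w * qSix⁻¹) = w) := by decide +kernel

theorem inV_of_comm : ∀ p : Perm (Fin 6), (∀ j, p * swapP j = swapP j * p) → InV p := by
  decide +kernel

/-- The image of the group generated by the swaps. -/
noncomputable def vGroup : Subgroup G where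
  carrier := {g | ∃ p, InV p ∧ g = S.κ p}
  one_mem' := ⟨1, by decide +kernel, (map_one _).symm⟩
  mul_mem' := by
    rintro _ _ ⟨p, hp, rfl⟩ ⟨q, hq, rfl⟩
    exact ⟨p * q, inV_mul p q hp hq, (map_mul _ _ _).symm⟩
  inv_mem' := by
    rintro _ ⟨p, hp, rfl⟩
    exact ⟨p, hp, by rw [← map_inv, inv_eq_of_mul_eq_one_right (inV_facts p hp).1]⟩

/-- The centraliser of the three swaps. -/
noncomputable def swapCent : Subgroup G := ⨅ j : Fin 3, centralizer ({S.κ (swapP j)} : Set G)

theorem mem_swapCent {g : G} : g ∈ swapCent S ↔ ∀ j, Commute g (S.κ (swapP j)) := by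
  simp only [swapCent, mem_iInf, mem_centralizer_singleton_iff, Commute, SemiconjBy]

theorem swapCent_le_piCent : swapCent S ≤ piCent C := fun g hg => by
  have h := mem_swapCent S |>.mp hg
  rw [mem_piCent, ← kappa_pi S, (by decide +kernel : piSix = swapP 0 * swapP 1 * swapP 2),
    map_mul, map_mul]
  exact ((h 0).mul_right (h 1)).mul_right (h 2)

theorem kappa_mem_swapCent {p : Perm (Fin 6)} (hp : InV p) : S.κ p ∈ swapCent S :=
  (mem_swapCent S).mpr fun j => by
    rw [Commute, SemiconjBy, ← map_mul, ← map_mul, (inV_facts p hp).2.2.1 j]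

theorem vGroup_central {z g : G} (hz : z ∈ vGroup S) (hg : g ∈ swapCent S) : Commute g z := by
  obtain ⟨p, hp, rfl⟩ := hz
  have h := (mem_swapCent S).mp hg
  rcases (by decide +kernel : ∀ p ∈ ([1, swap 0 3, swap 1 4, swap 2 5, swap 0 3 * swap 1 4,
    swap 0 3 * swap 2 5, swap 1 4 * swap 2 5, piSix] : List (Perm (Fin 6))),
    ∃ a b c : Bool, p = (if a then swapP 0 else 1) * (if b then swapP 1 else 1) *
      (if c then swapP 2 else 1)) p hp with ⟨a, b, c, rfl⟩
  rw [map_mul, map_mul]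
  refine ((?_ : Commute g _).mul_right ?_).mul_right ?_
  all_goals split_ifs <;> first | exact h _ | (rw [map_one]; exact Commute.one_right g)

theorem vGroup_le_block : vGroup S ≤ blockGroup S := by
  rintro _ ⟨p, hp, rfl⟩
  exact ⟨p, 0, false, (inV_facts p hp).2.1,
    by rw [(by decide +kernel : lastM 0 false = 1), C.X_one, mul_one]⟩

theorem block_swapCent {g : G} (hg : g ∈ swapCent S) (hb : g ∈ blockGroup S) :
    ∃ z ∈ vGroup S, ∃ i e, g = z * C.X (lastM i e) := by
  obtain ⟨p, i, e, hp, rfl⟩ := hb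
  refine ⟨_, ⟨p, inV_of_comm p fun j => S.inj ?_, rfl⟩, i, e, rfl⟩
  have h := ((mem_swapCent S).mp hg j).mul_left ((commute_last S (swapP j) i e).symm.inv_left)
  rw [mul_inv_cancel_right] at h
  rw [map_mul, map_mul]
  exact h.eq

theorem last_mem_vGroup {i : Fin 3} {e : Bool} (h : C.X (lastM i e) ∈ vGroup S) :
    i = 0 ∧ e = false := by
  obtain ⟨p, -, hp⟩ := h
  exact last_kappa S hp

theorem last_mem_swapCent (i : Fin 3) (e : Bool) : C.X (lastM i e) ∈ swapCent S :=
  (mem_swapCent S).mpr fun j => (commute_last S _ i e).symm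

theorem eq_zero_false {K : Subgroup G} [Finite G] (h3 : ¬ 3 ∣ Nat.card K)
    (hn : ∀ x ∈ K, C.T e3 * x * (C.T e3)⁻¹ ∈ K) {i : Fin 3} {e : Bool}
    (h : C.X (lastM i e) ∈ K) : i = 0 ∧ e = false := by
  have hno : ∀ v : Vec, C.T v ∈ K → v = 0 := by
    intro v hv
    by_contra h0
    refine h3 ?_
    haveI := Fact.mk Nat.prime_three
    have ho : orderOf (C.T v) = 3 := orderOf_eq_prime
      (by rw [pow_succ, pow_two]; exact C.T_cube v)
      (fun h1 => h0 (C.T_inj (h1.trans C.T_zero.symm)))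
    rw [← ho]
    exact Subgroup.orderOf_dvd_natCard _ hv
  rcases e with _ | _
  · exact ⟨(by decide +kernel : ∀ i : Fin 3, unit 2 i = 0 → i = 0) i (hno _ h), rfl⟩
  · exfalso
    have h1 := mul_mem (hn _ h) (inv_mem h)
    rw [show C.T e3 = C.X (tr e3) from rfl, C.X_conj (ok_one 3) (ok3 _), ← C.X_inv (ok3 _),
      ← C.X_mul (ok3 _) (ok3 _), (by decide +kernel : ∀ i : Fin 3,
        tr e3 * lastM i true * (tr e3)⁻¹ * (lastM i true)⁻¹ = tr (e3 + e3)) i] at h1
    exact (by decide +kernel : e3 + e3 ≠ (0 : Vec)) (hno _ h1)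

theorem preimage_le [Finite G] {K : Subgroup G} (hK : K ≤ swapCent S) (h3 : ¬ 3 ∣ Nat.card K)
    (hV : vGroup S ≤ K) (hn : ∀ a c, ∀ x ∈ K, C.T (a, a, c) * x * (C.T (a, a, c))⁻¹ ∈ K) :
    K ≤ vGroup S := by
  refine gen_le S (hK.trans (swapCent_le_piCent S)) h3 hn fun x hx hb => ?_
  obtain ⟨z, hz, i, e, rfl⟩ := block_swapCent S (hK hx) hb
  have h1 : C.X (lastM i e) ∈ K := by simpa using mul_mem (inv_mem (hV hz)) hx
  obtain ⟨rfl, rfl⟩ := eq_zero_false h3 (hn 0 1) h1
  rw [(by decide +kernel : lastM 0 false = 1), C.X_one, mul_one]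
  exact hz

/-- The centraliser of the three swaps lies in the block group. -/
theorem swapCent_le [Finite G] : swapCent S ≤ blockGroup S := by
  classical
  haveI := Fact.mk Nat.prime_three
  set Y := swapCent S with hY
  set Z := (vGroup S).subgroupOf Y with hZdef
  haveI hZn : Z.Normal := ⟨fun z hz g => mem_subgroupOf.mpr (by
    have := vGroup_central S (mem_subgroupOf.mp hz) g.2
    rw [Subgroup.coe_mul, Subgroup.coe_mul, Subgroup.coe_inv, this.eq, mul_inv_cancel_right]
    exact mem_subgroupOf.mp hz)⟩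
  let π := QuotientGroup.mk' Z
  have hπ : ∀ y : Y, π y = 1 ↔ (y : G) ∈ vGroup S := fun y =>
    (QuotientGroup.eq_one_iff y).trans mem_subgroupOf
  have hZle : vGroup S ≤ Y := fun z ⟨p, hp, e⟩ => e ▸ kappa_mem_swapCent S hp
  let E : Y := ⟨C.T e3, last_mem_swapCent S 1 false⟩
  let U : Y := ⟨C.X (lastM 0 true), last_mem_swapCent S 0 true⟩
  have hE3 : E ^ 3 = 1 := Subtype.ext (by
    rw [SubmonoidClass.coe_pow, pow_succ, pow_two, OneMemClass.coe_one]
    exact C.T_cube e3)
  have hE1 : π E ≠ 1 := fun h =>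
    absurd (last_mem_vGroup S (i := 1) (e := false) ((hπ E).mp h)).1 (by decide)
  have hord : orderOf (π E) = 3 := orderOf_eq_prime (by rw [← map_pow, hE3, map_one]) hE1
  have hblock : ∀ y : Y, (y : G) ∈ blockGroup S → ∃ i e, π y = π ⟨_, last_mem_swapCent S i e⟩ := by
    intro y hy
    obtain ⟨z, hz, i, e, hze⟩ := block_swapCent S y.2 hy
    refine ⟨i, e, ?_⟩
    rw [show y = ⟨z, hZle hz⟩ * ⟨_, last_mem_swapCent S i e⟩ from Subtype.ext hze, map_mul,
      (hπ _).mpr (show ((⟨z, hZle hz⟩ : Y) : G) ∈ vGroup S from hz), one_mul]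
  have hsc : SelfCentPrime.SelfCent (Y ⧸ Z) 3 (π E) := by
    refine ⟨Nat.prime_three, hord, le_antisymm ?_ ?_⟩
    · intro q hq
      obtain ⟨y, rfl⟩ := QuotientGroup.mk'_surjective Z q
      have hq' : π y * π E = π E * π y := mem_centralizer_singleton_iff.mp hq
      have hz : ((E⁻¹ * (y * E * y⁻¹) : Y) : G) ∈ vGroup S := (hπ _).mp (by
        rw [map_mul, map_mul, map_mul, map_inv, map_inv, hq']; group)
      set z := E⁻¹ * (y * E * y⁻¹) with hzdef
      have hze : Commute z E := Subtype.ext (vGroup_central S hz E.2).eq.symm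
      have hz2 : z * z = 1 := by
        obtain ⟨p, hp, e⟩ := hz
        refine Subtype.ext ?_
        rw [Subgroup.coe_mul, OneMemClass.coe_one, e, ← map_mul, (inV_facts p hp).1, map_one]
      have hz3 : z ^ 3 = 1 := by
        have h1 : (E * z) ^ 3 = 1 := by
          rw [hzdef, mul_inv_cancel_left, conj_pow, hE3, mul_one, mul_inv_cancel]
        rwa [hze.symm.mul_pow, hE3, one_mul] at h1
      have hz1 : z = 1 := by
        rw [pow_succ, pow_two, hz2, one_mul] at hz3
        exact hz3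
      have hye : Commute (y : G) (C.T e3) := by
        rw [hzdef, inv_mul_eq_one] at hz1
        exact congrArg Subtype.val (mul_inv_eq_iff_eq_mul.mp hz1.symm)
      obtain ⟨p, i, hp, hpy⟩ := centPi_of_e3 S (swapCent_le_piCent S y.2) hye
      obtain ⟨i', e', hi⟩ := hblock y ⟨p, i, false, hp, hpy⟩
      rw [hi]
      rcases e' with _ | _
      · refine ⟨(i'.val : ℤ), ?_⟩
        show π E ^ (i'.val : ℤ) = _
        rw [zpow_natCast, ← map_pow]
        refine congrArg π (Subtype.ext ?_)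
        rw [SubmonoidClass.coe_pow]
        exact (unit2_pow i').symm
      · exfalso
        rw [hi, ← map_mul, ← map_mul] at hq'
        have hmem := (hπ _).mp (show π ((E * ⟨_, last_mem_swapCent S i' true⟩)⁻¹ *
          (⟨_, last_mem_swapCent S i' true⟩ * E)) = 1 by rw [map_mul, map_inv, hq', inv_mul_cancel])
        simp only [Subgroup.coe_mul, Subgroup.coe_inv, E] at hmem
        rw [show C.T e3 = C.X (tr e3) from rfl, ← C.X_mul (ok3 _) (ok3 _),
          ← C.X_mul (ok3 _) (ok3 _), ← C.X_inv (ok3 _), ← C.X_mul (ok3 _) (ok3 _)] at hmem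
        rw [(by decide +kernel : ∀ i : Fin 3,
          (tr e3 * lastM i true)⁻¹ * (lastM i true * tr e3) = lastM 2 false) i'] at hmem
        exact absurd (last_mem_vGroup S hmem).1 (by decide)
    · rw [zpowers_le]; exact mem_centralizer_singleton_iff.mpr rfl
  -- the action of the rotation
  set f := C.T (1, 1, 0) with hf
  have hfY : Y.map (MulAut.conj f).toMonoidHom = Y := by
    have hconj : ∀ g : G, g ∈ Y → ∀ h : G, (∀ j, ∃ j', h * S.κ (swapP j') * h⁻¹ = S.κ (swapP j)) →
        h * g * h⁻¹ ∈ Y := fun g hg h hh => (mem_swapCent S).mpr fun j => by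
      obtain ⟨j', hj'⟩ := hh j
      rw [← hj']
      exact (Commute.conj_iff h).mpr ((mem_swapCent S).mp hg j')
    have hq : ∀ j, ∃ j', f * S.κ (swapP j') * f⁻¹ = S.κ (swapP j) := fun j => by
      obtain ⟨j', hj⟩ := (by decide +kernel : ∀ j, ∃ j', qSix * swapP j' * qSix⁻¹ = swapP j) j
      exact ⟨j', by rw [hf, ← kappa_rot S, ← map_inv, ← map_mul, ← map_mul, hj]⟩
    have hq' : ∀ j, ∃ j', f⁻¹ * S.κ (swapP j') * f⁻¹⁻¹ = S.κ (swapP j) := fun j => by
      obtain ⟨j', hj⟩ := (by decide +kernel : ∀ j, ∃ j', qSix⁻¹ * swapP j' * qSix⁻¹⁻¹ = swapP j) j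
      exact ⟨j', by rw [hf, ← kappa_rot S, ← map_inv, ← map_inv, ← map_mul, ← map_mul, hj]⟩
    refine le_antisymm (by rintro _ ⟨g, hg, rfl⟩; exact hconj g hg f hq) fun g hg => ?_
    refine ⟨f⁻¹ * g * f⁻¹⁻¹, hconj g hg f⁻¹ hq', ?_⟩
    change f * _ * f⁻¹ = g
    group
  let φ : Y ≃* Y := ((MulAut.conj f).subgroupMap Y).trans (MulEquiv.subgroupCongr hfY)
  have hφ : ∀ y : Y, ((φ y : Y) : G) = f * y * f⁻¹ := fun y => rfl
  have hφV : ∀ y : Y, (y : G) ∈ vGroup S → ((φ y : Y) : G) ∈ vGroup S := by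
    intro y ⟨p, hp, e⟩
    refine ⟨qSix * p * qSix⁻¹, (by decide +kernel : ∀ p ∈ ([1, swap 0 3, swap 1 4, swap 2 5,
      swap 0 3 * swap 1 4, swap 0 3 * swap 2 5, swap 1 4 * swap 2 5, piSix] : List (Perm (Fin 6))),
      InV (qSix * p * qSix⁻¹)) p hp, ?_⟩
    rw [hφ, e, map_mul, map_mul, map_inv, kappa_rot]
  have hZmap : Z.map φ.toMonoidHom = Z := by
    refine Subgroup.eq_of_le_of_card_ge ?_ (card_map_of_injective φ.injective).ge
    rintro _ ⟨y, hy, rfl⟩
    exact mem_subgroupOf.mpr (hφV y (mem_subgroupOf.mp hy))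
  let σ : (Y ⧸ Z) ≃* (Y ⧸ Z) := QuotientGroup.congr Z Z φ hZmap
  have hσ : ∀ y : Y, σ (π y) = π (φ y) := fun y => rfl
  have hf3 : f * f * f = 1 := C.T_cube _
  have hfixed : ∀ q, σ q = q → ∃ i e, q = π ⟨_, last_mem_swapCent S i e⟩ := by
    intro q hq
    obtain ⟨y, rfl⟩ := QuotientGroup.mk'_surjective Z q
    rw [hσ] at hq
    obtain ⟨p, hp, hpz⟩ := (hπ _).mp (show π (y⁻¹ * φ y) = 1 by
      rw [map_mul, map_inv, hq, inv_mul_cancel])
    rw [Subgroup.coe_mul, Subgroup.coe_inv, hφ] at hpz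
    have hstep : f * (y : G) * f⁻¹ = y * S.κ p := by rw [← hpz]; group
    have hnorm : p * (qSix * p * qSix⁻¹) * (qSix * qSix * p * (qSix * qSix)⁻¹) = 1 := by
      refine S.inj ?_
      simp only [map_mul, map_inv, map_one, kappa_rot, ← hf]
      refine mul_left_cancel (a := (y : G)) ?_
      calc (y : G) * (S.κ p * (f * S.κ p * f⁻¹) * (f * f * S.κ p * (f * f)⁻¹))
          = ((y : G) * S.κ p) * (f * S.κ p * f⁻¹) * (f * f * S.κ p * (f * f)⁻¹) := by group
        _ = (f * y * f⁻¹) * (f * S.κ p * f⁻¹) * (f * f * S.κ p * (f * f)⁻¹) := by rw [hstep]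
        _ = f * (y * S.κ p) * f⁻¹ * (f * f * S.κ p * (f * f)⁻¹) := by group
        _ = f * (f * y * f⁻¹) * f⁻¹ * (f * f * S.κ p * (f * f)⁻¹) := by rw [hstep]
        _ = f * f * (y * S.κ p) * (f * f)⁻¹ := by group
        _ = f * f * (f * y * f⁻¹) * (f * f)⁻¹ := by rw [hstep]
        _ = (f * f * f) * y * (f * f * f)⁻¹ := by group
        _ = y * 1 := by rw [hf3]; group
    obtain ⟨w, hw, hpw⟩ := (inV_facts p hp).2.2.2 hnorm
    set y' : Y := y * ⟨S.κ w, kappa_mem_swapCent S hw⟩ with hy'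
    have hyw : π y' = π y := by
      rw [hy', map_mul, (hπ ⟨S.κ w, _⟩).mpr ⟨w, hw, rfl⟩, mul_one]
    have hc : Commute f (y' : G) := by
      refine mul_inv_eq_iff_eq_mul.mp ?_
      rw [hy', Subgroup.coe_mul]
      calc f * ((y : G) * S.κ w) * f⁻¹ = (f * y * f⁻¹) * (f * S.κ w * f⁻¹) := by group
        _ = y * (S.κ p * (f * S.κ w * f⁻¹)) := by rw [hstep]; group
        _ = y * S.κ w := by rw [hf, ← kappa_rot S, ← map_inv, ← map_mul, ← map_mul, ← map_mul, hpw]
    obtain ⟨i, e, hie⟩ := hblock y' (cent_le_block S (v := (1, 1, 0)) (by decide) rfl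
      (swapCent_le_piCent S y'.2) hc.symm)
    exact ⟨i, e, hyw ▸ hie⟩
  -- subgroups of order prime to three
  have hodd : ∀ N : Subgroup (Y ⧸ Z), N.Normal → ¬ 3 ∣ Nat.card N → N.map σ.toMonoidHom = N →
      N = ⊥ := by
    intro N hN hN3 hNσ
    set K := (N.comap π).map Y.subtype with hK
    have hKY : K ≤ Y := map_subtype_le _
    have hVK : vGroup S ≤ K := fun z hz =>
      ⟨⟨z, hZle hz⟩, show π _ ∈ N by rw [(hπ _).mpr (show ((⟨z, hZle hz⟩ : Y) : G) ∈ _ from hz)]; exact one_mem N, rfl⟩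
    have hK3 : ¬ 3 ∣ Nat.card K := by
      intro hd
      obtain ⟨⟨x, hx⟩, ho⟩ := exists_prime_orderOf_dvd_card' 3 hd
      rw [Subgroup.orderOf_mk] at ho
      obtain ⟨y, hy, rfl⟩ := hx
      have hy3 : y ^ 3 = 1 := Subtype.ext (by
        rw [SubmonoidClass.coe_pow, OneMemClass.coe_one, ← ho]; exact pow_orderOf_eq_one _)
      have h1 : π y ≠ 1 := fun h => by
        obtain ⟨p, hp, hpe⟩ := (hπ y).mp h
        have h2 : (y : G) * y = 1 := by rw [hpe, ← map_mul, (inV_facts p hp).1, map_one]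
        have h3 := congrArg Subtype.val hy3
        rw [SubmonoidClass.coe_pow, pow_succ, pow_two, h2, one_mul, OneMemClass.coe_one] at h3
        change (Y.subtype y) = 1 at h3
        rw [h3, orderOf_one] at ho
        exact absurd ho (by norm_num)
      refine hN3 ?_
      rw [← orderOf_eq_prime (x := π y) (p := 3) (by rw [← map_pow, hy3, map_one]) h1]
      exact Subgroup.orderOf_dvd_natCard _ hy
    have hnE : ∀ x ∈ K, C.T e3 * x * (C.T e3)⁻¹ ∈ K := by
      rintro _ ⟨y, hy, rfl⟩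
      refine ⟨E * y * E⁻¹, show π _ ∈ N from ?_, rfl⟩
      rw [map_mul, map_mul, map_inv]
      exact hN.conj_mem _ hy _
    have hnf : ∀ x ∈ K, f * x * f⁻¹ ∈ K := by
      rintro _ ⟨y, hy, rfl⟩
      refine ⟨φ y, show π (φ y) ∈ N from ?_, rfl⟩
      rw [← hσ, ← hNσ]
      exact ⟨π y, hy, rfl⟩
    have hn : ∀ a c, ∀ x ∈ K, C.T (a, a, c) * x * (C.T (a, a, c))⁻¹ ∈ K := by
      intro a c x hx
      have hpow : ∀ (t : G), (∀ x ∈ K, t * x * t⁻¹ ∈ K) → ∀ (n : ℕ), ∀ x ∈ K,
          t ^ n * x * (t ^ n)⁻¹ ∈ K := by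
        intro t ht n
        induction n with
        | zero => simp
        | succ n ih =>
          intro x hx
          have := ih _ (ht x hx)
          rw [pow_succ]
          simpa [mul_assoc] using this
      rw [show C.T (a, a, c) = f ^ a.val * C.T e3 ^ c.val by
        rw [hf, ← T_nsmul, ← T_nsmul, ← C.T_add]
        exact congrArg C.T ((by decide +kernel : ∀ a c : Fin 3,
          ((a, a, c) : Vec) = a.val • ((1, 1, 0) : Vec) + c.val • e3) a c)]
      have := hpow f hnf a.val _ (hpow _ hnE c.val x hx)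
      simpa [mul_assoc] using this
    refine (Subgroup.eq_bot_iff_forall N).mpr fun q hq => ?_
    obtain ⟨y, rfl⟩ := QuotientGroup.mk'_surjective Z q
    exact (hπ y).mpr (preimage_le S hKY hK3 hVK hn ⟨y, hq, rfl⟩)
  have hσ3 : ∀ q, σ (σ (σ q)) = q := by
    intro q
    obtain ⟨y, rfl⟩ := QuotientGroup.mk'_surjective Z q
    rw [hσ, hσ, hσ]
    refine congrArg π (Subtype.ext ?_)
    rw [hφ, hφ, hφ]
    calc f * (f * (f * y * f⁻¹) * f⁻¹) * f⁻¹ = (f * f * f) * y * (f * f * f)⁻¹ := by group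
      _ = y := by rw [hf3]; group
  have hsimple : ¬ (Nonempty (Y ⧸ Z ≃* alternatingGroup (Fin 5)) ∨
      Nonempty (Y ⧸ Z ≃* Matrix.ProjectiveSpecialLinearGroup (Fin 2) (ZMod 7))) := by
    intro hiso
    have hU2 : π U * π U = 1 := by
      rw [← map_mul, (hπ _).mpr]
      rw [Subgroup.coe_mul, ← C.X_mul (ok3 _) (ok3 _),
        (by decide +kernel : lastM 0 true * lastM 0 true = 1), C.X_one]
      exact one_mem _
    have hU1 : π U ≠ 1 := fun h =>
      absurd (last_mem_vGroup S (i := 0) (e := true) ((hπ U).mp h)).2 (by decide)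
    obtain ⟨a, hat, ha1, hat', hfix⟩ := PSp43Amalgam.exists_fixed hiso hU2 hU1
    have hσU : σ (π U) = π U := by
      rw [hσ]
      refine congrArg π (Subtype.ext ?_)
      rw [hφ, hf, show C.T (1, 1, 0) = C.X (tr (1, 1, 0)) from rfl]
      change C.X _ * C.X (lastM 0 true) * _ = _
      rw [C.X_conj (ok_one 3) (ok3 _), (by decide +kernel :
        tr (1, 1, 0) * lastM 0 true * (tr (1, 1, 0))⁻¹ = lastM 0 true)]
    obtain ⟨i, e, rfl⟩ := hfixed a (hfix σ hσU hσ3)
    rw [← map_mul, ← map_mul] at hat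
    have hmem := (hπ _).mp (show π ((U * ⟨_, last_mem_swapCent S i e⟩)⁻¹ *
      (⟨_, last_mem_swapCent S i e⟩ * U)) = 1 by rw [map_mul, map_inv, hat, inv_mul_cancel])
    simp only [Subgroup.coe_mul, Subgroup.coe_inv, U] at hmem
    rw [← C.X_mul (ok3 _) (ok3 _), ← C.X_mul (ok3 _) (ok3 _), ← C.X_inv (ok3 _),
      ← C.X_mul (ok3 _) (ok3 _)] at hmem
    obtain ⟨i', e', hie'⟩ := (by decide +kernel : ∀ i : Fin 3, ∀ e : Bool, ∃ i' e',
      (lastM 0 true * lastM i e)⁻¹ * (lastM i e * lastM 0 true) = lastM i' e' ∧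
      (i' = 0 → i = 0)) i e
    rw [hie'.1] at hmem
    obtain rfl := hie'.2 (last_mem_vGroup S hmem).1
    rcases e with _ | _
    · exact ha1 ((hπ _).mpr (by
        show C.X (lastM 0 false) ∈ vGroup S
        rw [(by decide +kernel : lastM 0 false = 1), C.X_one]; exact one_mem _))
    · exact hat' rfl
  have hXc : centralizer ((zpowers (π E) : Subgroup (Y ⧸ Z)) : Set (Y ⧸ Z)) = zpowers (π E) := by
    rw [zpowers_eq_closure, centralizer_closure, ← zpowers_eq_closure]
    exact hsc.cent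
  have hX3 : Nat.card (zpowers (π E)) = 3 := by rw [Nat.card_zpowers, hord]
  rcases Cfsg.Agent.S3331.result (zpowers (π E)) hX3 hXc with
    ⟨N, hN, -, hcop, hq⟩ | ⟨N, hN, -, hsq, ⟨e5⟩⟩ | hL
  · haveI := hN
    have hN3 : ¬ 3 ∣ Nat.card N := Nat.prime_three.coprime_iff_not_dvd.mp hcop.symm
    have hsmall : Nat.card ((Y ⧸ Z) ⧸ N) ∣ 6 := by
      rcases hq with h | ⟨⟨e⟩⟩
      · rw [h]; norm_num
      · rw [Nat.card_congr e.toEquiv, Nat.card_perm, Nat.card_fin]; rfl
    have hNσ : N.map σ.toMonoidHom = N := by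
      refine Subgroup.eq_of_le_of_card_ge ?_ (card_map_of_injective (f := σ.toMonoidHom) σ.injective).ge
      haveI : (N.map σ.toMonoidHom).Normal := hN.map _ σ.surjective
      set R := (N.map σ.toMonoidHom).map (QuotientGroup.mk' N) with hR
      haveI : R.Normal := Subgroup.Normal.map inferInstance _ (QuotientGroup.mk'_surjective N)
      have hR3 : ¬ 3 ∣ Nat.card R := fun h => hN3 (by
        rw [← card_map_of_injective (K := N) (f := σ.toMonoidHom) σ.injective]
        exact h.trans (Subgroup.card_map_dvd _ _))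
      have hR2 : Nat.card R ∣ 2 := ((Nat.prime_three.coprime_iff_not_dvd.mpr hR3).symm).dvd_of_dvd_mul_left
        ((Subgroup.card_subgroup_dvd_card R).trans hsmall)
      have hqsc := SelfCentPrime.quotient N hsc hN3
      intro x hx
      have hxR : (QuotientGroup.mk' N x) ∈ R := ⟨x, hx, rfl⟩
      refine (QuotientGroup.eq_one_iff x).mp ?_
      by_contra h1
      set r := QuotientGroup.mk' N x with hr
      have honly : ∀ s ∈ R, s = 1 ∨ s = r := by
        intro s hs
        by_contra hcon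
        push Not at hcon
        have h3c : 2 < Nat.card R := by
          have : Fintype R := Fintype.ofFinite _
          rw [Nat.card_eq_fintype_card]
          exact Fintype.two_lt_card_iff.mpr ⟨1, ⟨r, hxR⟩, ⟨s, hs⟩,
            fun e => h1 (congrArg Subtype.val e).symm, fun e => hcon.1 (congrArg Subtype.val e).symm,
            fun e => hcon.2 (congrArg Subtype.val e).symm⟩
        exact absurd (Nat.le_of_dvd (by norm_num) hR2) (by omega)
      have hcomm : r * QuotientGroup.mk (π E) = QuotientGroup.mk (π E) * r := by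
        rcases honly _ ((inferInstance : R.Normal).conj_mem r hxR (QuotientGroup.mk (π E))) with
          e | e
        · exact absurd (conj_eq_one_iff.mp e) h1
        · exact (mul_inv_eq_iff_eq_mul.mp e).symm
      have hmem := SelfCentPrime.mem_of_commute hqsc hcomm
      have hd1 := Subgroup.orderOf_dvd_natCard _ hmem
      rw [SelfCentPrime.card_zpowers' hqsc] at hd1
      have hd2 := (Subgroup.orderOf_dvd_natCard _ hxR).trans hR2
      exact h1 (orderOf_eq_one_iff.mp (Nat.dvd_one.mp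
        ((by norm_num : Nat.Coprime 3 2).gcd_eq_one ▸ Nat.dvd_gcd hd1 hd2)))
    have hbot := hodd N hN hN3 hNσ
    have hcard : Nat.card (Y ⧸ Z) ∣ 6 := by
      have := N.card_mul_index
      rw [Subgroup.index_eq_card, hbot, Subgroup.card_bot, one_mul] at this
      rw [← this, ← hbot]
      exact hsmall
    set P := ((blockGroup S).subgroupOf Y).map π with hP
    have hEP : π E ∈ P := mem_map_of_mem π (mem_subgroupOf.mpr
      (⟨1, 1, false, by simp, by rw [map_one, one_mul]; rfl⟩ : C.T e3 ∈ blockGroup S))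
    have hUP : π U ∈ P := mem_map_of_mem π (mem_subgroupOf.mpr
      (⟨1, 0, true, by simp, by rw [map_one, one_mul]⟩ : C.X (lastM 0 true) ∈ blockGroup S))
    have hUE : π U ∉ zpowers (π E) := by
      intro hmem
      have hd1 := Subgroup.orderOf_dvd_natCard _ hmem
      rw [hX3] at hd1
      have hd2 : orderOf (π U) ∣ 2 := orderOf_dvd_of_pow_eq_one (by
        rw [← map_pow, (hπ _).mpr]
        rw [SubmonoidClass.coe_pow, pow_two, ← C.X_mul (ok3 _) (ok3 _),
          (by decide +kernel : lastM 0 true * lastM 0 true = 1), C.X_one]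
        exact one_mem _)
      have h1 := orderOf_eq_one_iff.mp (Nat.dvd_one.mp
        ((by norm_num : Nat.Coprime 3 2).gcd_eq_one ▸ Nat.dvd_gcd hd1 hd2))
      exact absurd (last_mem_vGroup S (i := 0) (e := true) ((hπ U).mp h1)).2 (by decide)
    have h3P : 3 ∣ Nat.card P := hX3 ▸ card_dvd_of_le (zpowers_le.mpr hEP)
    have htop : P = ⊤ := by
      refine Subgroup.eq_top_of_card_eq _ (Nat.dvd_antisymm (card_subgroup_dvd_card P) ?_)
      have hP6 := (card_subgroup_dvd_card P).trans hcard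
      have hne : Nat.card P ≠ 3 := fun h => hUE (by
        rw [Subgroup.eq_of_le_of_card_ge (zpowers_le.mpr hEP) (by rw [h, hX3])]
        exact hUP)
      have hle6 := Nat.le_of_dvd (by norm_num) hP6
      have hpos : 0 < Nat.card P := Nat.card_pos
      have : Nat.card P = 6 := by
        interval_cases h : Nat.card P <;> first | rfl | omega | simp_all
      rw [this]; exact hcard
    intro g hg
    obtain ⟨y, hy, hye⟩ := (htop ▸ mem_top (π ⟨g, hg⟩) : π ⟨g, hg⟩ ∈ P)
    have hz := (hπ _).mp (show π (y⁻¹ * ⟨g, hg⟩) = 1 by rw [map_mul, map_inv, hye, inv_mul_cancel])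
    simp only [Subgroup.coe_mul, Subgroup.coe_inv] at hz
    simpa using mul_mem (mem_subgroupOf.mp hy) (vGroup_le_block S hz)
  · exfalso
    haveI := hN
    have hN3 : ¬ 3 ∣ Nat.card N := fun h => by
      obtain ⟨⟨x, hx⟩, ho⟩ := exists_prime_orderOf_dvd_card' 3 h
      rw [Subgroup.orderOf_mk] at ho
      have := orderOf_dvd_of_pow_eq_one (hsq x hx)
      rw [ho] at this
      norm_num at this
    have hNσ : N.map σ.toMonoidHom = N := by
      refine Subgroup.eq_of_le_of_card_ge ?_ (card_map_of_injective (f := σ.toMonoidHom) σ.injective).ge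
      haveI : (N.map σ.toMonoidHom).Normal := hN.map _ σ.surjective
      haveI : Nontrivial ((Y ⧸ Z) ⧸ N) := e5.toEquiv.nontrivial
      haveI : IsSimpleGroup (alternatingGroup (Fin 5)) := alternatingGroup.isSimpleGroup_five
      haveI : IsSimpleGroup ((Y ⧸ Z) ⧸ N) :=
        IsSimpleGroup.isSimpleGroup_of_surjective e5.symm.toMonoidHom e5.symm.surjective
      rcases (Subgroup.Normal.map (inferInstance : (N.map σ.toMonoidHom).Normal) _
        (QuotientGroup.mk'_surjective N)).eq_bot_or_eq_top with h | h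
      · rwa [Subgroup.map_eq_bot_iff, QuotientGroup.ker_mk'] at h
      · exfalso
        refine hN3 ?_
        have h1 := (Subgroup.card_map_dvd (N.map σ.toMonoidHom) (QuotientGroup.mk' N)).trans
          (card_map_of_injective (K := N) (f := σ.toMonoidHom) σ.injective).dvd
        rw [h, Subgroup.card_top, Nat.card_congr e5.toEquiv, nat_card_alternatingGroup,
          Nat.card_fin] at h1
        exact Nat.dvd_trans (by decide : 3 ∣ Nat.factorial 5 / 2) h1
    have hbot := hodd N hN hN3 hNσ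
    subst hbot
    exact hsimple (Or.inl ⟨QuotientGroup.quotientBot.symm.trans e5⟩)
  · exact absurd (Or.inr hL) hsimple

end CfsgLib.SymNine40.PiCent
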