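import Cfsg.Agent.SymNine40.Plane
import Cfsg.Prelude.Def_Transfer

/-!
Centralisers of involutions of the monomial group when all centralisers of translations are local.

* `Ctx.CLe`, `Ctx.Ctl`: an element has its centraliser, respectively its fusion, inside the
  monomial group.
* `Ctx.ctl`: fusion of an involution with local centraliser is local.
* `Ctx.centralizer_quotient`: the centraliser of an involution modulo the involution has a Sylow
  three-subgroup of order nine with known normaliser.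
* `Ctx.core_le`: the centraliser of an involution with an element isolated modulo it.
-/

set_option autoImplicit false
set_option maxRecDepth 20000

open Equiv Subgroup

namespace CfsgLib.SymNine40

open Mw

universe u

theorem ok_three_all : ∀ a : Fin 48, Ok 3 a := by decide +kernel

theorem comm_lin_iff : ∀ (u : Fin 48) (m : Mw), (m * lin u = lin u * m) ↔
    lmul m.w u = lmul u m.w ∧ lact u m.v = m.v := by
  intro u m
  have hz : ∀ a : Fin 48, lact a 0 = 0 := by decide +kernel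
  constructor
  · intro h
    have h1 := congrArg Mw.w h
    have h2 := congrArg Mw.v h
    simp only [Mw.mul_def, lin, hz, add_zero, zero_add] at h1 h2
    exact ⟨h1, h2.symm⟩
  · rintro ⟨h1, h2⟩
    simp only [Mw.mul_def, lin, hz, add_zero, zero_add, h1, h2]

theorem no_fix_table : ∀ m : Mw, m * m = 1 → m ≠ 1 → (∀ j : Vec, lact m.w j = j → j = 0) →
    ∃ v, m = tr v * lin 42 * (tr v)⁻¹ := by decide +kernel

theorem wt1_table : ∀ v : Vec, Wt1 v → ∃ a, lact a e3 = v := by decide +kernel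

namespace Ctx

variable {G : Type u} [Group G] (C : Ctx G 3)

/-- Coordinates as a homomorphism. -/
noncomputable def Xh : Mw →* G where
  toFun := C.X
  map_one' := C.X_one
  map_mul' a b := C.X_mul (ok_three_all a.w) (ok_three_all b.w)

theorem Xh_inj : Function.Injective C.Xh := fun a b h => C.X_inj (ok_three_all a.w) (ok_three_all b.w) h

/-- The centraliser lies in the monomial group. -/
def CLe (m : Mw) : Prop := ∀ g : G, Commute g (C.Xh m) → g ∈ C.N

/-- The fusion is inside the monomial group. -/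
def Ctl (m : Mw) : Prop := ∀ g : G, g * C.Xh m * g⁻¹ ∈ C.N → g ∈ C.N

theorem mem_N' {g : G} : g ∈ C.N ↔ ∃ m, C.Xh m = g :=
  ⟨fun h => by obtain ⟨m, -, e⟩ := C.mem_N.mp h; exact ⟨m, e⟩,
    fun ⟨m, e⟩ => e ▸ C.X_mem_N m⟩

theorem Xh_mem_N (m : Mw) : C.Xh m ∈ C.N := C.X_mem_N m

theorem Xh_commute {a b : Mw} : Commute (C.Xh a) (C.Xh b) ↔ a * b = b * a :=
  C.X_commute (ok_three_all a.w) (ok_three_all b.w)

theorem Xh_conj (a b : Mw) : C.Xh a * C.Xh b * (C.Xh a)⁻¹ = C.Xh (a * b * a⁻¹) := by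
  rw [map_mul, map_mul, map_inv]

theorem Xh_tr (v : Vec) : C.Xh (tr v) = C.T v := rfl

theorem cLe_conj {m : Mw} (h : C.CLe m) (a : Mw) : C.CLe (a * m * a⁻¹) := by
  intro g hg
  have h1 := h ((C.Xh a)⁻¹ * g * C.Xh a) (by
    rw [← C.Xh_conj] at hg
    have := (Commute.conj_iff ((C.Xh a)⁻¹)).mpr hg
    simpa [mul_assoc] using this)
  have := mul_mem (mul_mem (C.X_mem_N a) h1) (inv_mem (C.X_mem_N a))
  change C.Xh a * _ * (C.Xh a)⁻¹ ∈ _ at this
  simpa [mul_assoc] using this

theorem ctl_conj {m : Mw} (h : C.Ctl m) (a : Mw) : C.Ctl (a * m * a⁻¹) := by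
  intro g hg
  have h1 := h (g * C.Xh a) (by
    rw [← C.Xh_conj] at hg
    rw [show g * C.Xh a * C.Xh m * (g * C.Xh a)⁻¹ = g * (C.Xh a * C.Xh m * (C.Xh a)⁻¹) * g⁻¹ by
      group]
    exact hg)
  have := mul_mem h1 (inv_mem (C.X_mem_N a))
  change _ * (C.Xh a)⁻¹ ∈ _ at this
  simpa [mul_assoc] using this

theorem centLe_all [Finite G] (hAll : C.AllLe) (he : C.CentLe e3) (v : Vec) (hv : v ≠ 0) :
    C.CentLe v := by
  by_cases hw : Wt1 v
  · obtain ⟨a, rfl⟩ := wt1_table v hw
    exact C.centLe_conj he (ok_three_all a)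
  · exact hAll v hv fun _ => hw

/-- An involution with local centraliser has local fusion. -/
theorem ctl [Finite G] (hall : ∀ v, v ≠ 0 → C.CentLe v) {u : Mw} (hu : C.CLe u)
    (hu2 : u * u = 1) (hu1 : u ≠ 1)
    (h3 : ∀ m, m * m * m = 1 → m * u = u * m → m.w = 0)
    (hA : ∀ i : Vec, tr i * u = u * tr i → ∀ m, m * u = u * m → m * m = 1 →
      m * (tr i * m * (tr i)⁻¹) = tr i * m * (tr i)⁻¹ * m → tr i * m = m * tr i) : C.Ctl u := by
  intro g hg
  obtain ⟨m, hm⟩ := C.mem_N'.mp hg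
  have hm2 : m * m = 1 := C.Xh_inj (by
    rw [map_mul, map_one, hm,
      show g * C.Xh u * g⁻¹ * (g * C.Xh u * g⁻¹) = g * (C.Xh u * C.Xh u) * g⁻¹ by group,
      ← map_mul, hu2, map_one, mul_one, mul_inv_cancel])
  have hm1 : m ≠ 1 := by
    rintro rfl
    rw [map_one] at hm
    exact hu1 (C.Xh_inj ((conj_eq_one_iff.mp hm.symm).trans C.Xh.map_one.symm))
  -- pulling back a translation
  have back : ∀ {y : G} {n : Mw} {j : Mw}, y * C.Xh u * y⁻¹ = C.Xh n → j * n = n * j →
      Commute (y⁻¹ * C.Xh j * y) (C.Xh u) := by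
    intro y n j hy hj
    have := (Commute.conj_iff y⁻¹).mpr (C.Xh_commute.mpr hj)
    rw [← hy] at this
    simpa [mul_assoc] using this
  by_cases hfix : ∀ j : Vec, lact m.w j = j → j = 0
  · exfalso
    obtain ⟨v, rfl⟩ := no_fix_table m hm2 hm1 hfix
    set h := (C.Xh (tr v))⁻¹ * g with hh
    have hy : h * C.Xh u * h⁻¹ = C.Xh (lin 42) := by
      rw [hh, show (C.Xh (tr v))⁻¹ * g * C.Xh u * ((C.Xh (tr v))⁻¹ * g)⁻¹ =
        (C.Xh (tr v))⁻¹ * (g * C.Xh u * g⁻¹) * C.Xh (tr v) by group, ← hm, map_mul, map_mul,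
        map_inv]
      group
    set c := MulAut.conj h⁻¹ with hc
    have hcv : ∀ x, c x = h⁻¹ * x * h := fun x => by rw [hc, MulAut.conj_apply, inv_inv]
    have hs := back hy (j := lin 3) (by decide +kernel)
    have hn := back hy (j := lin 18) (by decide +kernel)
    obtain ⟨s, hs'⟩ := C.mem_N'.mp (hu _ hs)
    obtain ⟨n, hn'⟩ := C.mem_N'.mp (hu _ hn)
    rw [← hcv] at hs hn hs' hn'
    have hs3 : s * s * s = 1 := C.Xh_inj (by
      rw [map_mul, map_mul, hs', ← map_mul, ← map_mul, ← map_mul, ← map_mul,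
        (by decide +kernel : lin 3 * lin 3 * lin 3 = 1), map_one, map_one])
    have hn2 : n * n = 1 := C.Xh_inj (by
      rw [map_mul, hn', ← map_mul, ← map_mul, (by decide +kernel : lin 18 * lin 18 = 1), map_one,
        map_one])
    rw [← hs', C.Xh_commute] at hs
    rw [← hn', C.Xh_commute] at hn
    have hsw := h3 s hs3 hs
    have hst : s = tr s.v := by rw [tr, ← hsw]
    rw [hst] at hs hs'
    have key := hA s.v hs n hn hn2 (C.Xh_inj (by
      simp only [map_mul, map_inv, hs', hn']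
      rw [← map_inv, ← map_mul, ← map_mul, ← map_mul, ← map_mul, ← map_inv, ← map_mul, ← map_mul,
        ← map_mul, ← map_mul,
        (by decide +kernel : lin 18 * (lin 3 * lin 18 * (lin 3)⁻¹) =
          lin 3 * lin 18 * (lin 3)⁻¹ * lin 18)]))
    have := congrArg C.Xh key
    rw [map_mul, map_mul, hs', hn', ← map_mul, ← map_mul, ← map_mul, ← map_mul] at this
    exact absurd (C.Xh_inj (c.injective this)) (by decide +kernel)
  · push Not at hfix
    obtain ⟨j, hj, hj0⟩ := hfix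
    have hjm : tr j * m = m * tr j := by rw [conj_tr m j, hj]
    have hc := back hm.symm hjm
    obtain ⟨i, hi⟩ := C.mem_N'.mp (hu _ hc)
    rw [← hi, C.Xh_commute] at hc
    have hi3 : i * i * i = 1 := C.Xh_inj (by
      rw [map_mul, map_mul, hi, map_one,
        show g⁻¹ * C.Xh (tr j) * g * (g⁻¹ * C.Xh (tr j) * g) * (g⁻¹ * C.Xh (tr j) * g) =
          g⁻¹ * (C.Xh (tr j) * C.Xh (tr j) * C.Xh (tr j)) * g by group]
      rw [C.Xh_tr, C.T_cube, mul_one, inv_mul_cancel])
    have hiw := h3 i hi3 hc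
    have e : g * C.T i.v * g⁻¹ = C.T j := by
      rw [← C.Xh_tr, show tr i.v = i by rw [tr, ← hiw], hi, C.Xh_tr]; group
    refine C.mem_N_of_conj_T (hall _ fun h0 => hj0 ?_) e
    rw [h0, C.T_zero, mul_one, mul_inv_cancel] at e
    exact C.T_inj (e.symm.trans C.T_zero.symm)

/-- The centraliser of an involution modulo the involution: its Sylow three-subgroup has order
nine and known normaliser. -/
theorem centralizer_quotient [Finite G] (hall : ∀ v, v ≠ 0 → C.CentLe v) (u : Fin 48) (p q : Vec)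
    (hi : ∀ i j : Fin 3, i.val • p + j.val • q = 0 → i = 0 ∧ j = 0)
    (hu : lmul u u = 0) (hu0 : u ≠ 0)
    (hF : ∀ v, lact u v = v ↔ ∃ i j : Fin 3, v = i.val • p + j.val • q)
    (hF9 : Fintype.card {v : Vec // lact u v = v} = 9)
    (n : ℕ) [NeZero n] (hn : n = 2 ∨ n = 4) (ψ : Fin 48 → DihedralGroup n)
    (hψm : ∀ a b, lmul a u = lmul u a → lmul b u = lmul u b → ψ (lmul a b) = ψ a * ψ b)
    (hψs : ∀ k, ∃ a, lmul a u = lmul u a ∧ ψ a = k)
    (hψk : ∀ a, lmul a u = lmul u a → (ψ a = 1 ↔ a = 0 ∨ a = u))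
    (hFp : ∀ a, lmul a u = lmul u a → lact a p = p → lact a q = q → a = 0 ∨ a = u)
    (R : Type) [Group R]
    (step : ∀ (Q : Type u) [Group Q] [Finite Q] (P : Sylow 3 Q),
      Cfsg.IsElementaryAbelian 3 (P : Subgroup Q) → Nat.card (P : Subgroup Q) = 9 →
      centralizer ((P : Subgroup Q) : Set Q) = P →
      Nonempty (normalizer ((P : Subgroup Q) : Set Q) ⧸
        (P : Subgroup Q).subgroupOf (normalizer ((P : Subgroup Q) : Set Q)) ≃* DihedralGroup n) →
      (∀ x ∈ (P : Subgroup Q), x ≠ 1 →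
        centralizer ({x} : Set Q) ≤ normalizer ((P : Subgroup Q) : Set Q)) →
      (P : Subgroup Q).Normal ∨ Nonempty (Q ≃* R)) :
    C.CLe (lin u) ∨ ∃ π : centralizer ({C.Xh (lin u)} : Set G) →* R, Function.Surjective π ∧
      ∀ g, π g = 1 ↔ (g : G) = 1 ∨ (g : G) = C.Xh (lin u) := by
  classical
  set L := centralizer ({C.Xh (lin u)} : Set G) with hL
  have hmem : ∀ g, g ∈ L ↔ Commute g (C.Xh (lin u)) := fun g => mem_centralizer_singleton_iff
  set U := C.Xh (lin u) with hU
  have hU2 : U * U = 1 := by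
    rw [hU, ← map_mul, lin, Mw.mul_def, hu, (by decide +kernel : ∀ a, lact a (0 : Vec) = 0) u,
      add_zero]
    exact C.Xh.map_one
  have hU1 : U ≠ 1 := fun e => hu0 (congrArg Mw.w (C.Xh_inj (e.trans C.Xh.map_one.symm)))
  have hz2 : ∀ x, x ∈ zpowers U → x = 1 ∨ x = U := by
    intro x h
    obtain ⟨i, rfl⟩ := mem_zpowers_iff.mp h
    rcases Int.even_or_odd i with ⟨j, rfl⟩ | ⟨j, rfl⟩
    · left; rw [← two_mul, zpow_mul, zpow_two, hU2, one_zpow]
    · right; rw [zpow_add, zpow_mul, zpow_two, hU2, one_zpow, one_mul, zpow_one]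
  set Z := (zpowers U).subgroupOf L with hZdef
  haveI hZn : Z.Normal := ⟨fun v hv g => by
    rw [hZdef, mem_subgroupOf] at hv ⊢
    have : Commute (g : G) (v : G) := by
      rcases hz2 _ hv with h | h <;> rw [h]
      · exact Commute.one_right _
      · exact (hmem _).mp g.2
    simpa [SymEight40.conj_eq_of_commute this] using hv⟩
  set π := QuotientGroup.mk' Z with hπdef
  have hπ : ∀ g : L, π g = 1 ↔ (g : G) = 1 ∨ (g : G) = U := by
    intro g
    rw [hπdef, QuotientGroup.mk'_apply, QuotientGroup.eq_one_iff, hZdef, mem_subgroupOf]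
    refine ⟨hz2 _, ?_⟩
    rintro (h | h) <;> rw [h]
    exacts [one_mem _, mem_zpowers _]
  have hTL : ∀ v, lact u v = v → C.T v ∈ L := fun v hv => (hmem _).mpr (by
    rw [← C.Xh_tr, hU, C.Xh_commute, comm_lin_iff]
    exact ⟨by rw [tr]; simp only [(lmul_zero u).1, (lmul_zero u).2.1], hv⟩)
  -- the centraliser inside the monomial group
  set Cu := centralizer ({lin u} : Set Mw) with hCu
  have hCmem : ∀ m, m ∈ Cu ↔ lmul m.w u = lmul u m.w ∧ lact u m.v = m.v := fun m =>
    mem_centralizer_singleton_iff.trans (comm_lin_iff u m)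
  have hCL : ∀ m ∈ Cu, C.Xh m ∈ L := fun m hm => (hmem _).mpr
    (C.Xh_commute.mpr (mem_centralizer_singleton_iff.mp hm))
  let S : Subgroup (L ⧸ Z) :=
    { carrier := {x | ∃ v, ∃ h : lact u v = v, π ⟨C.T v, hTL v h⟩ = x}
      one_mem' := ⟨0, (by decide +kernel : ∀ a, lact a (0 : Vec) = 0) u, by
        rw [← π.map_one]; exact congrArg π (Subtype.ext C.T_zero)⟩
      mul_mem' := by
        rintro _ _ ⟨v, hv, rfl⟩ ⟨w, hw, rfl⟩
        exact ⟨v + w, by rw [lact_add, hv, hw], by
          rw [← map_mul]; exact congrArg π (Subtype.ext (C.T_add v w))⟩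
      inv_mem' := by
        rintro _ ⟨v, hv, rfl⟩
        exact ⟨-v, by rw [(by decide +kernel : ∀ a, ∀ w : Vec, lact a (-w) = -lact a w) u v, hv], by
          rw [← map_inv]; exact congrArg π (Subtype.ext (C.T_neg v))⟩ }
  have hSmem : ∀ v (h : lact u v = v), π ⟨C.T v, hTL v h⟩ ∈ S := fun v h => ⟨v, h, rfl⟩
  have hlift : ∀ (g : L) v w (hv : lact u v = v) (hw : lact u w = w),
      π g * π ⟨C.T v, hTL v hv⟩ * (π g)⁻¹ = π ⟨C.T w, hTL w hw⟩ →
        (g : G) * C.T v * (g : G)⁻¹ = C.T w := by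
    intro g v w hv hw h
    rw [← map_inv, ← map_mul, ← map_mul, ← mul_inv_eq_one, ← map_inv, ← map_mul, hπ] at h
    simp only [Subgroup.coe_mul, Subgroup.coe_inv] at h
    rcases h with h | h
    · exact mul_inv_eq_one.mp h
    · exfalso
      have h' : (g : G) * C.T v * (g : G)⁻¹ = U * C.T w := eq_mul_of_mul_inv_eq h
      have hc : Commute U (C.T w) := ((hmem _).mp (hTL w hw)).symm
      have h3 : ((g : G) * C.T v * (g : G)⁻¹) * ((g : G) * C.T v * (g : G)⁻¹) *
          ((g : G) * C.T v * (g : G)⁻¹) = 1 := by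
        calc _ = (g : G) * (C.T v * C.T v * C.T v) * (g : G)⁻¹ := by group
          _ = 1 := by rw [C.T_cube]; group
      rw [h', show U * C.T w * (U * C.T w) * (U * C.T w) =
        U * (C.T w * U) * C.T w * U * C.T w by group, ← hc.eq,
        show U * (U * C.T w) * C.T w * U * C.T w = (U * U) * (C.T w * C.T w) * U * C.T w by group,
        hU2, one_mul, mul_assoc (C.T w * C.T w), hc.eq, ← mul_assoc, C.T_cube, one_mul] at h3
      exact hU1 h3
  have hcomm : ∀ (g : L) v (hv : lact u v = v),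
      π g * π ⟨C.T v, hTL v hv⟩ = π ⟨C.T v, hTL v hv⟩ * π g → Commute (g : G) (C.T v) :=
    fun g v hv h => SymEight40.commute_of_conj_eq (hlift g v v hv hv (mul_inv_eq_iff_eq_mul.mpr h))
  have hScard : Nat.card S = 3 ^ 2 := by
    let f : {v : Vec // lact u v = v} → S := fun v => ⟨π ⟨C.T v.1, hTL v.1 v.2⟩, hSmem v.1 v.2⟩
    have hf : Function.Bijective f := by
      refine ⟨fun a b h => Subtype.ext ?_, fun x => ?_⟩
      · have h' : π ⟨C.T a.1, hTL a.1 a.2⟩ = π ⟨C.T b.1, hTL b.1 b.2⟩ :=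
          congrArg (fun x : S => (x : L ⧸ Z)) h
        have := hlift 1 a.1 b.1 a.2 b.2 (by rw [map_one, one_mul, inv_one, mul_one, h'])
        exact C.T_inj (by simpa using this)
      · obtain ⟨x, v, hv, rfl⟩ := x
        exact ⟨⟨v, hv⟩, rfl⟩
    rw [← Nat.card_eq_of_bijective f hf, Nat.card_eq_fintype_card, hF9]
    rfl
  have hNS : ∀ g : L, π g ∈ normalizer (S : Set (L ⧸ Z)) ↔ (g : G) ∈ C.N := by
    intro g
    constructor
    · intro hg
      have key : ∀ v, lact u v = v → ∃ i j : Fin 3,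
          (g : G) * C.T v * (g : G)⁻¹ = C.T (i.val • p + j.val • q) := by
        intro v hv
        obtain ⟨w, hw, hwe⟩ := (mem_normalizer_iff.mp hg _).mp (hSmem v hv)
        obtain ⟨i, j, rfl⟩ := (hF w).mp hw
        exact ⟨i, j, hlift g v _ hv hw hwe.symm⟩
      exact C.norm_plane hi (key p ((hF p).mpr ⟨1, 0, by simp⟩))
        (key q ((hF q).mpr ⟨0, 1, by simp⟩))
    · intro hg
      obtain ⟨m, hm⟩ := C.mem_N'.mp hg
      refine mem_normalizer_fintype ?_
      rintro _ ⟨v, hv, rfl⟩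
      have hmu : m * lin u = lin u * m := C.Xh_commute.mp (hm ▸ (hmem _).mp g.2)
      have hfix : lact u (lact m.w v) = lact m.w v := by
        rw [← lact_lmul, ← ((comm_lin_iff u m).mp hmu).1, lact_lmul, hv]
      refine ⟨_, hfix, ?_⟩
      rw [← map_inv, ← map_mul, ← map_mul]
      refine congrArg π (Subtype.ext ?_)
      simp only [Subgroup.coe_mul, Subgroup.coe_inv]
      rw [← hm]
      exact (C.X_conj_T (ok_three_all m.w) v).symm
  let φ : Cu →* normalizer (S : Set (L ⧸ Z)) := MonoidHom.mk'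
    (fun m => ⟨π ⟨C.Xh m, hCL m m.2⟩, (hNS _).mpr (C.X_mem_N m.1)⟩) (fun a b => Subtype.ext ((congrArg π (Subtype.ext (map_mul C.Xh a.1 b.1) :
      (⟨C.Xh (a * b : Cu).1, hCL _ (a * b).2⟩ : L) =
        ⟨C.Xh a.1, hCL _ a.2⟩ * ⟨C.Xh b.1, hCL _ b.2⟩)).trans (map_mul π _ _)))
  have hφsurj : Function.Surjective φ := by
    rintro ⟨x, hx⟩
    obtain ⟨g, rfl⟩ := QuotientGroup.mk'_surjective Z x
    obtain ⟨m, hm⟩ := C.mem_N'.mp ((hNS g).mp hx)
    refine ⟨⟨m, mem_centralizer_singleton_iff.mpr (C.Xh_commute.mp (hm ▸ (hmem _).mp g.2))⟩,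
      Subtype.ext ?_⟩
    exact congrArg π (Subtype.ext hm)
  let Ψ : Cu →* DihedralGroup n := MonoidHom.mk' (fun m => ψ m.1.w) (fun a b =>
    hψm a.1.w b.1.w ((hCmem _).mp a.2).1 ((hCmem _).mp b.2).1)
  have hΨsurj : Function.Surjective Ψ := fun k => by
    obtain ⟨a, ha, e⟩ := hψs k
    exact ⟨⟨lin a, (hCmem _).mpr ⟨ha, (by decide +kernel : ∀ a, lact a (0 : Vec) = 0) u⟩⟩, e⟩
  set S' := S.subgroupOf (normalizer (S : Set (L ⧸ Z))) with hS'
  let Φ := (QuotientGroup.mk' S').comp φ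
  have hΦ : Function.Surjective Φ := (QuotientGroup.mk'_surjective _).comp hφsurj
  have hker : Φ.ker = Ψ.ker := by
    ext ⟨m, hm⟩
    obtain ⟨hm1, hm2⟩ := (hCmem m).mp hm
    rw [MonoidHom.mem_ker, MonoidHom.mem_ker]
    change QuotientGroup.mk' S' (φ ⟨m, hm⟩) = 1 ↔ ψ m.w = 1
    rw [QuotientGroup.mk'_apply, QuotientGroup.eq_one_iff, hS', mem_subgroupOf, hψk _ hm1]
    constructor
    · rintro ⟨v, hv, hve⟩
      have h1 : π (⟨C.Xh m, hCL m hm⟩⁻¹ * ⟨C.T v, hTL v hv⟩) = 1 := by
        rw [map_mul, map_inv, hve]; exact inv_mul_cancel _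
      rcases (hπ _).mp h1 with e | e <;> simp only [Subgroup.coe_mul, Subgroup.coe_inv] at e
      · left
        rw [inv_mul_eq_one, ← C.Xh_tr] at e
        exact congrArg Mw.w (C.Xh_inj e)
      · right
        rw [inv_mul_eq_iff_eq_mul, ← C.Xh_tr, hU, ← map_mul] at e
        have := congrArg Mw.w (C.Xh_inj e)
        change 0 = lmul m.w u at this
        have h2 := congrArg (fun a => lmul a u) this
        rw [lmul_assoc, hu, (lmul_zero m.w).1, (lmul_zero u).2.1] at h2
        exact h2.symm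
    · intro h
      refine ⟨m.v, hm2, ?_⟩
      change π ⟨C.T m.v, _⟩ = π ⟨C.Xh m, _⟩
      rcases h with h | h
      · exact congrArg π (Subtype.ext (congrArg C.Xh (by rw [tr, ← h] : tr m.v = m)))
      · rw [← mul_inv_eq_one, ← map_inv, ← map_mul, hπ]
        right
        have hmu : m = tr m.v * lin u := by
          rw [tr, lin, Mw.mul_def, lact_zero, add_zero, (lmul_zero u).2.1, ← h]
        simp only [Subgroup.coe_mul, Subgroup.coe_inv]
        rw [mul_inv_eq_iff_eq_mul, eq_comm]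
        rw [hU, ← map_mul]
        conv_rhs => rw [← C.Xh_tr]
        refine congrArg C.Xh ?_
        have hu2 : lin u * lin u = 1 := C.Xh_inj (by rw [map_mul, map_one]; exact hU2)
        calc lin u * m = m * lin u := (mem_centralizer_singleton_iff.mp hm).symm
          _ = tr m.v * (lin u * lin u) := by rw [← mul_assoc, ← hmu]
          _ = tr m.v := by rw [hu2, mul_one]
  let eN := ((QuotientGroup.quotientKerEquivOfSurjective Φ hΦ).symm.trans
    (QuotientGroup.quotientMulEquivOfEq hker)).trans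
      (QuotientGroup.quotientKerEquivOfSurjective Ψ hΨsurj)
  obtain ⟨P, hP⟩ := (IsPGroup.of_card hScard).exists_le_sylow
  have hSP : S = (P : Subgroup (L ⧸ Z)) := by
    have : Fact (Nat.Prime 3) := ⟨Nat.prime_three⟩
    refine Subgroup.eq_of_le_of_card_ge hP ?_
    obtain ⟨k, hk⟩ := P.2.exists_card_eq
    have hk2 : k ≤ 2 := by
      by_contra hlt
      have h3 := Sylow.prime_dvd_card_quotient_normalizer (p := 3) (n := 2)
        ((pow_dvd_pow 3 (by omega : 3 ≤ k)).trans (hk ▸ Subgroup.card_subgroup_dvd_card _)) hScard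
      change 3 ∣ Nat.card (normalizer (S : Set (L ⧸ Z)) ⧸ S') at h3
      rw [Nat.card_congr eN.toEquiv, DihedralGroup.nat_card] at h3
      rcases hn with rfl | rfl <;> norm_num at h3
    rw [hk, hScard]
    exact Nat.pow_le_pow_right (by norm_num) hk2
  have hCS : centralizer (S : Set (L ⧸ Z)) = S := by
    refine le_antisymm (fun x hx => ?_) ?_
    · obtain ⟨g, rfl⟩ := QuotientGroup.mk'_surjective Z x
      have hc : ∀ v, lact u v = v → Commute (g : G) (C.T v) := fun v hv =>
        hcomm g v hv (mem_centralizer_iff.mp hx _ (hSmem v hv)).symm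
      have hp := (hF p).mpr ⟨1, 0, by simp⟩
      have hq := (hF q).mpr ⟨0, 1, by simp⟩
      obtain ⟨m, hm⟩ := C.mem_N'.mp (C.cent_plane hi (hc p hp) (hc q hq))
      have hmu : m ∈ Cu := mem_centralizer_singleton_iff.mpr
        (C.Xh_commute.mp (hm ▸ (hmem _).mp g.2))
      have hfix : ∀ v, lact u v = v → lact m.w v = v := fun v hv => C.T_inj (by
        rw [← C.X_conj_T (ok_three_all m.w)]
        change C.Xh m * C.T v * (C.Xh m)⁻¹ = C.T v
        rw [hm]; exact SymEight40.conj_eq_of_commute (hc v hv))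
      have h0 := hFp m.w ((hCmem m).mp hmu).1 (hfix p hp) (hfix q hq)
      have hk : (⟨m, hmu⟩ : Cu) ∈ Φ.ker := by
        rw [hker, MonoidHom.mem_ker]
        exact (hψk m.w ((hCmem m).mp hmu).1).mpr h0
      have h1 : φ ⟨m, hmu⟩ ∈ S' := (QuotientGroup.eq_one_iff _).mp hk
      rw [show π g = π ⟨C.Xh m, hCL m hmu⟩ from congrArg π (Subtype.ext hm.symm)]
      exact h1
    · rintro _ ⟨v, hv, rfl⟩
      rw [mem_centralizer_iff]
      rintro _ ⟨w, hw, rfl⟩
      rw [← map_mul, ← map_mul]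
      exact congrArg π (Subtype.ext (C.T_comm w v).eq)
  have hel : Cfsg.IsElementaryAbelian 3 S := by
    refine ⟨⟨⟨fun a b => Subtype.ext ?_⟩⟩, ?_⟩
    · exact mem_centralizer_iff.mp (hCS.symm.le b.2) a a.2
    · rintro _ ⟨v, hv, rfl⟩
      rw [pow_succ, pow_two, ← map_mul, ← map_mul, ← π.map_one]
      exact congrArg π (Subtype.ext (C.T_cube v))
  have hcent : ∀ x ∈ S, x ≠ 1 →
      centralizer ({x} : Set (L ⧸ Z)) ≤ normalizer (S : Set (L ⧸ Z)) := by
    rintro _ ⟨v, hv, rfl⟩ hv1 x hx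
    obtain ⟨g, rfl⟩ := QuotientGroup.mk'_surjective Z x
    refine (hNS g).mpr (hall v (fun h0 => hv1 ?_) _
      (hcomm g v hv (mem_centralizer_singleton_iff.mp hx)))
    subst h0
    exact (hπ _).mpr (Or.inl C.T_zero)
  rcases step (L ⧸ Z) P (hSP ▸ hel) (hSP ▸ hScard) (hSP ▸ hCS) (hSP ▸ ⟨eN⟩) (hSP ▸ hcent) with
    hnorm | ⟨⟨e⟩⟩
  · left
    intro g hg
    refine (hNS ⟨g, (hmem g).mpr hg⟩).mp ?_
    rw [hSP, Subgroup.normalizer_eq_top_iff.mpr hnorm]
    exact mem_top _
  · right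
    refine ⟨e.toMonoidHom.comp π, e.surjective.comp (QuotientGroup.mk'_surjective Z), fun g => ?_⟩
    rw [MonoidHom.comp_apply, MulEquiv.coe_toMonoidHom, MulEquiv.map_eq_one_iff, hπ]

/-- The centraliser of an involution with a second involution isolated modulo it. -/
theorem core_le [Finite G] (hall : ∀ v, v ≠ 0 → C.CentLe v) (v t r : Fin 48) (f : Vec)
    (hv : lmul v v = 0) (ht : lmul t t = 0) (hr : lmul r r = 0) (htv : t ≠ v) (ht0 : t ≠ 0)
    (hrv : lmul r v = lmul v r) (hfv : lact v f = f) (hf : f ≠ 0) (hrf : lact r f = -f)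
    (hCr : C.CLe (lin r)) (htc : C.Ctl (lin t))
    (hd : ∀ g, Commute g (C.Xh (lin v)) →
      (g * C.Xh (lin t) * g⁻¹ * C.Xh (lin t) * (g * C.Xh (lin t) * g⁻¹) * C.Xh (lin t) = 1 ∨
        g * C.Xh (lin t) * g⁻¹ * C.Xh (lin t) * (g * C.Xh (lin t) * g⁻¹) * C.Xh (lin t) =
          C.Xh (lin v)) → g * C.Xh (lin t) * g⁻¹ ∈ C.N)
    (htvc : lmul t v = lmul v t)
    (Fa : ∀ m, m * lin v = lin v * m →
      (m * lin t * m⁻¹ * lin t * (m * lin t * m⁻¹) * lin t = 1 ∨
        m * lin t * m⁻¹ * lin t * (m * lin t * m⁻¹) * lin t = lin v) →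
      m * lin t * m⁻¹ = lin t ∨ m * lin t * m⁻¹ = lin t * lin v)
    (Fb : ∀ m, m * lin v = lin v * m → m * lin r = lin r * m →
      m * m * (m * m) * (m * m * (m * m)) = 1) : C.CLe (lin v) := by
  classical
  set L := centralizer ({C.Xh (lin v)} : Set G) with hL
  have hmem : ∀ g, g ∈ L ↔ Commute g (C.Xh (lin v)) := fun g => mem_centralizer_singleton_iff
  have hz : ∀ a, lact a (0 : Vec) = 0 := by decide +kernel
  have hsq : ∀ a, lmul a a = 0 → lin a * lin a = 1 := fun a h => by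
    rw [lin, Mw.mul_def, hz, add_zero, h]; rfl
  have hlin : ∀ a, lmul a v = lmul v a → lin a * lin v = lin v * lin a := fun a h =>
    (comm_lin_iff v (lin a)).mpr ⟨h, hz v⟩
  have hvL : C.Xh (lin v) ∈ L := (hmem _).mpr (Commute.refl _)
  have htL : C.Xh (lin t) ∈ L := (hmem _).mpr (C.Xh_commute.mpr (hlin t htvc))
  have hne : lin t ≠ lin v := fun e => htv (congrArg Mw.w e)
  have hne1 : lin t ≠ 1 := fun e => ht0 (congrArg Mw.w e)
  obtain ⟨W, hWn, hWodd, hW⟩ := SymEight40.exists_core (⟨_, htL⟩ : L) ⟨_, hvL⟩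
    (Subtype.ext (by rw [Subgroup.coe_mul, ← map_mul, hsq t ht]; exact C.Xh.map_one))
    (Subtype.ext (by rw [Subgroup.coe_mul, ← map_mul, hsq v hv]; exact C.Xh.map_one))
    (fun g => Subtype.ext ((hmem g).mp g.2).eq)
    (fun e => hne (C.Xh_inj (congrArg Subtype.val e)))
    (fun e => hne1 (C.Xh_inj ((congrArg Subtype.val e).trans C.Xh.map_one.symm))) (by
    intro g hg
    have hg' := hd (g : G) ((hmem _).mp g.2) (by
      rcases hg with h | h
      · exact Or.inl (congrArg Subtype.val h)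
      · exact Or.inr (congrArg Subtype.val h))
    obtain ⟨m, hm⟩ := C.mem_N'.mp (htc _ hg')
    have hmv := C.Xh_commute.mp (hm ▸ (hmem _).mp g.2)
    have := Fa m hmv (by
      rcases hg with h | h
      · exact Or.inl (C.Xh_inj (by
          have h' := congrArg Subtype.val h
          simp only [Subgroup.coe_mul, Subgroup.coe_inv, ← hm] at h'
          simpa [map_mul, map_inv] using h'))
      · exact Or.inr (C.Xh_inj (by
          have h' := congrArg Subtype.val h
          simp only [Subgroup.coe_mul, Subgroup.coe_inv, ← hm] at h'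
          simpa [map_mul, map_inv] using h')))
    rcases this with h | h
    · left
      refine Subtype.ext ?_
      simp only [Subgroup.coe_mul, Subgroup.coe_inv, ← hm]
      rw [C.Xh_conj, h]
    · right
      refine Subtype.ext ?_
      simp only [Subgroup.coe_mul, Subgroup.coe_inv, ← hm]
      rw [C.Xh_conj, h, map_mul])
  -- an involution without fixed points on the core
  have hrL : C.Xh (lin r) ∈ L := (hmem _).mpr (C.Xh_commute.mpr (hlin r hrv))
  have hfix : ∀ x ∈ W, Commute (x : G) (C.Xh (lin r)) → x = 1 := by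
    intro x hx hxr
    obtain ⟨m, hm⟩ := C.mem_N'.mp (hCr _ hxr)
    have h8 := congrArg C.Xh (Fb m (C.Xh_commute.mp (hm ▸ (hmem _).mp x.2))
      (C.Xh_commute.mp (hm ▸ hxr)))
    simp only [map_mul, map_one, hm] at h8
    have h8' : x * x * (x * x) * (x * x * (x * x)) = 1 := Subtype.ext (by
      simpa only [Subgroup.coe_mul, Subgroup.coe_one] using h8)
    have hx2 : x * x ∈ W := mul_mem hx hx
    exact SymEight40.eq_one_of_sq_odd hWodd hx (SymEight40.eq_one_of_sq_odd hWodd hx2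
      (SymEight40.eq_one_of_sq_odd hWodd (mul_mem hx2 hx2) h8'))
  have hTfL : C.T f ∈ L := (hmem _).mpr (by
    rw [← C.Xh_tr, C.Xh_commute, comm_lin_iff]
    exact ⟨by rw [tr]; simp only [(lmul_zero v).1, (lmul_zero v).2.1], hfv⟩)
  set a : L := ⟨_, hrL⟩ with ha
  set j : L := ⟨_, hTfL⟩ with hj
  set b : L := j * a * j⁻¹ with hb
  have ha2 : a * a = 1 := Subtype.ext (by
    rw [ha, Subgroup.coe_mul, ← map_mul, hsq r hr]; exact C.Xh.map_one)
  have hb2 : b * b = 1 := by rw [hb, SymEight40.conj_sq ha2]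
  have hnorm : ∀ c : L, c * c = 1 → ∀ x ∈ W, c * x * c ∈ W := by
    intro c hc x hx
    have := hWn.conj_mem x hx c
    rwa [SymEight40.inv_of_sq hc] at this
  have hia := SymEight40.inverted_of_fixfree W ha2 (hnorm a ha2) fun x hx h =>
    hfix x hx (congrArg Subtype.val h.symm.eq)
  have hib := SymEight40.inverted_of_fixfree W hb2 (hnorm b hb2) fun x hx h => by
    have hx' : j⁻¹ * x * j ∈ W := by simpa using hWn.conj_mem x hx j⁻¹
    have hc : Commute (j⁻¹ * x * j) a := by
      have := (Commute.conj_iff j⁻¹).mpr h.symm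
      rw [hb] at this
      simpa [mul_assoc] using this
    have := hfix _ hx' (congrArg Subtype.val hc.eq)
    rwa [show j⁻¹ * x * j = j⁻¹ * x * (j⁻¹)⁻¹ by rw [inv_inv], conj_eq_one_iff] at this
  have hba : ((b * a : L) : G) = C.T (-f) := by
    simp only [hb, ha, hj, Subgroup.coe_mul, Subgroup.coe_inv]
    rw [← C.T_neg, mul_assoc (C.T f), mul_assoc, mul_assoc,
      show C.T (-f) * C.Xh (lin r) = C.Xh (lin r) * C.T f by
        have := C.X_conj_T (a := lin r) (ok_three_all r) f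
        rw [show lact (lin r).w f = -f from hrf] at this
        rw [← this]
        change C.Xh (lin r) * C.T f * (C.Xh (lin r))⁻¹ * C.Xh (lin r) = _
        rw [inv_mul_cancel_right],
      ← mul_assoc (C.Xh (lin r)), ← map_mul, hsq r hr, map_one, one_mul, ← C.T_add]
    exact congrArg C.T ((by decide +kernel : ∀ w : Vec, w + w = -w) f)
  have hWN : ∀ x ∈ W, (x : G) ∈ C.N := fun x hx =>
    hall (-f) (neg_ne_zero.mpr hf) _ (by
      rw [← hba]
      exact (congrArg Subtype.val
        (SymEight40.commute_mul_of_inverted hb2 ha2 hib hia x hx).eq).symm)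
  intro g hg
  obtain ⟨x, hx, hxg⟩ := hW ⟨g, (hmem g).mpr hg⟩
  have hxgN : (x : G) * g ∈ C.N := by
    refine htc _ ?_
    rcases hxg with h | h
    all_goals
      have h' := congrArg Subtype.val h
      simp only [Subgroup.coe_mul, Subgroup.coe_inv] at h'
      rw [h']
    · exact C.X_mem_N _
    · exact mul_mem (C.X_mem_N _) (C.X_mem_N _)
  simpa using mul_mem (inv_mem (hWN x hx)) hxgN

end Ctx

end CfsgLib.SymNine40
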